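import Groth.Agent.SiteCoh.ExtCompare
import Groth.Agent.EtCore45.MVSect
import Groth.Prelude.Def_EtLim

/-!
Pullback followed by a morphism, on étale cohomology: naturality, connecting maps and degree zero.
-/

set_option autoImplicit false
set_option backward.isDefEq.respectTransparency.types false
universe u

open CategoryTheory CategoryTheory.Limits CategoryTheory.Abelian AlgebraicGeometry Opposite
open Groth.Agent.EtCore45.MV

namespace Groth.Agent.EtLim45

variable {X Y : Scheme.{u}} (u : X ⟶ Y) [PreservesFiniteLimits (EtCoh.pull u)]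

theorem HF_map_apply {F F' : EtCoh.Ab X} (f : F ⟶ F') (n : ℕ) (x : EtCoh.H X F n) :
    (EtCoh.HF X n).map f x = x.comp (Ext.mk₀ f) (add_zero n) := rfl

theorem HpullThen_apply {F : EtCoh.Ab Y} {M : EtCoh.Ab X} (α : (EtCoh.pull u).obj F ⟶ M) (n : ℕ)
    (x : EtCoh.H Y F n) : EtLim.HpullThen u F α n x =
      (SiteCoh.extTransfer (EtCoh.pull u) (EtCore.pullConst u ℤ).inv F n x).comp (Ext.mk₀ α) (add_zero n) := rfl

theorem HpullThen_natural {F F' : EtCoh.Ab Y} {M M' : EtCoh.Ab X} (f : F ⟶ F') (g : M ⟶ M')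
    (α : (EtCoh.pull u).obj F ⟶ M) (α' : (EtCoh.pull u).obj F' ⟶ M')
    (w : (EtCoh.pull u).map f ≫ α' = α ≫ g) (n : ℕ) (x : EtCoh.H Y F n) :
    EtLim.HpullThen u F' α' n (x.comp (Ext.mk₀ f) (add_zero n)) =
      (EtLim.HpullThen u F α n x).comp (Ext.mk₀ g) (add_zero n) := by
  rw [HpullThen_apply, HpullThen_apply, SiteCoh.extTransfer_naturality, Ext.comp_assoc_of_second_deg_zero,
    Ext.comp_assoc_of_second_deg_zero, Ext.mk₀_comp_mk₀, Ext.mk₀_comp_mk₀, w]

theorem HpullThen_extClass {S : ShortComplex (EtCoh.Ab Y)} (hS : S.ShortExact) {T : ShortComplex (EtCoh.Ab X)}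
    (hT : T.ShortExact) (φ : S.map (EtCoh.pull u) ⟶ T) {n m : ℕ} (h : n + 1 = m) (x : EtCoh.H Y S.X₃ n) :
    EtLim.HpullThen u S.X₁ φ.τ₁ m (x.comp hS.extClass h) =
      (EtLim.HpullThen u S.X₃ φ.τ₃ n x).comp hT.extClass h := by
  rw [HpullThen_apply, HpullThen_apply, SiteCoh.extTransfer_comp, Ext.mapExactFunctor_extClass _ hS,
    Ext.comp_assoc_of_third_deg_zero, Ext.comp_assoc_of_second_deg_zero]
  exact congrArg (fun z => Ext.comp _ z h)
    (ShortComplex.ShortExact.extClass_naturality (hS.map_of_exact (EtCoh.pull u)) hT φ)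

theorem bijective_sectZero (F : EtCoh.Ab X) :
    Function.Bijective (fun ψ : EtCoh.const X ℤ ⟶ F => (Ext.mk₀ ψ : EtCoh.H X F 0)) :=
  Ext.mk₀_bijective _ _

/-- The section of a class in degree zero. -/
noncomputable def sect0 {F : EtCoh.Ab X} (x : EtCoh.H X F 0) : EtCoh.sect F (EtCoh.top X) :=
  oneSect ((Equiv.ofBijective _ (bijective_sectZero F)).symm x)

theorem sect0_mk₀ {F : EtCoh.Ab X} (ψ : EtCoh.const X ℤ ⟶ F) :
    sect0 (Ext.mk₀ ψ : EtCoh.H X F 0) = oneSect ψ :=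
  congrArg oneSect ((Equiv.ofBijective _ (bijective_sectZero F)).symm_apply_apply ψ)

theorem sect0_bijective (F : EtCoh.Ab X) : Function.Bijective (sect0 (F := F)) :=
  (oneSect_bijective F).comp (Equiv.ofBijective _ (bijective_sectZero F)).symm.bijective

theorem sect0_add {F : EtCoh.Ab X} (x y : EtCoh.H X F 0) : sect0 (x + y) = sect0 x + sect0 y := by
  obtain ⟨φ, rfl⟩ := (bijective_sectZero F).2 x
  obtain ⟨ψ, rfl⟩ := (bijective_sectZero F).2 y
  rw [← Ext.mk₀_add, sect0_mk₀, sect0_mk₀, sect0_mk₀, oneSect_add]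

theorem sect0_zero {F : EtCoh.Ab X} : sect0 (0 : EtCoh.H X F 0) = 0 := by
  have h := sect0_add (0 : EtCoh.H X F 0) 0
  rwa [add_zero, left_eq_add] at h

theorem adj_unitSect {F : EtCoh.Ab Y} {M : EtCoh.Ab X} (β : F ⟶ (EtCoh.push u).obj M) (V : Y.Etale)
    (s : EtCoh.sect F V) :
    (((EtCoh.pullPushAdj u).homEquiv F M).symm β).hom.app (op ((EtCoh.bc u).obj V)) (unitSect u F V s) =
      β.hom.app (op V) s := by
  have h : (EtCoh.pullPushAdj u).unit.app F ≫ (EtCoh.push u).map (((EtCoh.pullPushAdj u).homEquiv F M).symm β) = β :=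
    ((EtCoh.pullPushAdj u).homEquiv_unit _ _ _).symm.trans (Equiv.apply_symm_apply _ _)
  exact ConcreteCategory.congr_hom (congrArg (fun k => k.hom.app (op V)) h) s

/-- Degree zero of pullback followed by a transposed morphism. -/
theorem sect0_HpullThen {F : EtCoh.Ab Y} {M : EtCoh.Ab X} (β : F ⟶ (EtCoh.push u).obj M) (x : EtCoh.H Y F 0) :
    sect0 (EtLim.HpullThen u F (((EtCoh.pullPushAdj u).homEquiv F M).symm β) 0 x) =
      M.obj.map (EtCore.bcTopIso u).inv.op (β.hom.app (op (EtCoh.top Y)) (sect0 x)) := by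
  obtain ⟨ψ, rfl⟩ := (bijective_sectZero F).2 x
  rw [HpullThen_apply, SiteCoh.extTransfer_mk₀, Ext.mk₀_comp_mk₀, sect0_mk₀, sect0_mk₀, oneSect_comp, oneSect_pull,
    ← adj_unitSect u β]
  exact NatTrans.naturality_apply (((EtCoh.pullPushAdj u).homEquiv F M).symm β).hom (EtCore.bcTopIso u).inv.op _

end Groth.Agent.EtLim45
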