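import Groth.Agent.EtCore45.DerivedOfComplex
import Groth.Agent.EtLim45.Then

/-!
Cohomology after an exact functor, effaceable on injectives, is a derived functor.
-/

set_option autoImplicit false
set_option backward.isDefEq.respectTransparency.types false
set_option linter.unusedSectionVars false
universe u v w

open CategoryTheory CategoryTheory.Limits CategoryTheory.Abelian AlgebraicGeometry Opposite

namespace Groth.Agent.EtLim45

variable {A : Type w} [Category.{v} A] [Abelian A] {X : Scheme.{u}} (T : A ⥤ EtCoh.Ab X) [T.Additive]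
  [PreservesFiniteLimits T] [PreservesFiniteColimits T]

instance additive_HF (n : ℕ) : (EtCoh.HF X n).Additive :=
  by
  unfold EtCoh.HF
  infer_instance

/-- Cohomology after `T`, as a delta functor. -/
noncomputable def hDelta : DeltaF.CohDeltaFunctor A AddCommGrpCat.{u + 1} ℕ where
  F n := T ⋙ EtCoh.HF X n
  additive _ := inferInstance
  δ S hS n₀ n₁ h := AddCommGrpCat.ofHom
    (AddMonoidHom.mk' (fun x : EtCoh.H X (T.obj S.X₃) n₀ => x.comp (hS.map_of_exact T).extClass h)
      fun _ _ => Ext.add_comp _ _ _ _)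
  δ_natural {S S'} hS hS' φ n₀ n₁ h := ConcreteCategory.hom_ext _ _ fun (x : EtCoh.H X (T.obj S.X₃) n₀) => by
    change (x.comp (Ext.mk₀ (T.map φ.τ₃)) (add_zero n₀)).comp (hS'.map_of_exact T).extClass h =
      (x.comp (hS.map_of_exact T).extClass h).comp (Ext.mk₀ (T.map φ.τ₁)) (add_zero n₁)
    rw [Ext.comp_assoc_of_second_deg_zero, Ext.comp_assoc_of_third_deg_zero]
    exact congrArg (fun z => Ext.comp x z h) (ShortComplex.ShortExact.extClass_naturality
      (hS.map_of_exact T) (hS'.map_of_exact T) (T.mapShortComplex.map φ)).symm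
  exact₂ S hS n := (ShortComplex.ab_exact_iff _).2 fun x hx =>
    Ext.covariant_sequence_exact₂ _ (hS.map_of_exact T) x hx
  comp_δ S hS n₀ n₁ h := ConcreteCategory.hom_ext _ _ fun (x : EtCoh.H X (T.obj S.X₂) n₀) => by
    change (x.comp (Ext.mk₀ (T.map S.g)) (add_zero n₀)).comp (hS.map_of_exact T).extClass h = 0
    rw [Ext.comp_assoc_of_second_deg_zero]
    exact (congrArg (fun z => Ext.comp x z h) (hS.map_of_exact T).comp_extClass).trans (Ext.comp_zero _ _ _ _ _)
  exact₃ S hS n₀ n₁ h := (ShortComplex.ab_exact_iff _).2 fun x hx =>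
    Ext.covariant_sequence_exact₃ _ (hS.map_of_exact T) x h hx
  δ_comp S hS n₀ n₁ h := ConcreteCategory.hom_ext _ _ fun (x : EtCoh.H X (T.obj S.X₃) n₀) => by
    change (x.comp (hS.map_of_exact T).extClass h).comp (Ext.mk₀ (T.map S.f)) (add_zero n₁) = 0
    rw [Ext.comp_assoc_of_third_deg_zero]
    exact (congrArg (fun z => Ext.comp x z h) (hS.map_of_exact T).extClass_comp).trans (Ext.comp_zero _ _ _ _ _)
  exact₁ S hS n₀ n₁ h := (ShortComplex.ab_exact_iff _).2 fun x hx =>
    Ext.covariant_sequence_exact₁ _ (hS.map_of_exact T) x hx h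

/-- Cohomology after `T` is the derived functor of its degree zero part. -/
theorem nonempty_iso_rightDerived [HasInjectiveResolutions A]
    (hinj : ∀ (I : A), Injective I → ∀ n : ℕ, Subsingleton (EtCoh.H X (T.obj I) (n + 1))) (p : ℕ) :
    Nonempty (T ⋙ EtCoh.HF X p ≅ (T ⋙ EtCoh.HF X 0).rightDerived p) := by
  have : PreservesFiniteLimits (T ⋙ EtCoh.HF X 0) := by
    refine ((Functor.preservesFiniteLimits_tfae _).out 0 3).1 fun S hS => ?_
    refine ⟨(hDelta T).exact₂ S hS 0, (AddCommGrpCat.mono_iff_injective _).2 ?_⟩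
    refine (injective_iff_map_eq_zero ((T ⋙ EtCoh.HF X 0).map S.f).hom).2 fun (x : EtCoh.H X (T.obj S.X₁) 0) hx => ?_
    obtain ⟨φ, rfl⟩ := (Ext.mk₀_bijective _ _).2 x
    have hm : Mono (T.map S.f) := (hS.map_of_exact T).mono_f
    have h0 : φ ≫ T.map S.f = 0 := (Ext.mk₀_bijective _ _).1
      (((Ext.mk₀_comp_mk₀ φ (T.map S.f)).symm.trans hx).trans (Ext.mk₀_zero _ _).symm)
    exact (congrArg Ext.mk₀ ((cancel_mono (T.map S.f)).1 (h0.trans zero_comp.symm))).trans (Ext.mk₀_zero _ _)
  obtain ⟨Δ⟩ := RD97.nonempty_derivedLES (T ⋙ EtCoh.HF X 0)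
  have hT : (hDelta T).IsUniversal :=
    DeltaF50.isUniversal_of_isEffaceable (fun n Y =>
      ⟨(injectiveResolution Y).cocomplex.X 0, RD97.aug (injectiveResolution Y), inferInstance, by
        have := hinj ((injectiveResolution Y).cocomplex.X 0) inferInstance n
        exact ConcreteCategory.hom_ext _ _ fun x => Subsingleton.elim (α := EtCoh.H X _ (n + 1)) _ _⟩)
  obtain ⟨φ, -, -⟩ := DeltaF50.existsUnique_iso_of_isUniversal (RD97.isUniversal _ Δ) hT
    (T ⋙ EtCoh.HF X 0).rightDerivedZeroIsoSelf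
  exact ⟨{ hom := φ.inv.app p
           inv := φ.hom.app p
           hom_inv_id := (DeltaF.CohDeltaFunctor.comp_app φ.inv φ.hom p).symm.trans
             (congrArg (fun q => DeltaF.CohDeltaFunctor.Hom.app q p) φ.inv_hom_id)
           inv_hom_id := (DeltaF.CohDeltaFunctor.comp_app φ.hom φ.inv p).symm.trans
             (congrArg (fun q => DeltaF.CohDeltaFunctor.Hom.app q p) φ.hom_inv_id) }⟩

/-- Degree zero cohomology is the functor of global sections. -/
noncomputable def HF0Iso (X : Scheme.{u}) : EtCoh.HF X 0 ≅ EtCore.gsec X :=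
  NatIso.ofComponents
    (fun F => (AddEquiv.ofBijective (AddMonoidHom.mk' (sect0 (F := F)) sect0_add)
      (sect0_bijective F)).toAddCommGrpIso)
    fun {F G} f => ConcreteCategory.hom_ext _ _ fun (x : EtCoh.H X F 0) => by
      obtain ⟨ψ, rfl⟩ := (bijective_sectZero F).2 x
      change sect0 ((Ext.mk₀ ψ : EtCoh.H X F 0).comp (Ext.mk₀ f) (add_zero 0)) = f.hom.app (op (EtCoh.top X)) (sect0 (Ext.mk₀ ψ))
      rw [Ext.mk₀_comp_mk₀, sect0_mk₀, sect0_mk₀, EtCore45.MV.oneSect_comp]

end Groth.Agent.EtLim45
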