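import Groth.Agent.EtLim45.EtaleColim
import Groth.Agent.EtLim45.HDelta
import Groth.Agent.Depth22.ShPresent
import Groth.Agent.SiteCoh.ExtRes
import Groth.Agent.Unr55.Et.StrictHens
import Groth.Agent.Unr55.Et.Pull
import Groth.Agent.Unr55.Et.PullExact
import Groth.Agent.LimTop61.BaseChange
import Groth.Prelude.Def_Hens2
import Groth.Prelude.Def_Hensel

/-!
Stalks of higher direct images: cohomology of the base change to a strict henselization.
-/

set_option autoImplicit false
set_option backward.isDefEq.respectTransparency.types false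
set_option linter.unusedSectionVars false
universe u

open CategoryTheory CategoryTheory.Limits AlgebraicGeometry Opposite

namespace Groth.Agent.EtLim45

section Strict

variable (R : Type u) [CommRing R] [HenselianLocalRing R] [IsSepClosed (IsLocalRing.ResidueField R)]

/-- Global sections over a strictly henselian base are the stalk at the closed point. -/
noncomputable def gsecStalkIso :
    EtCore.gsec (Spec (CommRingCat.of R)) ≅ EtCoh.stalk (Unr55.EtSh.closedPt R) :=
  NatIso.ofComponents
    (fun F => (AddEquiv.ofBijective _ (Unr55.EtSh.germ_top_bijective R F)).toAddCommGrpIso)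
    fun {F G} φ => ConcreteCategory.hom_ext _ _ fun x =>
      (Unr55.EtSh.stalk_map_germ (Unr55.EtSh.closedPt R) φ (Unr55.EtSh.topPt R) x).symm

end Strict

variable {X S : Scheme.{u}} (f : X ⟶ S) {ι : Type u} [Preorder ι] (W : ιᵒᵖ ⥤ S.Etale)
  (c : Cone (Und W)) (b : c.pt ⟶ S) (hb : ∀ j, pr c j ≫ str W j = b)

/-- The base change of a limit of étale objects. -/
noncomputable def bcConeW : Cone (Und (W ⋙ EtCoh.bc f)) where
  pt := pullback f b
  π :=
    { app := fun a => pullback.lift (pullback.snd f b ≫ c.π.app a) (pullback.fst f b)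
        ((Category.assoc _ _ _).trans ((congrArg (_ ≫ ·) (hb a.unop)).trans pullback.condition.symm))
      naturality := fun a a' g => by
        refine (Category.id_comp _).trans (pullback.hom_ext ?_ ?_)
        · refine (pullback.lift_fst _ _ _).trans ?_
          refine Eq.trans ?_ (Category.assoc _ _ _).symm
          refine Eq.trans ?_ (congrArg (_ ≫ ·) (EtCoh.isPullback_bc_map f (W.map g)).w.symm)
          refine Eq.trans ?_ (Category.assoc _ _ _)
          refine Eq.trans ?_ (congrArg (· ≫ (W.map g).left) (pullback.lift_fst _ _ _).symm)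
          exact ((Category.assoc _ _ _).trans (congrArg (_ ≫ ·) (c.w g))).symm
        · refine (pullback.lift_snd _ _ _).trans ?_
          refine Eq.trans ?_ (Category.assoc _ _ _).symm
          refine Eq.trans ?_ (congrArg (_ ≫ ·) (Over.w ((EtCoh.bc f).map (W.map g)).hom).symm)
          exact (pullback.lift_snd _ _ _).symm }

include hb in
/-- The structure map of the base changed cone. -/
theorem bcConeW_w (j : ι) :
    pr (bcConeW f W c b hb) j ≫ str (W ⋙ EtCoh.bc f) j = pullback.fst f b :=
  pullback.lift_snd _ _ _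

include hb in
/-- The base changed cone is a limit. -/
theorem nonempty_isLimit_bcConeW [IsDirected ι (· ≤ ·)] [Nonempty ι] (hc : IsLimit c) :
    Nonempty (IsLimit (bcConeW f W c b hb)) := by
  have : IsConnected ι := IsFiltered.isConnected ι
  let α : Und (W ⋙ EtCoh.bc f) ⟶ Und W :=
    { app := fun a => pullback.fst (W.obj a).hom f
      naturality := fun a a' g => (EtCoh.isPullback_bc_map f (W.map g)).w }
  refine ⟨isLimitOfIsPullbackOfIsConnected α (bcConeW f W c b hb) c
    { hom := pullback.snd f b
      w := fun a => (pullback.lift_fst _ _ _).symm } (fun a => ?_) hc⟩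
  have e1 : (bcConeW f W c b hb).π.app a ≫ pullback.snd (W.obj a).hom f = pullback.fst f b := pullback.lift_snd _ _ _
  have e2 : c.π.app a ≫ (W.obj a).hom = b := hb a.unop
  refine IsPullback.of_right ?_ (pullback.lift_fst _ _ _) (IsPullback.of_hasPullback (W.obj a).hom f).flip
  exact (congrArg₂ (fun p q => IsPullback p (pullback.snd f b) f q) e1 e2).mpr (IsPullback.of_hasPullback f b)

include hb in
theorem nonempty_stalk_Rpush [IsDirected ι (· ≤ ·)] [Nonempty ι]
    [∀ a, IsAffine ((Und W).obj a)] (hc : IsLimit c) [QuasiCompact f] [QuasiSeparated f]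
    {E : EtCoh.Ab S ⥤ AddCommGrpCat.{u + 1}} [E.Additive] [E.PreservesHomology]
    (eE : E ≅ EtCoh.pull b ⋙ EtCore.gsec c.pt) (n : ℕ) :
    Nonempty (EtCoh.Rpush f n ⋙ E ≅ EtCoh.pull (pullback.fst f b) ⋙ EtCoh.HF (pullback f b) n) := by
  have hflim : ∀ {A B : Scheme.{u}} (g : A ⟶ B), PreservesFiniteLimits (EtCoh.pull g) := fun g =>
    Unr55.EtSh.preservesFiniteLimits_pull g
  have : ∀ a, CompactSpace ↥((Und W).obj a) := fun a => inferInstance
  have : ∀ a, QuasiSeparatedSpace ↥((Und W).obj a) := fun a => inferInstance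
  have : ∀ (a a' : ιᵒᵖ) (h : a ⟶ a'), IsAffineHom ((Und W).map h) := fun a a' h => inferInstance
  let W' := W ⋙ EtCoh.bc f
  let c' := bcConeW f W c b hb
  let g := pullback.fst f b
  have hb' := bcConeW_w f W c b hb
  obtain ⟨hc'⟩ := nonempty_isLimit_bcConeW f W c b hb hc
  have : ∀ (a a' : ιᵒᵖ) (h : a ⟶ a'), IsAffineHom ((Und W').map h) := fun a a' h =>
    MorphismProperty.of_isPullback (P := @IsAffineHom) (EtCoh.isPullback_bc_map f (W.map h)).flip
      (inferInstanceAs (IsAffineHom ((Und W).map h)))
  have : ∀ a, CompactSpace ↥((Und W').obj a) := fun a => by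
    have h1 : QuasiCompact (pullback.fst (W.obj a).hom f) :=
      MorphismProperty.pullback_fst (P := @QuasiCompact) _ _ ‹_›
    exact @QuasiCompact.compactSpace_of_compactSpace _ ((Und W).obj a) (pullback.fst (W.obj a).hom f) h1 inferInstance
  have : ∀ a, QuasiSeparatedSpace ↥((Und W').obj a) := fun a => by
    have h1 : QuasiSeparated (pullback.fst (W.obj a).hom f) :=
      MorphismProperty.pullback_fst (P := @QuasiSeparated) _ _ ‹_›
    exact @quasiSeparatedSpace_of_quasiSeparated _ ((Und W).obj a) (pullback.fst (W.obj a).hom f) inferInstance h1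
  have hpl := hflim g
  have : ∀ ⦃a a' : ιᵒᵖ⦄ (h : a ⟶ a'), PreservesFiniteLimits (EtCoh.pull ((Und W').map h)) := fun _ _ h => hflim _
  have : ∀ a, PreservesFiniteLimits (EtCoh.pull (c'.π.app a)) := fun a => hflim _
  have : PreservesColimitsOfSize.{0, 0} (EtCoh.pull g) := (EtCoh.pullPushAdj g).leftAdjoint_preservesColimits
  have : PreservesFiniteColimits (EtCoh.pull g) := inferInstance
  obtain ⟨φ⟩ := nonempty_iso_rightDerived (EtCoh.pull g) (fun I hI m =>
    haveI := hI; subsingleton_H_pull W' c' g hb' hc' I m) n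
  have hk : IsIso (kap W c b hb) := isIso_kap W c b hb hc
  have hk' : IsIso (kap W' c' g hb') := isIso_kap W' c' g hb' hc'
  let e0 : EtCoh.push f ⋙ E ≅ EtCoh.pull g ⋙ EtCoh.HF (pullback f b) 0 :=
    Functor.isoWhiskerLeft (EtCoh.push f) (eE ≪≫ (asIso (kap W c b hb)).symm) ≪≫
      (show EtCoh.push f ⋙ secColim W ≅ secColim W' from Iso.refl _) ≪≫ asIso (kap W' c' g hb') ≪≫
        Functor.isoWhiskerLeft (EtCoh.pull g) (HF0Iso (pullback f b)).symm
  exact ⟨(SiteCoh.rightDerivedCompExactIso (EtCoh.push f) E n).symm ≪≫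
    { hom := NatTrans.rightDerived e0.hom n
      inv := NatTrans.rightDerived e0.inv n
      hom_inv_id := by simp [← NatTrans.rightDerived_comp, NatTrans.rightDerived_id]
      inv_hom_id := by simp [← NatTrans.rightDerived_comp, NatTrans.rightDerived_id] } ≪≫ φ.symm⟩

/-- Stalks of higher direct images. -/
theorem nonempty_stalk_Rpush_sh [QuasiCompact f] [QuasiSeparated f] (s : S) (R : Type u) [CommRing R]
    [IsLocalRing R] [Algebra (S.presheaf.stalk s) R] [IsLocalHom (algebraMap (S.presheaf.stalk s) R)]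
    [hR : Hensel.IsStrictHenselization (S.presheaf.stalk s) R] [IsSepClosed (IsLocalRing.ResidueField R)] (n : ℕ) :
    Nonempty (EtCoh.Rpush f n ⋙ EtCoh.stalk (Hens2.geomPt S s R) ≅
      EtCoh.pull (pullback.fst f (Hens2.specOf S s R)) ⋙ EtCoh.HF (pullback f (Hens2.specOf S s R)) n) := by
  have := hR.henselian
  obtain ⟨ι, _, _, _, Xs, hXs, t, ht, c, htr, hct, ⟨hlim⟩⟩ := Depth22.exists_sh_presentation S s R
  let W : ιᵒᵖ ⥤ S.Etale :=
    { obj := fun a => haveI := ht a.unop; Scheme.Etale.mk (t a.unop)
      map := fun {a a'} h => MorphismProperty.Over.homMk (Xs.map h)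
        (htr a'.unop a.unop (leOfHom h.unop)) trivial
      map_id := fun a => MorphismProperty.Over.Hom.ext (Xs.map_id a)
      map_comp := fun g g' => MorphismProperty.Over.Hom.ext (Xs.map_comp g g') }
  let cW : Cone (Und W) := ⟨Spec (CommRingCat.of R), { app := fun a => c.app a, naturality := fun a a' g => c.naturality g }⟩
  have hcW : IsLimit cW := IsLimit.ofIsoLimit hlim (Cone.ext (Iso.refl _) fun a => (Category.id_comp _).symm)
  have : ∀ a, IsAffine ((Und W).obj a) := fun a => hXs a
  exact nonempty_stalk_Rpush f W cW (Hens2.specOf S s R) hct hcW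
    ((Unr55.EtSh.stalkPullIso (Hens2.specOf S s R) (Unr55.EtSh.closedPt R)).symm ≪≫
      Functor.isoWhiskerLeft _ (gsecStalkIso R).symm) n

end Groth.Agent.EtLim45
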