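import Groth.Agent.EtLim45.OfTr
import Mathlib.CategoryTheory.Limits.Final
import Mathlib.CategoryTheory.Filtered.Final

/-!
Systems pulled back from one stage.
-/

set_option autoImplicit false
set_option backward.isDefEq.respectTransparency.types false
set_option linter.unusedSectionVars false
universe u

open CategoryTheory CategoryTheory.Limits AlgebraicGeometry Opposite
open Groth.Agent.EtCore45.MV

namespace Groth.Agent.EtLim45

/-- Morphisms out of an inverse image agree when they agree on units of sections. -/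
theorem hom_ext_unit {X Y : Scheme.{u}} (f : X ⟶ Y) {A : EtCoh.Ab Y} {M : EtCoh.Ab X}
    {p q : (EtCoh.pull f).obj A ⟶ M}
    (h : ∀ (V : Y.Etale) (x : EtCoh.sect A V),
      p.hom.app _ (unitSect f A V x) = q.hom.app _ (unitSect f A V x)) : p = q := by
  apply ((EtCoh.pullPushAdj f).homEquiv _ _).injective
  rw [Adjunction.homEquiv_unit, Adjunction.homEquiv_unit]
  exact sheaf_hom_ext fun V x => h V x

theorem map_unitSect {X Y : Scheme.{u}} (f : X ⟶ Y) {A B : EtCoh.Ab Y} (φ : A ⟶ B) (V : Y.Etale)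
    (x : EtCoh.sect A V) :
    ((EtCoh.pull f).map φ).hom.app _ (unitSect f A V x) = unitSect f B V (φ.hom.app (op V) x) :=
  (ConcreteCategory.congr_hom (congrArg (fun q => q.hom.app (op V))
    ((EtCoh.pullPushAdj f).unit.naturality φ)) x).symm

/-- The composition isomorphism. -/
noncomputable abbrev comp2 {W U V : Scheme.{u}} (f : W ⟶ U) (j : U ⟶ V) {h : W ⟶ V} (w : f ≫ j = h) :
    EtCoh.pull j ⋙ EtCoh.pull f ≅ EtCoh.pull h :=
  (EtCore.pullComp f j).symm ≪≫ EtCore.pullCongr w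

/-- The base change comparison. -/
noncomputable def bc2 {W U V : Scheme.{u}} (f : W ⟶ U) (j : U ⟶ V) {h : W ⟶ V} (w : f ≫ j = h) (A : V.Etale) :
    (EtCoh.bc f).obj ((EtCoh.bc j).obj A) ⟶ (EtCoh.bc h).obj A :=
  MorphismProperty.Over.homMk (pullback.lift (pullback.fst ((EtCoh.bc j).obj A).hom f ≫ pullback.fst A.hom j)
    (pullback.snd ((EtCoh.bc j).obj A).hom f) (by
      rw [← w, Category.assoc]
      refine (congrArg (_ ≫ ·) pullback.condition).trans ?_
      refine (Category.assoc _ _ _).symm.trans ((congrArg (· ≫ j) pullback.condition).trans ?_)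
      exact Category.assoc _ _ _))
    (pullback.lift_snd _ _ _) trivial

theorem comp2_unit {W U V : Scheme.{u}} (f : W ⟶ U) (j : U ⟶ V) {h : W ⟶ V} (w : f ≫ j = h) (A : EtCoh.Ab V)
    (O : V.Etale) (a : EtCoh.sect A O) :
    ((comp2 f j w).hom.app A).hom.app _ (unitSect f _ _ (unitSect j A O a)) =
      ((EtCoh.pull h).obj A).obj.map (bc2 f j w O).op (unitSect h A O a) :=
  pullComp_unit f j w A O a _ (pullback.lift_fst _ _ _)

/-- Composition isomorphisms are associative. -/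
theorem comp2_assoc {W U V Z : Scheme.{u}} (a : W ⟶ U) (b : U ⟶ V) (t : V ⟶ Z) {ab : W ⟶ V} {bt : U ⟶ Z} {h : W ⟶ Z}
    (w₁ : a ≫ b = ab) (w₂ : b ≫ t = bt) (w₃ : ab ≫ t = h) (w₄ : a ≫ bt = h) (A : EtCoh.Ab Z) :
    (comp2 a b w₁).hom.app ((EtCoh.pull t).obj A) ≫ (comp2 ab t w₃).hom.app A =
      (EtCoh.pull a).map ((comp2 b t w₂).hom.app A) ≫ (comp2 a bt w₄).hom.app A := by
  apply ((EtCoh.pullPushAdj a).homEquiv _ _).injective
  refine hom_ext_unit b ?_
  intro O' y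
  revert y
  suffices key : ∀ (P Q : (EtCoh.pull t).obj A ⟶ (EtCoh.push b).obj ((EtCoh.push a).obj ((EtCoh.pull h).obj A))),
      (∀ (O : Z.Etale) (x : EtCoh.sect A O), P.hom.app _ (unitSect t A O x) = Q.hom.app _ (unitSect t A O x)) →
      ∀ (O' : V.Etale) (y : EtCoh.sect ((EtCoh.pull t).obj A) O'), P.hom.app (op O') y = Q.hom.app (op O') y from by
    intro y
    exact key ((EtCoh.pullPushAdj b).homEquiv _ _ ((EtCoh.pullPushAdj a).homEquiv _ _
        ((comp2 a b w₁).hom.app ((EtCoh.pull t).obj A) ≫ (comp2 ab t w₃).hom.app A)))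
      ((EtCoh.pullPushAdj b).homEquiv _ _ ((EtCoh.pullPushAdj a).homEquiv _ _
        ((EtCoh.pull a).map ((comp2 b t w₂).hom.app A) ≫ (comp2 a bt w₄).hom.app A))) (fun O x => by
      change ((comp2 ab t w₃).hom.app A).hom.app _ (((comp2 a b w₁).hom.app ((EtCoh.pull t).obj A)).hom.app _
          (unitSect a _ _ (unitSect b _ _ (unitSect t A O x)))) =
        ((comp2 a bt w₄).hom.app A).hom.app _ (((EtCoh.pull a).map ((comp2 b t w₂).hom.app A)).hom.app _
          (unitSect a _ _ (unitSect b _ _ (unitSect t A O x))))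
      refine ((congrArg _ (comp2_unit a b w₁ ((EtCoh.pull t).obj A) _ _)).trans
        ((app_map ((comp2 ab t w₃).hom.app A) _ _).trans (congrArg _ (comp2_unit ab t w₃ A O x)))).trans ?_
      refine Eq.trans ?_ ((congrArg _ (map_unitSect a ((comp2 b t w₂).hom.app A) _ _)).trans
        ((congrArg _ (congrArg (unitSect a _ _) (comp2_unit b t w₂ A O x))).trans
          ((congrArg _ (unitSect_map a _ _ _)).trans ((app_map ((comp2 a bt w₄).hom.app A) _ _).trans
            (congrArg _ (comp2_unit a bt w₄ A O x)))))).symm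
      refine (gmap_comp _ _ _ _).symm.trans (Eq.trans ?_ (gmap_comp _ _ _ _))
      refine congrArg (fun q : _ ⟶ (EtCoh.bc h).obj O => ((EtCoh.pull h).obj A).obj.map q.op (unitSect h A O x))
        (MorphismProperty.Over.Hom.ext (pullback.hom_ext ?_ ?_))
      · refine (Category.assoc _ _ _).trans ((congrArg (_ ≫ ·) (pullback.lift_fst _ _ _)).trans ?_)
        refine ((Category.assoc _ _ _).symm.trans (congrArg (· ≫ pullback.fst O.hom t) (pullback.lift_fst _ _ _))).trans ?_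
        refine Eq.trans ?_ (Category.assoc _ _ _).symm
        refine Eq.trans ?_ (congrArg (_ ≫ ·) (pullback.lift_fst _ _ _)).symm
        refine Eq.trans ?_ ((Category.assoc _ _ _).symm.trans (congrArg (· ≫ pullback.fst O.hom bt)
          (EtCoh.isPullback_bc_map a (bc2 b t w₂ O)).w)).symm
        refine Eq.trans ?_ (Category.assoc _ _ _).symm
        exact ((congrArg (_ ≫ ·) (pullback.lift_fst _ _ _)).trans (Category.assoc _ _ _).symm).symm
      · exact (Over.w (bc2 a b w₁ _ ≫ bc2 ab t w₃ O).hom).trans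
          (Over.w ((EtCoh.bc a).map (bc2 b t w₂ O) ≫ bc2 a bt w₄ O).hom).symm) O' y
  intro P Q hPQ O' y
  exact ConcreteCategory.congr_hom (congrArg (fun q => q.hom.app (op O')) (hom_ext_unit t hPQ)) y

theorem comp_iso_injective {X : Scheme.{u}} {A B : EtCoh.Ab X} (f : A ⟶ B) [IsIso f] {n : ℕ}
    {x y : EtCoh.H X A n} (h : x.comp (Abelian.Ext.mk₀ f) (add_zero n) = y.comp (Abelian.Ext.mk₀ f) (add_zero n)) :
    x = y := by
  have h' := congrArg (fun z => Abelian.Ext.comp z (Abelian.Ext.mk₀ (inv f)) (add_zero n)) h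
  simpa [Abelian.Ext.comp_assoc_of_second_deg_zero] using h'

theorem const_iota_eq {J : Type u} [SmallCategory J] [IsFiltered J] {C : Type*} [Category C] (M : C)
    [HasColimit ((Functor.const J).obj M)] (j k : J) :
    colimit.ι ((Functor.const J).obj M) j = colimit.ι ((Functor.const J).obj M) k :=
  ((colimit.w ((Functor.const J).obj M) (IsFiltered.leftToMax j k)).symm.trans (Category.id_comp _)).trans
    ((colimit.w ((Functor.const J).obj M) (IsFiltered.rightToMax j k)).symm.trans (Category.id_comp _)).symm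

theorem isIso_const_iota {J : Type u} [SmallCategory J] [IsFiltered J] {C : Type*} [Category C] (M : C)
    [HasColimit ((Functor.const J).obj M)] (j : J) : IsIso (colimit.ι ((Functor.const J).obj M) j) := by
  refine ⟨colimit.desc ((Functor.const J).obj M) ⟨M, { app := fun _ => 𝟙 M }⟩, colimit.ι_desc _ _, ?_⟩
  refine colimit.hom_ext fun k => ?_
  rw [colimit.ι_desc_assoc, Category.comp_id]
  exact (Category.id_comp _).trans (const_iota_eq M j k)

/-- A composition isomorphism inverse to the given one. -/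
theorem pullTrans_inv_eq {ι : Type u} [Preorder ι] (Ys : ιᵒᵖ ⥤ Scheme.{u}) {i j k : ι} (hij : i ≤ j) (hjk : j ≤ k)
    (w : tr Ys hjk ≫ tr Ys hij = tr Ys (hij.trans hjk)) :
    (EtLim.pullTrans Ys hij hjk).inv = (comp2 (tr Ys hjk) (tr Ys hij) w).hom := rfl

theorem pullTransCone_inv_eq {ι : Type u} [Preorder ι] (Ys : ιᵒᵖ ⥤ Scheme.{u}) (c : Cone Ys) {i j : ι} (hij : i ≤ j) :
    (EtLim.pullTransCone Ys c hij).inv = (comp2 (pr c j) (tr Ys hij) (pr_tr c hij)).hom := rfl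

section Gen

variable {ι : Type u} [Preorder ι] (Ys : ιᵒᵖ ⥤ Scheme.{u}) {Z : Scheme.{u}} (t : ∀ i, St Ys i ⟶ Z)
  (wt : ∀ i j (h : i ≤ j), tr Ys h ≫ t i = t j) (A : EtCoh.Ab Z)

theorem gen_cocycle {i j k : ι} (hij : i ≤ j) (hjk : j ≤ k) :
    (comp2 (tr Ys (hij.trans hjk)) (t i) (wt i k (hij.trans hjk))).hom.app A =
      (EtLim.pullTrans Ys hij hjk).hom.app ((EtCoh.pull (t i)).obj A) ≫
        (EtCoh.pull (tr Ys hjk)).map ((comp2 (tr Ys hij) (t i) (wt i j hij)).hom.app A) ≫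
          (comp2 (tr Ys hjk) (t j) (wt j k hjk)).hom.app A := by
  have e := comp2_assoc (tr Ys hjk) (tr Ys hij) (t i) (tr_trans Ys hij hjk) (wt i j hij) (wt i k (hij.trans hjk))
    (wt j k hjk) A
  rw [← pullTrans_inv_eq Ys hij hjk] at e
  exact ((Iso.app (EtLim.pullTrans Ys hij hjk) ((EtCoh.pull (t i)).obj A)).inv_comp_eq).1 e

/-- Inverse images of one sheaf as transition data. -/
noncomputable def genData : TrData Ys where
  F j := (EtCoh.pull (t j)).obj A
  φ i j h := (comp2 (tr Ys h) (t i) (wt i j h)).hom.app A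
  cocycle _ _ _ hij hjk := gen_cocycle Ys t wt A hij hjk

variable (cY : Cone Ys) (t₀ : cY.pt ⟶ Z) (wp : ∀ j, pr cY j ≫ t j = t₀)

/-- The identifications on the vertex. -/
noncomputable def genPsi (j : ι) :
    (EtCoh.pull (pr cY j)).obj ((genData Ys t wt A).F j) ≅ (EtCoh.pull t₀).obj A :=
  (comp2 (pr cY j) (t j) (wp j)).app A

theorem genPsi_comp {i j : ι} (hij : i ≤ j) :
    (genPsi Ys t wt A cY t₀ wp i).hom ≫ 𝟙 ((EtCoh.pull t₀).obj A) =
      (EtLim.pullTransCone Ys cY hij).hom.app ((genData Ys t wt A).F i) ≫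
        (EtCoh.pull (pr cY j)).map ((genData Ys t wt A).φ hij) ≫ (genPsi Ys t wt A cY t₀ wp j).hom := by
  have e := comp2_assoc (pr cY j) (tr Ys hij) (t i) (pr_tr cY hij) (wt i j hij) (wp i) (wp j) A
  rw [← pullTransCone_inv_eq Ys cY hij] at e
  refine (Category.comp_id _).trans ?_
  exact ((Iso.app (EtLim.pullTransCone Ys cY hij) ((EtCoh.pull (t i)).obj A)).inv_comp_eq).1 e

include wt in
/-- The limit theorem for inverse images of one sheaf. -/
theorem H_limit_gen [IsDirected ι (· ≤ ·)] [Nonempty ι]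
    [∀ a, PreservesFiniteLimits (EtCoh.pull (cY.π.app a))]
    [∀ ⦃a b : ιᵒᵖ⦄ (h : a ⟶ b), PreservesFiniteLimits (EtCoh.pull (Ys.map h))]
    [∀ (a b : ιᵒᵖ) (h : a ⟶ b), IsAffineHom (Ys.map h)]
    [∀ a, CompactSpace ↥(Ys.obj a)] [∀ a, QuasiSeparatedSpace ↥(Ys.obj a)] (hc : IsLimit cY) (p : ℕ) :
    (∀ ξ : EtCoh.H cY.pt ((EtCoh.pull t₀).obj A) p,
      ∃ (j : ι) (x : EtCoh.H (St Ys j) ((EtCoh.pull (t j)).obj A) p),
        EtCore.HpullVia (pr cY j) (t j) t₀ (wp j) A p x = ξ) ∧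
    (∀ (j : ι) (x : EtCoh.H (St Ys j) ((EtCoh.pull (t j)).obj A) p),
      EtCore.HpullVia (pr cY j) (t j) t₀ (wp j) A p x = 0 →
        ∃ (k : ι) (hk : j ≤ k), EtCore.Hpull (tr Ys hk) _ p x = 0) := by
  let M := (EtCoh.pull t₀).obj A
  let G : ι ⥤ EtCoh.Ab cY.pt := (Functor.const _).obj M
  obtain ⟨H1, H2⟩ := (genData Ys t wt A).H_limit_ofTr G (genPsi Ys t wt A cY t₀ wp)
    (fun i j hij => genPsi_comp Ys t wt A cY t₀ wp hij) hc p
  have hι : ∀ j, IsIso (colimit.ι G j) := fun j => isIso_const_iota M j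
  have key : ∀ (j : ι) (x : EtCoh.H (St Ys j) ((EtCoh.pull (t j)).obj A) p),
      EtLim.HpullThen (pr cY j) ((genData Ys t wt A).F j)
          ((genPsi Ys t wt A cY t₀ wp j).hom ≫ colimit.ι G j) p x =
        (EtCore.HpullVia (pr cY j) (t j) t₀ (wp j) A p x).comp (Abelian.Ext.mk₀ (colimit.ι G j)) (add_zero p) :=
    fun j x => (HpullThen_apply (pr cY j) _ p x).trans
      (((congrArg (fun z => Abelian.Ext.comp _ z (add_zero p)) (Abelian.Ext.mk₀_comp_mk₀ _ _)).symm).trans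
        (Abelian.Ext.comp_assoc_of_second_deg_zero _ _ _ _).symm)
  refine ⟨fun ξ => ?_, fun j x h => ?_⟩
  · let i : ι := Classical.arbitrary ι
    obtain ⟨j, x, hx⟩ := H1 (ξ.comp (Abelian.Ext.mk₀ (colimit.ι G i)) (add_zero p))
    refine ⟨j, x, ?_⟩
    have := hι i
    refine comp_iso_injective (colimit.ι G i) ?_
    rw [← hx, ← const_iota_eq M j i]
    exact (key j x).symm
  · obtain ⟨k, hk, hk'⟩ := H2 j x
      ((key j x).trans ((congrArg (fun z => Abelian.Ext.comp z (Abelian.Ext.mk₀ (colimit.ι G j)) (add_zero p)) h).trans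
        (Abelian.Ext.zero_comp _ _ _ _ _)))
    exact ⟨k, hk, comp_iso_injective ((comp2 (tr Ys hk) (t j) (wt j k hk)).hom.app A)
      (hk'.trans (Abelian.Ext.zero_comp _ _ _ _ _).symm)⟩

end Gen

section

variable {ι : Type u} [Preorder ι] [IsDirected ι (· ≤ ·)] {Xs : ιᵒᵖ ⥤ Scheme.{u}} (i₀ : ι)
  (F₀ : EtCoh.Ab (St Xs i₀))

/-- The stages after `i₀`. -/
abbrev Above : Type u := {j : ι // i₀ ≤ j}

/-- The inclusion of the stages after `i₀`. -/
abbrev aboveIncl : Above i₀ ⥤ ι := (Subtype.mono_coe fun j : ι => i₀ ≤ j).functor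

theorem tr_above {j k : Above i₀} (h : j ≤ k) :
    tr ((aboveIncl i₀).op ⋙ Xs) h ≫ tr Xs j.2 = tr Xs k.2 :=
  tr_trans Xs j.2 h

/-- The system of inverse images of `F₀`. -/
noncomputable abbrev pullData : TrData ((aboveIncl i₀).op ⋙ Xs) :=
  genData ((aboveIncl i₀).op ⋙ Xs) (fun j => tr Xs j.2) (fun _ _ h => tr_above i₀ h) F₀

theorem above_directed : IsDirected (Above i₀) (· ≤ ·) :=
  ⟨fun a b => by
    obtain ⟨k, h1, h2⟩ := directed_of (· ≤ ·) a.1 b.1
    exact ⟨⟨k, a.2.trans h1⟩, h1, h2⟩⟩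

theorem final_aboveIncl : (aboveIncl i₀).Final := by
  have : Nonempty (Above i₀) := ⟨⟨i₀, le_rfl⟩⟩
  have := above_directed i₀
  refine Functor.final_of_exists_of_isFiltered _ (fun d => ?_) (fun {d x} s s' => ⟨x, 𝟙 x, Subsingleton.elim _ _⟩)
  obtain ⟨k, h1, h2⟩ := directed_of (· ≤ ·) i₀ d
  exact ⟨⟨k, h1⟩, ⟨homOfLE h2⟩⟩

variable {c : Cone Xs}

theorem pr_above (j : Above i₀) :
    pr (c.whisker (aboveIncl i₀).op) j ≫ tr Xs j.2 = pr c i₀ :=
  pr_tr c j.2

/-- The limit theorem for a sheaf pulled back from one stage. -/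
theorem H_limit_pull [∀ a, PreservesFiniteLimits (EtCoh.pull (c.π.app a))]
    [hpt : ∀ ⦃a b : ιᵒᵖ⦄ (h : a ⟶ b), PreservesFiniteLimits (EtCoh.pull (Xs.map h))]
    [haff : ∀ (a b : ιᵒᵖ) (h : a ⟶ b), IsAffineHom (Xs.map h)]
    [∀ a, CompactSpace ↥(Xs.obj a)] [∀ a, QuasiSeparatedSpace ↥(Xs.obj a)] (hc : IsLimit c) (p : ℕ) :
    (∀ ξ : EtCoh.H c.pt ((EtCoh.pull (pr c i₀)).obj F₀) p,
      ∃ (j : ι) (hj : i₀ ≤ j) (ξj : EtCoh.H (St Xs j) ((EtCoh.pull (tr Xs hj)).obj F₀) p),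
        EtCore.HpullVia (pr c j) (tr Xs hj) (pr c i₀) (pr_tr c hj) F₀ p ξj = ξ) ∧
    (∀ (j : ι) (hj : i₀ ≤ j) (ξj : EtCoh.H (St Xs j) ((EtCoh.pull (tr Xs hj)).obj F₀) p),
      EtCore.HpullVia (pr c j) (tr Xs hj) (pr c i₀) (pr_tr c hj) F₀ p ξj = 0 →
        ∃ (k : ι) (hk : j ≤ k), EtCore.Hpull (tr Xs hk) _ p ξj = 0) := by
  have := final_aboveIncl (ι := ι) i₀
  have := above_directed i₀
  have : Nonempty (Above i₀) := ⟨⟨i₀, le_rfl⟩⟩
  have hc' : IsLimit (c.whisker (aboveIncl i₀).op) := (Functor.Initial.isLimitWhiskerEquiv _ c).symm hc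
  have : ∀ (a b : (Above i₀)ᵒᵖ) (h : a ⟶ b), IsAffineHom (((aboveIncl i₀).op ⋙ Xs).map h) :=
    fun a b h => haff _ _ _
  have : ∀ a, CompactSpace ↥(((aboveIncl i₀).op ⋙ Xs).obj a) := fun a =>
    inferInstanceAs (CompactSpace ↥(Xs.obj _))
  have : ∀ a, QuasiSeparatedSpace ↥(((aboveIncl i₀).op ⋙ Xs).obj a) := fun a =>
    inferInstanceAs (QuasiSeparatedSpace ↥(Xs.obj _))
  have : ∀ ⦃a b : (Above i₀)ᵒᵖ⦄ (h : a ⟶ b),
      PreservesFiniteLimits (EtCoh.pull (((aboveIncl i₀).op ⋙ Xs).map h)) := fun a b h => hpt _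
  have : ∀ a, PreservesFiniteLimits (EtCoh.pull ((c.whisker (aboveIncl i₀).op).π.app a)) := fun a =>
    inferInstanceAs (PreservesFiniteLimits (EtCoh.pull (c.π.app ((aboveIncl i₀).op.obj a))))
  obtain ⟨H1, H2⟩ := H_limit_gen ((aboveIncl i₀).op ⋙ Xs) (fun j => tr Xs j.2) (fun _ _ h => tr_above i₀ h) F₀
    (c.whisker (aboveIncl i₀).op) (pr c i₀) (pr_above i₀) hc' p
  refine ⟨fun ξ => ?_, fun j hj ξj h => ?_⟩
  · obtain ⟨j, x, hx⟩ := H1 ξ
    exact ⟨j.1, j.2, x, hx⟩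
  · obtain ⟨k, hk, hk'⟩ := H2 ⟨j, hj⟩ ξj h
    exact ⟨k.1, hk, hk'⟩

end

end Groth.Agent.EtLim45
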