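import Groth.Agent.EtLim45.Site
import Groth.Agent.S0591
import Groth.Agent.Lim60.Props
import Groth.Agent.LimTop61.BaseChange
import Groth.Agent.Unr55.Et.Open
import Groth.Agent.EtCore45.EtalePull

/-!
Etale objects, morphisms, opens and coverings of the limit come from the stages.
-/

set_option autoImplicit false
set_option backward.isDefEq.respectTransparency.types false
set_option linter.unusedSectionVars false
universe u

open CategoryTheory CategoryTheory.Limits AlgebraicGeometry Opposite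

namespace Groth.Agent.EtLim45

variable {ι : Type u} [Preorder ι] [IsDirected ι (· ≤ ·)] [Nonempty ι] {Xs : ιᵒᵖ ⥤ Scheme.{u}} {c : Cone Xs}
  [∀ (a b : ιᵒᵖ) (h : a ⟶ b), IsAffineHom (Xs.map h)]
  [∀ a, CompactSpace ↥(Xs.obj a)] [∀ a, QuasiSeparatedSpace ↥(Xs.obj a)] (hc : IsLimit c)

include hc in
theorem compactSpace_vertex : CompactSpace ↥c.pt :=
  haveI := isAffineHom_π_app Xs c hc (op (Classical.arbitrary ι))
  QuasiCompact.compactSpace_of_compactSpace (c.π.app (op (Classical.arbitrary ι)))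

include hc in
theorem quasiSeparatedSpace_vertex : QuasiSeparatedSpace ↥c.pt :=
  haveI := isAffineHom_π_app Xs c hc (op (Classical.arbitrary ι))
  quasiSeparatedSpace_of_quasiSeparated (c.π.app (op (Classical.arbitrary ι)))

omit [IsDirected ι (· ≤ ·)] [Nonempty ι] in
theorem qq_pullback {X Y Z : Scheme.{u}} (f : X ⟶ Z) (g : Y ⟶ Z) (hg : IsAffineHom g) (h1 : CompactSpace ↥X)
    (h2 : QuasiSeparatedSpace ↥X) :
    CompactSpace ↥(pullback f g : Scheme.{u}) ∧ QuasiSeparatedSpace ↥(pullback f g : Scheme.{u}) := by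
  have : IsAffineHom (pullback.fst f g) := MorphismProperty.pullback_fst (P := @IsAffineHom) _ _ hg
  exact ⟨QuasiCompact.compactSpace_of_compactSpace (pullback.fst f g),
    quasiSeparatedSpace_of_quasiSeparated (pullback.fst f g)⟩

/-- The scheme is quasi-compact quasi-separated. -/
def QQ (A : Obj Xs) : Prop := CompactSpace ↥A.obj.left ∧ QuasiSeparatedSpace ↥A.obj.left

omit [IsDirected ι (· ≤ ·)] [Nonempty ι] [∀ a, CompactSpace ↥(Xs.obj a)]
  [∀ a, QuasiSeparatedSpace ↥(Xs.obj a)] in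
theorem QQ.bc {A : Obj Xs} (h : QQ A) {l : ι} (hl : A.idx ≤ l) :
    QQ (⟨l, (EtCoh.bc (tr Xs hl)).obj A.obj⟩ : Obj Xs) := by
  exact qq_pullback A.obj.hom (tr Xs hl) inferInstance h.1 h.2

omit [IsDirected ι (· ≤ ·)] [Nonempty ι] in
theorem QQ.top (j : ι) : QQ (⟨j, EtCoh.top (St Xs j)⟩ : Obj Xs) :=
  ⟨inferInstanceAs (CompactSpace ↥(Xs.obj (op j))), inferInstanceAs (QuasiSeparatedSpace ↥(Xs.obj (op j)))⟩

include hc in
/-- Quasi-compact quasi-separated etale schemes over the limit come from a stage. -/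
theorem exists_stage_obj (W : c.pt.Etale) [CompactSpace ↥W.left] [QuasiSeparatedSpace ↥W.left] (j₀ : ι) :
    ∃ A : Obj Xs, j₀ ≤ A.idx ∧ QQ A ∧ Nonempty ((Phi c).obj A ≅ W) := by
  have := compactSpace_vertex hc
  have := quasiSeparatedSpace_vertex hc
  have : Etale W.hom := W.prop
  have : QuasiCompact W.hom := @quasiCompact_of_compactSpace W.left c.pt _ ‹CompactSpace ↥W.left› inferInstance
  have : QuasiSeparated W.hom := by
    have : QuasiSeparated (W.hom ≫ terminal.from c.pt) := by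
      rw [terminal.hom_ext (W.hom ≫ terminal.from c.pt) (terminal.from W.left)]
      exact (quasiSeparatedSpace_iff_quasiSeparated _).1 ‹_›
    exact QuasiSeparated.of_comp W.hom (terminal.from c.pt)
  obtain ⟨i, X₀, f₀, g, hlfp, hqc, hqs, H⟩ := S0591.result Xs c hc W.left W.hom
  have := hqc; have := hqs
  have he : Etale (pullback.snd f₀ (c.π.app i)) :=
    H.isoPullback_inv_snd ▸ (inferInstanceAs (Etale (H.isoPullback.inv ≫ W.hom)))
  obtain ⟨k, ψ, hk⟩ := Lim60.descProp_etale.desc Xs c hc i f₀ hlfp he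
  obtain ⟨l, hl, hl'⟩ := directed_of (· ≤ ·) k.unop j₀
  let φ : op l ⟶ i := (homOfLE hl).op ≫ ψ
  have hme : Etale (pullback.snd f₀ (Xs.map φ)) :=
    LimDesc62.DescProp.snd_map (P := @Etale) Xs f₀ ψ (homOfLE hl).op hk
  let A : Obj Xs := ⟨l, Scheme.Etale.mk (pullback.snd f₀ (Xs.map φ))⟩
  have hA : QQ A := by
    have : CompactSpace ↥X₀ := QuasiCompact.compactSpace_of_compactSpace f₀
    have : QuasiSeparatedSpace ↥X₀ := quasiSeparatedSpace_of_quasiSeparated f₀
    exact qq_pullback f₀ (Xs.map φ) inferInstance ‹_› ‹_›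
  refine ⟨A, hl', hA, ⟨?_⟩⟩
  have H2 : IsPullback (pullback.fst A.obj.hom (pr c l) ≫ pullback.fst f₀ (Xs.map φ))
      (pullback.snd A.obj.hom (pr c l)) f₀ (c.π.app i) := by
    rw [show c.π.app i = pr c l ≫ Xs.map φ from (c.w φ).symm]
    exact (IsPullback.of_hasPullback A.obj.hom (pr c l)).paste_horiz (IsPullback.of_hasPullback _ _)
  exact MorphismProperty.Over.isoMk (H2.isoPullback ≪≫ H.isoPullback.symm) (by
    show (H2.isoPullback.hom ≫ H.isoPullback.inv) ≫ W.hom = pullback.snd A.obj.hom (pr c l)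
    rw [Category.assoc, H.isoPullback_inv_snd, H2.isoPullback_hom_snd])

omit [IsDirected ι (· ≤ ·)] [Nonempty ι] [∀ (a b : ιᵒᵖ) (h : a ⟶ b), IsAffineHom (Xs.map h)]
  [∀ a, CompactSpace ↥(Xs.obj a)] [∀ a, QuasiSeparatedSpace ↥(Xs.obj a)] in
theorem range_bc_map {X Y : Scheme.{u}} (f : X ⟶ Y) {U V : Y.Etale} (g : V ⟶ U)
    (x : ↥((EtCoh.bc f).obj U).left) :
    (∃ y, ((EtCoh.bc f).map g).left y = x) ↔
      ∃ v, g.left v = (pullback.fst U.hom f : ((EtCoh.bc f).obj U).left ⟶ U.left) x := by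
  have sq := EtCoh.isPullback_bc_map f g
  constructor
  · rintro ⟨y, rfl⟩
    exact ⟨(pullback.fst V.hom f : ((EtCoh.bc f).obj V).left ⟶ V.left) y,
      (congrArg (fun k => k y) sq.w).symm⟩
  · rintro ⟨v, hv⟩
    obtain ⟨z, hz1, -⟩ := Scheme.Pullback.exists_preimage_pullback
      (f := (pullback.fst U.hom f : ((EtCoh.bc f).obj U).left ⟶ U.left)) (g := g.left) x v hv.symm
    refine ⟨sq.isoPullback.inv z, ?_⟩
    rw [← hz1, ← Scheme.Hom.comp_apply, IsPullback.isoPullback_inv_fst]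
    rfl

/-- The comparison of the base change to the vertex with a stage. -/
noncomputable def toStage (c : Cone Xs) (A : Obj Xs) {l : ι} (h : A.idx ≤ l) :
    ((Phi c).obj A).left ⟶ ((EtCoh.bc (tr Xs h)).obj A.obj).left :=
  pullback.lift (pullback.fst A.obj.hom (pr c A.idx)) (pullback.snd A.obj.hom (pr c A.idx) ≫ pr c l)
    (pullback.condition.trans ((congrArg (pullback.snd A.obj.hom (pr c A.idx) ≫ ·) (pr_tr c h)).symm.trans
      (Category.assoc _ _ _).symm))

omit [IsDirected ι (· ≤ ·)] [Nonempty ι] [∀ (a b : ιᵒᵖ) (h : a ⟶ b), IsAffineHom (Xs.map h)]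
  [∀ a, CompactSpace ↥(Xs.obj a)] [∀ a, QuasiSeparatedSpace ↥(Xs.obj a)] in
theorem toStage_proj (A : Obj Xs) {l : ι} (h : A.idx ≤ l) :
    ((Phi c).map (proj h A.obj)).left ≫ toStage c A h =
      pullback.fst ((EtCoh.bc (tr Xs h)).obj A.obj).hom (pr c l) := by
  have e1 : ((PhiInv c h A.obj).left ≫ pullback.fst ((EtCoh.bc (tr Xs h)).obj A.obj).hom (pr c l)) = toStage c A h :=
    pullback.lift_fst _ _ _
  have e2 := congrArg (fun k => k.left) (proj_PhiInv c h A.obj)
  exact (congrArg (_ ≫ ·) e1).symm.trans ((Category.assoc _ _ _).symm.trans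
    ((congrArg (· ≫ _) e2).trans (Category.id_comp _)))

omit [IsDirected ι (· ≤ ·)] [Nonempty ι] [∀ (a b : ιᵒᵖ) (h : a ⟶ b), IsAffineHom (Xs.map h)]
  [∀ a, CompactSpace ↥(Xs.obj a)] [∀ a, QuasiSeparatedSpace ↥(Xs.obj a)] in
theorem toStage_up {A B : Obj Xs} (f : B ⟶ A) {l : ι} (h : B.idx ≤ l) :
    toStage c B h ≫ (up f h).left = ((Phi c).map f).left ≫ toStage c A (f.hle.trans h) := by
  refine pullback.hom_ext ?_ ?_
  · exact (Category.assoc _ _ _).trans ((congrArg (_ ≫ ·) (pullback.lift_fst _ _ _)).trans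
      ((Category.assoc _ _ _).symm.trans ((congrArg (· ≫ f.left) (pullback.lift_fst _ _ _)).trans
        ((Phi_fst c f).symm.trans ((congrArg (_ ≫ ·) (pullback.lift_fst _ _ _).symm).trans
          (Category.assoc _ _ _).symm)))))
  · exact (Category.assoc _ _ _).trans ((congrArg (_ ≫ ·) (pullback.lift_snd _ _ _)).trans
      ((pullback.lift_snd _ _ _).trans ((congrArg (· ≫ pr c l) (pullback.lift_snd _ _ _).symm).trans
        ((Category.assoc _ _ _).trans ((congrArg (_ ≫ ·) (pullback.lift_snd _ _ _).symm).trans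
          (Category.assoc _ _ _).symm)))))

include hc in
/-- Points in opens of the base change have neighbourhoods from an affine of a stage. -/
theorem exists_open_stage (A : Obj Xs) (O : ((Phi c).obj A).left.Opens) (p : ↥((Phi c).obj A).left)
    (hp : p ∈ O) :
    ∃ (B : Obj Xs) (f : B ⟶ A), IsAffine B.obj.left ∧ p ∈ Set.range ((Phi c).map f).left ∧
      Set.range ((Phi c).map f).left ⊆ (O : Set ↥((Phi c).obj A).left) := by
  let D := LimTop61.bcDiagram Xs A.obj.hom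
  let qc := LimTop61.bcCone Xs c A.obj.hom (pullback.fst A.obj.hom (pr c A.idx))
    (pullback.snd A.obj.hom (pr c A.idx)) pullback.condition
  have hlim : IsLimit qc :=
    LimTop61.isLimitBcCone Xs c hc A.obj.hom _ _ (IsPullback.of_hasPullback A.obj.hom (pr c A.idx))
  obtain ⟨_, ⟨k, V, hV, rfl⟩, hpV, hVO⟩ := (TopologicalSpace.Opens.isBasis_iff_nbhd.1
    (isBasis_preimage_isAffineOpen D qc hlim)) (show p ∈ O from hp)
  let h : A.idx ≤ k.left.unop := leOfHom k.hom.unop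
  let A' := (EtCoh.bc (tr Xs h)).obj A.obj
  let V' : A'.left.Opens := V
  let f : (⟨k.left.unop, Unr55.EtSh.openSub A' V'⟩ : Obj Xs) ⟶ A :=
    (incl k.left.unop).map (Unr55.EtSh.openSubι A' V') ≫ proj h A.obj
  have key : ∀ x, (∃ y, ((Phi c).map f).left y = x) ↔ toStage c A h x ∈ V' := by
    intro x
    let x' := (PhiInv c h A.obj).left x
    have hx : ((Phi c).map (proj h A.obj)).left x' = x := by
      exact congrArg (fun k => k.left x) (PhiInv_proj c h A.obj)
    have hx' : toStage c A h x = pullback.fst A'.hom (pr c k.left.unop) x' := by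
      rw [← hx, ← Scheme.Hom.comp_apply, toStage_proj]
      rfl
    have hr := range_bc_map (pr c k.left.unop) (Unr55.EtSh.openSubι A' V') x'
    have e : ((Phi c).map f) = (EtCoh.bc (pr c k.left.unop)).map (Unr55.EtSh.openSubι A' V') ≫
        (Phi c).map (proj h A.obj) :=
      ((Phi c).map_comp _ _).trans (congrArg (· ≫ _) (Phi_incl c _ _))
    rw [hx']
    constructor
    · rintro ⟨y, rfl⟩
      obtain ⟨v, hv⟩ := hr.1 ⟨y, by
        change _ = (PhiInv c h A.obj).left (((Phi c).map f).left y)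
        rw [e]
        exact (congrArg (fun q => q.left (((EtCoh.bc (pr c k.left.unop)).map (Unr55.EtSh.openSubι A' V')).left y))
          (proj_PhiInv c h A.obj)).symm⟩
      rw [← hv]
      exact V'.range_ι.le ⟨v, rfl⟩
    · intro hxV
      obtain ⟨v, hv⟩ := V'.range_ι.ge hxV
      obtain ⟨y, hy⟩ := hr.2 ⟨v, hv⟩
      refine ⟨y, ?_⟩
      rw [e]
      exact (congrArg ((Phi c).map (proj h A.obj)).left hy).trans hx
  refine ⟨_, f, hV, (key p).2 hpV, ?_⟩
  rintro _ ⟨y, rfl⟩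
  exact hVO ((key _).1 ⟨y, rfl⟩)

include hc in
/-- A finite family covering after base change to the limit covers at some stage. -/
theorem exists_stage_cover (A : Obj Xs) (hA : CompactSpace ↥A.obj.left) {σ : Type u} [Finite σ]
    (B : σ → Obj Xs) (f : ∀ i, B i ⟶ A)
    (hcov : ∀ x : ↥((Phi c).obj A).left, ∃ i, x ∈ Set.range ((Phi c).map (f i)).left) (j₀ : ι) :
    ∃ (l : ι) (_ : j₀ ≤ l) (h : A.idx ≤ l) (hB : ∀ i, (B i).idx ≤ l),
      ∀ x : ↥((EtCoh.bc (tr Xs h)).obj A.obj).left, ∃ i y, (up (f i) (hB i)).left y = x := by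
  obtain ⟨l₁, hl₁⟩ := Finite.exists_le (fun i => (B i).idx)
  obtain ⟨l₂, h₁, h₂⟩ := directed_of (· ≤ ·) l₁ j₀
  obtain ⟨l₀, h₃, h₀⟩ := directed_of (· ≤ ·) l₂ A.idx
  let hB₀ : ∀ i, (B i).idx ≤ l₀ := fun i => (hl₁ i).trans (h₁.trans h₃)
  let D := LimTop61.bcDiagram Xs A.obj.hom
  let qc := LimTop61.bcCone Xs c A.obj.hom (pullback.fst A.obj.hom (pr c A.idx))
    (pullback.snd A.obj.hom (pr c A.idx)) pullback.condition
  have hlim : IsLimit qc :=
    LimTop61.isLimitBcCone Xs c hc A.obj.hom _ _ (IsPullback.of_hasPullback A.obj.hom (pr c A.idx))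
  let k₀ : Over (op A.idx) := Over.mk (homOfLE h₀).op
  let U : ((EtCoh.bc (tr Xs h₀)).obj A.obj).left.Opens :=
    ⟨⋃ i, Set.range (up (f i) (hB₀ i)).left, isOpen_iUnion fun i => by
      have : Etale (up (f i) (hB₀ i)).left := Unr55.EtSh.etale_left _
      exact (up (f i) (hB₀ i)).left.isOpenMap.isOpen_range⟩
  have hU : qc.π.app k₀ ⁻¹ᵁ U = ⊤ := by
    refine eq_top_iff.2 fun x _ => ?_
    obtain ⟨i, y, hy⟩ := hcov x
    refine Set.mem_iUnion.2 ⟨i, toStage c (B i) (hB₀ i) y, ?_⟩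
    rw [← Scheme.Hom.comp_apply, toStage_up, Scheme.Hom.comp_apply, hy]
    rfl
  have : ∀ k, CompactSpace ↥(D.obj k) := fun k => @LimTop61.bcDiagram_compactSpace _ _ Xs _ _ A.obj.hom _ hA k
  obtain ⟨k, φ, hφ⟩ := exists_map_eq_top D qc hlim (i := k₀) U hU
  let l := k.left.unop
  have h₀l : l₀ ≤ l := leOfHom φ.left.unop
  refine ⟨l, (h₂.trans h₃).trans h₀l, h₀.trans h₀l, fun i => (hB₀ i).trans h₀l, fun x => ?_⟩
  obtain ⟨i, y₀, hy₀⟩ := Set.mem_iUnion.1 (hφ.ge (Set.mem_univ x) : D.map φ x ∈ U)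
  have sA : IsPullback (D.map φ : ((EtCoh.bc (tr Xs (h₀.trans h₀l))).obj A.obj).left ⟶ _)
      (pullback.snd A.obj.hom (tr Xs (h₀.trans h₀l))) (pullback.snd A.obj.hom (tr Xs h₀))
      (tr Xs h₀l) := LimTop61.bcDiagram_map_isPullback Xs A.obj.hom φ
  let φB : Over.mk (homOfLE ((hB₀ i).trans h₀l)).op ⟶ Over.mk (homOfLE (hB₀ i)).op :=
    Over.homMk (homOfLE h₀l).op (Subsingleton.elim _ _)
  let rB : ((EtCoh.bc (tr Xs ((hB₀ i).trans h₀l))).obj (B i).obj).left ⟶
      ((EtCoh.bc (tr Xs (hB₀ i))).obj (B i).obj).left := (LimTop61.bcDiagram Xs (B i).obj.hom).map φB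
  have sB : IsPullback rB (pullback.snd (B i).obj.hom (tr Xs ((hB₀ i).trans h₀l)))
      (pullback.snd (B i).obj.hom (tr Xs (hB₀ i))) (tr Xs h₀l) :=
    LimTop61.bcDiagram_map_isPullback Xs (B i).obj.hom φB
  have eu : ∀ {n : ι} (hn : (B i).idx ≤ n), (up (f i) hn).left ≫ pullback.snd A.obj.hom (tr Xs ((f i).hle.trans hn)) =
      pullback.snd (B i).obj.hom (tr Xs hn) := fun hn => pullback.lift_snd _ _ _
  have w : (up (f i) ((hB₀ i).trans h₀l)).left ≫ D.map φ = rB ≫ (up (f i) (hB₀ i)).left := by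
    refine pullback.hom_ext ?_ ?_
    · refine (Category.assoc _ _ _).trans ((congrArg (_ ≫ ·) (pullback.lift_fst _ _ _)).trans ?_)
      refine (pullback.lift_fst _ _ _).trans (Eq.trans ?_ (Category.assoc _ _ _).symm)
      refine Eq.trans ?_ (congrArg (rB ≫ ·) (pullback.lift_fst _ _ _).symm)
      exact (congrArg (· ≫ (f i).left) (pullback.lift_fst _ _ _)).symm.trans (Category.assoc _ _ _)
    · refine (Category.assoc _ _ _).trans ((congrArg (_ ≫ ·) sA.w).trans ?_)
      refine Eq.trans ?_ (Category.assoc _ _ _).symm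
      refine Eq.trans ?_ (congrArg (rB ≫ ·) (eu (hB₀ i)).symm)
      exact (Category.assoc _ _ _).symm.trans ((congrArg (· ≫ tr Xs h₀l) (eu _)).trans sB.w.symm)
  have sq : IsPullback rB (up (f i) ((hB₀ i).trans h₀l)).left (up (f i) (hB₀ i)).left (D.map φ) := by
    refine IsPullback.of_bot ?_ w.symm sA
    exact (congrArg₂ (fun a b => IsPullback rB a b (tr Xs h₀l)) (eu _) (eu (hB₀ i))).mpr sB
  obtain ⟨z, hz1, -⟩ := Scheme.Pullback.exists_preimage_pullback
    (f := (D.map φ : ((EtCoh.bc (tr Xs (h₀.trans h₀l))).obj A.obj).left ⟶ _))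
    (g := (up (f i) (hB₀ i)).left) x y₀ hy₀.symm
  refine ⟨i, sq.flip.isoPullback.inv z, ?_⟩
  rw [← hz1, ← Scheme.Hom.comp_apply, IsPullback.isoPullback_inv_fst]
  rfl

include hc in
/-- Morphisms between base changes of stage objects come from a stage. -/
theorem exists_stage_hom {A B : Obj Xs} (hB : QQ B) (g : (Phi c).obj B ⟶ (Phi c).obj A) :
    ∃ (B' : Obj Xs) (p : B' ⟶ B) (f : B' ⟶ A), QQ B' ∧ IsIso ((Phi c).map p) ∧
      (Phi c).map f = (Phi c).map p ≫ g := by
  obtain ⟨l, hBl, hAl⟩ := directed_of (· ≤ ·) B.idx A.idx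
  let B₁ := (EtCoh.bc (tr Xs hBl)).obj B.obj
  let g₁ : (Phi c).obj ⟨l, B₁⟩ ⟶ (Phi c).obj A := (Phi c).map (proj hBl B.obj) ≫ g
  obtain ⟨hB₁, hB₁'⟩ := hB.bc hBl
  let D := LimTop61.bcDiagram Xs B₁.hom
  let qc := LimTop61.bcCone Xs c B₁.hom (pullback.fst B₁.hom (pr c l))
    (pullback.snd B₁.hom (pr c l)) pullback.condition
  have hlim : IsLimit qc :=
    LimTop61.isLimitBcCone Xs c hc B₁.hom _ _ (IsPullback.of_hasPullback B₁.hom (pr c l))
  let t : D ⟶ (Functor.const _).obj (St Xs A.idx) :=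
    { app := fun k => pullback.snd B₁.hom (Xs.map k.hom) ≫ tr Xs (hAl.trans (leOfHom k.hom.unop))
      naturality := fun k k' m => by
        refine Eq.trans ?_ (Category.comp_id _).symm
        refine (Category.assoc _ _ _).symm.trans ((congrArg (· ≫ _) (pullback.lift_snd _ _ _)).trans ?_)
        refine (Category.assoc _ _ _).trans (congrArg (_ ≫ ·) ?_)
        exact tr_trans Xs _ (leOfHom m.left.unop) }
  have : Etale A.obj.hom := A.obj.prop
  let a : qc.pt ⟶ A.obj.left := g₁.left ≫ pullback.fst A.obj.hom (pr c A.idx)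
  have ha : qc.π ≫ t = (Functor.const _).map (a ≫ A.obj.hom) := by
    refine NatTrans.ext (funext fun k => ?_)
    change pullback.lift _ _ _ ≫ pullback.snd B₁.hom (Xs.map k.hom) ≫ _ =
      (g₁.left ≫ pullback.fst A.obj.hom (pr c A.idx)) ≫ A.obj.hom
    rw [pullback.lift_snd_assoc, Category.assoc]
    erw [Category.assoc, pr_tr]
    refine Eq.trans ?_ (congrArg (g₁.left ≫ ·) pullback.condition).symm
    exact (congrArg (· ≫ pr c A.idx) (Over.w g₁.hom).symm).trans (Category.assoc _ _ _)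
  have : ∀ k, CompactSpace ↥(D.obj k) := fun k => @LimTop61.bcDiagram_compactSpace _ _ Xs _ _ B₁.hom _ hB₁ k
  have : ∀ k, QuasiSeparatedSpace ↥(D.obj k) := fun k =>
    @LimTop61.bcDiagram_quasiSeparatedSpace _ _ Xs _ _ B₁.hom _ hB₁' k
  obtain ⟨k, a₀, hk, ha₀⟩ := Scheme.exists_π_app_comp_eq_of_locallyOfFinitePresentation
    D t A.obj.hom qc hlim a ha
  let m := k.left.unop
  have hm : l ≤ m := leOfHom k.hom.unop
  let f : (⟨m, (EtCoh.bc (tr Xs hm)).obj B₁⟩ : Obj Xs) ⟶ A := ⟨hAl.trans hm, a₀, ha₀⟩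
  refine ⟨_, proj hm B₁ ≫ proj hBl B.obj, f, (hB.bc hBl).bc hm, ?_, ?_⟩
  · have := isIso_Phi_proj c hm B₁
    have := isIso_Phi_proj c hBl B.obj
    rw [Functor.map_comp]
    infer_instance
  · refine MorphismProperty.Over.Hom.ext (pullback.hom_ext ?_ ?_)
    · rw [Functor.map_comp, Category.assoc]
      refine Eq.trans ?_ (Category.assoc _ _ _).symm
      refine (Phi_fst c f).trans ?_
      refine Eq.trans ?_ (congrArg (_ ≫ ·) hk)
      refine Eq.trans ?_ (Category.assoc _ _ _)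
      refine congrArg (· ≫ a₀) ?_
      exact (toStage_proj (⟨l, B₁⟩ : Obj Xs) hm).symm
    · exact (Over.w ((Phi c).map f).hom).trans (Over.w ((Phi c).map (proj hm B₁ ≫ proj hBl B.obj) ≫ g).hom).symm

end Groth.Agent.EtLim45
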