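import Groth.Agent.EtLim45.Site
import Groth.Agent.EtCore45.InjPush

/-!
Every system of sheaves embeds into a system of injective sheaves.
-/

set_option autoImplicit false
set_option backward.isDefEq.respectTransparency.types false
universe u

open CategoryTheory CategoryTheory.Limits AlgebraicGeometry Opposite
open Groth.Agent.Unr55.EtSh

namespace Groth.Agent.EtLim45

variable {ι : Type u} [Preorder ι] {Xs : ιᵒᵖ ⥤ Scheme.{u}} (I : ∀ l : ι, EtCoh.Ab (St Xs l))

/-- Sections of the product of the direct images to an earlier stage. -/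
abbrev jobj (A : Obj Xs) : Type (u + 1) :=
  ∀ l : {l : ι // A.idx ≤ l}, (I l.1).obj.obj (op ((EtCoh.bc (tr Xs l.2)).obj A.obj))

/-- Functoriality of `jobj`. -/
noncomputable def jmap {A B : Obj Xs} (f : A ⟶ B) : jobj I B →+ jobj I A :=
  AddMonoidHom.mk' (fun x l => (I l.1).obj.map (up f l.2).op (x ⟨l.1, f.hle.trans l.2⟩))
    fun x y => funext fun l => map_add ((I l.1).obj.map (up f l.2).op).hom _ _

theorem up_id (A : Obj Xs) {l : ι} (hl : A.idx ≤ l) : up (𝟙 A) hl = 𝟙 _ :=
  MorphismProperty.Over.Hom.ext (pullback.hom_ext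
    ((pullback.lift_fst _ _ _).trans ((Category.comp_id _).trans (Category.id_comp _).symm))
    ((pullback.lift_snd _ _ _).trans (Category.id_comp _).symm))

theorem up_comp {A B C : Obj Xs} (f : A ⟶ B) (g : B ⟶ C) {l : ι} (hl : A.idx ≤ l) :
    up (f ≫ g) hl = up f hl ≫ up g (f.hle.trans hl) := by
  refine MorphismProperty.Over.Hom.ext (pullback.hom_ext ?_ ?_)
  · refine (pullback.lift_fst _ _ _).trans (Eq.trans ?_ (Category.assoc _ _ _).symm)
    refine Eq.trans ?_ (congrArg (_ ≫ ·) (pullback.lift_fst _ _ _).symm)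
    refine Eq.trans ?_ (Category.assoc _ _ _)
    refine Eq.trans ?_ (congrArg (· ≫ g.left) (pullback.lift_fst _ _ _).symm)
    exact (Category.assoc _ _ _).symm
  · refine (pullback.lift_snd _ _ _).trans (Eq.trans ?_ (Category.assoc _ _ _).symm)
    refine Eq.trans ?_ (congrArg (_ ≫ ·) (pullback.lift_snd _ _ _).symm)
    exact (pullback.lift_snd _ _ _).symm

/-- The presheaf on the fibred site. -/
noncomputable def jP : (Obj Xs)ᵒᵖ ⥤ AddCommGrpCat.{u + 1} where
  obj A := AddCommGrpCat.of (jobj I A.unop)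
  map f := AddCommGrpCat.ofHom (jmap I f.unop)
  map_id A := ConcreteCategory.hom_ext _ _ fun x => funext fun l => by
    change (I l.1).obj.map (up (𝟙 A.unop) l.2).op (x ⟨l.1, _⟩) = x l
    rw [up_id, op_id, (I l.1).obj.map_id]
    rfl
  map_comp f g := ConcreteCategory.hom_ext _ _ fun x => funext fun l => by
    change (I l.1).obj.map (up (g.unop ≫ f.unop) l.2).op (x ⟨l.1, _⟩) =
      (I l.1).obj.map (up g.unop l.2).op ((I l.1).obj.map (up f.unop _).op (x ⟨l.1, _⟩))
    rw [up_comp, op_comp, (I l.1).obj.map_comp]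
    rfl

theorem up_incl {j l : ι} (h : j ≤ l) {U V : (St Xs j).Etale} (g : U ⟶ V) :
    up ((incl j).map g) h = (EtCoh.bc (tr Xs h)).map g :=
  MorphismProperty.Over.Hom.ext (pullback.hom_ext
    ((pullback.lift_fst _ _ _).trans (EtCoh.isPullback_bc_map _ g).w.symm)
    ((pullback.lift_snd _ _ _).trans (pullback.lift_snd _ _ _).symm))

theorem jP_isSheaf (j : ι) : Presheaf.IsSheaf (St Xs j).smallEtaleTopology ((incl j).op ⋙ jP I) := by
  rw [Presheaf.isSheaf_iff_isSheaf_forget _ _ (forget AddCommGrpCat.{u + 1}), isSheaf_iff_isSheaf_of_type]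
  intro U R hR x hx
  have key : ∀ l : {l : ι // j ≤ l}, ∃! t : (I l.1).obj.obj (op ((EtCoh.bc (tr Xs l.2)).obj U)),
      ∀ (V : (St Xs j).Etale) (g : V ⟶ U) (hg : R g),
        (I l.1).obj.map ((EtCoh.bc (tr Xs l.2)).map g).op t = x g hg l := by
    intro l
    have hpush := isSheafFor_forget ((EtCoh.push (tr Xs l.2)).obj (I l.1)) hR
    let xl : Presieve.FamilyOfElements (((EtCoh.push (tr Xs l.2)).obj (I l.1)).obj ⋙ forget AddCommGrpCat.{u + 1})
        R.arrows := fun V g hg => x g hg l
    have hxl : xl.Compatible := by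
      intro Y₁ Y₂ Z g₁ g₂ f₁ f₂ h₁ h₂ e
      have h := congrFun (hx g₁ g₂ h₁ h₂ e) l
      change (I l.1).obj.map (up ((incl j).map g₁) l.2).op (x f₁ h₁ l) =
        (I l.1).obj.map (up ((incl j).map g₂) l.2).op (x f₂ h₂ l) at h
      rw [up_incl, up_incl] at h
      exact h
    obtain ⟨t, ht, hu⟩ := hpush xl hxl
    exact ⟨t, fun V g hg => ht g hg, fun t' ht' => hu t' fun V g hg => ht' V g hg⟩
  choose t ht hu using key
  refine ⟨fun l => t l, fun V g hg => funext fun l => ?_, fun t' ht' => funext fun l => hu l (t' l) fun V g hg => ?_⟩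
  · change (I l.1).obj.map (up ((incl j).map g) l.2).op (t l) = x g hg l
    rw [up_incl]
    exact ht l V g hg
  · have h := congrFun (ht' g hg) l
    change (I l.1).obj.map (up ((incl j).map g) l.2).op (t' l) = x g hg l at h
    rw [up_incl] at h
    exact h

/-- The product of direct images, as a system. -/
noncomputable def jSys : Sys Xs := ⟨jP I, jP_isSheaf I⟩

/-- The projection to a factor. -/
noncomputable def jProj (j : ι) (l : {l : ι // j ≤ l}) : (jSys I).F j ⟶ (EtCoh.push (tr Xs l.2)).obj (I l.1) :=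
  ⟨{ app := fun V => AddCommGrpCat.ofHom (AddMonoidHom.mk' (fun x => x l) fun _ _ => rfl)
     naturality := fun U V g => ConcreteCategory.hom_ext _ _ fun x =>
      congrArg (fun q => (I l.1).obj.map q.op (x l)) (up_incl l.2 g.unop) }⟩

theorem injective_jSys [∀ l, Injective (I l)] (j : ι) : Injective ((jSys I).F j) := by
  constructor
  intro A B g f hf
  have hinj : ∀ l : {l : ι // j ≤ l}, Injective ((EtCoh.push (tr Xs l.2)).obj (I l.1)) := fun l =>
    EtCore45.injective_push (tr Xs l.2) (I l.1)
  choose h hh using fun l : {l : ι // j ≤ l} => (hinj l).factors (g ≫ jProj I j l) f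
  refine ⟨⟨{ app := fun V => AddCommGrpCat.ofHom (AddMonoidHom.mk' (fun b l => (h l).hom.app V b)
      (fun x y => funext fun l => map_add ((h l).hom.app V).hom x y))
             naturality := fun U V k => ConcreteCategory.hom_ext _ _ fun b => funext fun l => ?_ }⟩, ?_⟩
  · refine (NatTrans.naturality_apply (h l).hom k b).trans ?_
    change (I l.1).obj.map ((EtCoh.bc (tr Xs l.2)).map k.unop).op ((h l).hom.app U b) =
      (I l.1).obj.map (up ((incl j).map k.unop) l.2).op ((h l).hom.app U b)
    rw [up_incl]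
    rfl
  · refine ObjectProperty.hom_ext _ (NatTrans.ext (funext fun V => ConcreteCategory.hom_ext _ _ fun a => ?_))
    funext l
    exact ConcreteCategory.congr_hom (congrArg (fun q => q.hom.app V) (hh l)) a

variable (S : Sys Xs) (e : ∀ l, S.F l ⟶ I l)

/-- The canonical map into the product. -/
noncomputable def toJ : S.P ⟶ (jSys I).P where
  app A := AddCommGrpCat.ofHom (AddMonoidHom.mk'
    (fun x l => (e l.1).hom.app (op ((EtCoh.bc (tr Xs l.2)).obj A.unop.obj))
      (S.P.map (proj l.2 A.unop.obj).op x))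
    fun x y => funext fun l => (congrArg _ (map_add (S.P.map (proj l.2 A.unop.obj).op).hom x y)).trans
      (map_add ((e l.1).hom.app (op ((EtCoh.bc (tr Xs l.2)).obj A.unop.obj))).hom _ _))
  naturality A B f := ConcreteCategory.hom_ext _ _ fun x => funext fun l => by
    change (e l.1).hom.app _ (S.P.map (proj l.2 B.unop.obj).op (S.P.map f x)) =
      (I l.1).obj.map (up f.unop l.2).op ((e l.1).hom.app _ (S.P.map (proj _ A.unop.obj).op x))
    refine Eq.trans ?_ (NatTrans.naturality_apply (e l.1).hom (up f.unop l.2).op _)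
    refine congrArg ((e l.1).hom.app _) ?_
    refine (ConcreteCategory.congr_hom (S.P.map_comp _ _) x).symm.trans ?_
    refine Eq.trans ?_ (ConcreteCategory.congr_hom (S.P.map_comp _ _) x)
    exact congrArg (fun q => S.P.map q x) (congrArg Quiver.Hom.op (up_proj f.unop l.2).symm)

theorem toJ_injective (he : ∀ l, Mono (e l)) (A : Obj Xs) : Function.Injective ((toJ I S e).app (op A)) := by
  intro x y hxy
  have h := congrFun hxy ⟨A.idx, le_rfl⟩
  have hm : Mono (e A.idx).hom := (sheafToPresheaf _ AddCommGrpCat.{u + 1}).map_mono (e A.idx)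
  have h' : S.P.map (proj le_rfl A.obj).op x = S.P.map (proj le_rfl A.obj).op y :=
    (AddCommGrpCat.mono_iff_injective _).1 ((NatTrans.mono_iff_mono_app (e A.idx).hom).1 hm _) h
  let s : A ⟶ ⟨A.idx, (EtCoh.bc (tr Xs (le_refl A.idx))).obj A.obj⟩ := (incl A.idx).map (toBc (𝟙 A))
  have hs : s ≫ proj le_rfl A.obj = 𝟙 A := factor (𝟙 A)
  have h'' := congrArg (S.P.map s.op) h'
  rwa [← ConcreteCategory.comp_apply, ← ConcreteCategory.comp_apply, ← Functor.map_comp, ← op_comp, hs, op_id,
    S.P.map_id, ConcreteCategory.id_apply, ConcreteCategory.id_apply] at h''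

/-- A system of sheaves embeds into a system of injectives. -/
theorem exists_injective_system : ∃ (J : Sys Xs) (i : S.P ⟶ J.P), (∀ j, Injective (J.F j)) ∧
    ∀ A, Function.Injective (i.app (op A)) :=
  ⟨jSys fun l => Injective.under (S.F l), toJ _ S fun l => Injective.ι (S.F l),
    injective_jSys _, toJ_injective _ S _ fun l => inferInstance⟩

end Groth.Agent.EtLim45
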