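import Groth.Agent.EtLim45.Colim
import Groth.Agent.EtLim45.InjSys

/-!
Cokernels of monomorphisms of systems, and the induced short exact sequence on the vertex.
-/

set_option autoImplicit false
set_option backward.isDefEq.respectTransparency.types false
set_option linter.unusedSectionVars false
universe u

open CategoryTheory CategoryTheory.Limits AlgebraicGeometry Opposite
open Groth.Agent.Unr55.EtSh

namespace Groth.Agent.EtLim45

variable {ι : Type u} [Preorder ι] {Xs : ιᵒᵖ ⥤ Scheme.{u}}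

theorem sheaf_hom_ext {X : Scheme.{u}} {A B : EtCoh.Ab X} {p q : A ⟶ B}
    (h : ∀ (V : X.Etale) (x : EtCoh.sect A V), p.hom.app (op V) x = q.hom.app (op V) x) : p = q :=
  ObjectProperty.hom_ext _ (NatTrans.ext (funext fun V => ConcreteCategory.hom_ext _ _ fun x => h V.unop x))

theorem toBc_id (A : Obj Xs) :
    (incl A.idx).map (toBc (𝟙 A)) ≫ proj le_rfl A.obj = 𝟙 A := factor (𝟙 A)

theorem toBc_eq {A B : Obj Xs} (f : A ⟶ B) (g : A.obj ⟶ (EtCoh.bc (tr Xs f.hle)).obj B.obj)
    (hg : g.left ≫ pullback.fst B.obj.hom (tr Xs f.hle) = f.left) : g = toBc f :=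
  MorphismProperty.Over.Hom.ext (pullback.hom_ext (hg.trans (pullback.lift_fst _ _ _).symm)
    ((Over.w g.hom).trans (pullback.lift_snd _ _ _).symm))

/-- The comparison of two-step and one-step base change. -/
noncomputable def psi {i j k : ι} (hij : i ≤ j) (hjk : j ≤ k) (V : (St Xs i).Etale) :
    (EtCoh.bc (tr Xs (hij.trans hjk))).obj V ⟶ (EtCoh.bc (tr Xs hjk)).obj ((EtCoh.bc (tr Xs hij)).obj V) :=
  MorphismProperty.Over.homMk (pullback.lift
    (pullback.lift (pullback.fst V.hom (tr Xs (hij.trans hjk)))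
      (pullback.snd V.hom (tr Xs (hij.trans hjk)) ≫ tr Xs hjk)
      (pullback.condition.trans ((congrArg (_ ≫ ·) (tr_trans Xs hij hjk)).symm.trans (Category.assoc _ _ _).symm)))
    (pullback.snd V.hom (tr Xs (hij.trans hjk))) (pullback.lift_snd _ _ _))
    (pullback.lift_snd _ _ _) trivial

theorem psi_proj {i j k : ι} (hij : i ≤ j) (hjk : j ≤ k) (V : (St Xs i).Etale) :
    (incl k).map (psi hij hjk V) ≫ proj hjk ((EtCoh.bc (tr Xs hij)).obj V) ≫ proj hij V = proj (hij.trans hjk) V := by
  refine hom_ext ?_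
  refine (Category.assoc _ _ _).symm.trans ((congrArg (· ≫ _) (pullback.lift_fst _ _ _)).trans ?_)
  exact pullback.lift_fst _ _ _

theorem proj2_hom_ext {i j k : ι} (hij : i ≤ j) (hjk : j ≤ k) {W : (St Xs k).Etale} (V : (St Xs i).Etale)
    {p q : W ⟶ (EtCoh.bc (tr Xs hjk)).obj ((EtCoh.bc (tr Xs hij)).obj V)}
    (h : p.left ≫ pullback.fst ((EtCoh.bc (tr Xs hij)).obj V).hom (tr Xs hjk) ≫ pullback.fst V.hom (tr Xs hij) =
      q.left ≫ pullback.fst ((EtCoh.bc (tr Xs hij)).obj V).hom (tr Xs hjk) ≫ pullback.fst V.hom (tr Xs hij)) :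
    p = q := by
  have e : p.left ≫ pullback.snd ((EtCoh.bc (tr Xs hij)).obj V).hom (tr Xs hjk) =
      q.left ≫ pullback.snd ((EtCoh.bc (tr Xs hij)).obj V).hom (tr Xs hjk) :=
    (Over.w p.hom).trans (Over.w q.hom).symm
  refine MorphismProperty.Over.Hom.ext (pullback.hom_ext (pullback.hom_ext ?_ ?_) e)
  · exact (Category.assoc _ _ _).trans (h.trans (Category.assoc _ _ _).symm)
  · have w : pullback.fst ((EtCoh.bc (tr Xs hij)).obj V).hom (tr Xs hjk) ≫ pullback.snd V.hom (tr Xs hij) =
        pullback.snd ((EtCoh.bc (tr Xs hij)).obj V).hom (tr Xs hjk) ≫ tr Xs hjk := pullback.condition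
    exact (Category.assoc _ _ _).trans ((congrArg (p.left ≫ ·) w).trans ((Category.assoc _ _ _).symm.trans
      ((congrArg (· ≫ tr Xs hjk) e).trans ((Category.assoc _ _ _).trans ((congrArg (q.left ≫ ·) w).symm.trans
        (Category.assoc _ _ _).symm)))))

section Quot

variable {S J : Sys Xs} (i : S.P ⟶ J.P)

/-- The quotient at a stage. -/
noncomputable abbrev qF (j : ι) : EtCoh.Ab (St Xs j) := cokernel (compAt i j)

/-- The quotient map at a stage. -/
noncomputable abbrev qπ (j : ι) : J.F j ⟶ qF i j := cokernel.π (compAt i j)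

theorem qTrans_aux {j k : ι} (h : j ≤ k) :
    compAt i j ≫ J.trans h ≫ (EtCoh.push (tr Xs h)).map (qπ i k) = 0 := by
  rw [← Category.assoc, trans_natural, Category.assoc, ← Functor.map_comp, cokernel.condition,
    Functor.map_zero, comp_zero]

/-- Transition maps of the quotient. -/
noncomputable def qTrans {j k : ι} (h : j ≤ k) : qF i j ⟶ (EtCoh.push (tr Xs h)).obj (qF i k) :=
  cokernel.desc (compAt i j) (J.trans h ≫ (EtCoh.push (tr Xs h)).map (qπ i k)) (qTrans_aux i h)

theorem qTrans_π {j k : ι} (h : j ≤ k) (V : (St Xs j).Etale) (y : J.P.obj (op (⟨j, V⟩ : Obj Xs))) :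
    (qTrans i h).hom.app (op V) ((qπ i j).hom.app (op V) y) =
      (qπ i k).hom.app (op ((EtCoh.bc (tr Xs h)).obj V)) (J.P.map (proj h V).op y) :=
  ConcreteCategory.congr_hom (congrArg (fun q : J.F j ⟶ _ => q.hom.app (op V))
    (cokernel.π_desc (compAt i j) (J.trans h ≫ (EtCoh.push (tr Xs h)).map (qπ i k)) (qTrans_aux i h))) y

/-- The map attached to a morphism. -/
noncomputable def qmap {A B : Obj Xs} (f : A ⟶ B) :
    EtCoh.sect (qF i B.idx) B.obj →+ EtCoh.sect (qF i A.idx) A.obj :=
  ((qF i A.idx).obj.map (toBc f).op).hom.comp ((qTrans i f.hle).hom.app (op B.obj)).hom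

theorem qmap_π {A B : Obj Xs} (f : A ⟶ B) (y : J.P.obj (op B)) :
    qmap i f ((qπ i B.idx).hom.app (op B.obj) y) = (qπ i A.idx).hom.app (op A.obj) (J.P.map f.op y) := by
  refine (congrArg ((qF i A.idx).obj.map (toBc f).op) (qTrans_π i f.hle B.obj y)).trans ?_
  refine (NatTrans.naturality_apply (qπ i A.idx).hom (toBc f).op _).symm.trans
    (congrArg ((qπ i A.idx).hom.app (op A.obj)) ?_)
  exact (pmap_comp J _ _ y).symm.trans (congrArg (fun q => J.P.map q.op y) (factor f))

/-- Two steps against one step. -/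
noncomputable def qTwo {a b k : ι} (hkb : k ≤ b) (hba : b ≤ a) :
    qF i k ⟶ (EtCoh.push (tr Xs (hkb.trans hba))).obj (qF i a) :=
  ⟨{ app := fun V => AddCommGrpCat.ofHom (((qF i a).obj.map (psi hkb hba V.unop).op).hom.comp
      (((qTrans i hba).hom.app (op ((EtCoh.bc (tr Xs hkb)).obj V.unop))).hom.comp
        ((qTrans i hkb).hom.app V).hom))
     naturality := fun U V g => ConcreteCategory.hom_ext _ _ fun x => by
      change (qF i a).obj.map (psi hkb hba V.unop).op ((qTrans i hba).hom.app _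
          ((qTrans i hkb).hom.app V ((qF i k).obj.map g x))) =
        (qF i a).obj.map ((EtCoh.bc (tr Xs (hkb.trans hba))).map g.unop).op
          ((qF i a).obj.map (psi hkb hba U.unop).op ((qTrans i hba).hom.app _ ((qTrans i hkb).hom.app U x)))
      refine (congrArg (fun z => (qF i a).obj.map (psi hkb hba V.unop).op ((qTrans i hba).hom.app _ z))
        (NatTrans.naturality_apply (qTrans i hkb).hom g x)).trans ?_
      refine (congrArg ((qF i a).obj.map (psi hkb hba V.unop).op)
        (NatTrans.naturality_apply (qTrans i hba).hom ((EtCoh.bc (tr Xs hkb)).map g.unop).op _)).trans ?_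
      refine (gmap_comp (qF i a) _ _ _).symm.trans (Eq.trans ?_ (gmap_comp (qF i a) _ _ _))
      refine congrArg (fun q : _ ⟶ _ => (qF i a).obj.map q.op
        ((qTrans i hba).hom.app _ ((qTrans i hkb).hom.app U x))) (proj2_hom_ext hkb hba U.unop ?_)
      have e1 : (psi hkb hba U.unop).left ≫ pullback.fst _ (tr Xs hba) ≫ pullback.fst U.unop.hom (tr Xs hkb) =
          pullback.fst U.unop.hom (tr Xs (hkb.trans hba)) := congrArg Hom.left (psi_proj hkb hba U.unop)
      have e2 : (psi hkb hba V.unop).left ≫ pullback.fst _ (tr Xs hba) ≫ pullback.fst V.unop.hom (tr Xs hkb) =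
          pullback.fst V.unop.hom (tr Xs (hkb.trans hba)) := congrArg Hom.left (psi_proj hkb hba V.unop)
      have n1 := (EtCoh.isPullback_bc_map (tr Xs hba) ((EtCoh.bc (tr Xs hkb)).map g.unop)).w
      have n2 := (EtCoh.isPullback_bc_map (tr Xs hkb) g.unop).w
      have n3 := (EtCoh.isPullback_bc_map (tr Xs (hkb.trans hba)) g.unop).w
      refine (Category.assoc _ _ _).trans ((congrArg (_ ≫ ·) ((Category.assoc _ _ _).symm.trans
        ((congrArg (· ≫ pullback.fst U.unop.hom (tr Xs hkb)) n1).trans ((Category.assoc _ _ _).trans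
          (congrArg (_ ≫ ·) n2))))).trans ?_)
      refine Eq.trans ?_ (Category.assoc _ _ _).symm
      refine Eq.trans ?_ (congrArg (_ ≫ ·) e1.symm)
      refine Eq.trans ?_ n3.symm
      refine Eq.trans ?_ (congrArg (· ≫ g.unop.left) e2)
      exact ((Category.assoc _ _ _).trans (congrArg (_ ≫ ·) (Category.assoc _ _ _))).symm }⟩

theorem qTrans_two {a b k : ι} (hkb : k ≤ b) (hba : b ≤ a) : qTrans i (hkb.trans hba) = qTwo i hkb hba := by
  refine (cancel_epi (qπ i k)).1 (sheaf_hom_ext fun V y => ?_)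
  refine (qTrans_π i (hkb.trans hba) V y).trans ?_
  change _ = (qF i a).obj.map (psi hkb hba V).op ((qTrans i hba).hom.app _
    ((qTrans i hkb).hom.app (op V) ((qπ i k).hom.app (op V) y)))
  rw [qTrans_π i hkb V y]
  refine Eq.trans ?_ (congrArg ((qF i a).obj.map (psi hkb hba V).op)
    (qTrans_π i hba ((EtCoh.bc (tr Xs hkb)).obj V) _).symm)
  refine Eq.trans ?_ (NatTrans.naturality_apply (qπ i a).hom (psi hkb hba V).op _)
  refine congrArg ((qπ i a).hom.app _) ?_
  exact (congrArg (fun q => J.P.map q.op y) (psi_proj hkb hba V)).symm.trans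
    ((pmap_comp J _ _ y).trans (pmap_comp J _ _ _))

theorem qmap_id (A : Obj Xs) (x : EtCoh.sect (qF i A.idx) A.obj) : qmap i (𝟙 A) x = x := by
  let P : qF i A.idx ⟶ qF i A.idx :=
    ⟨{ app := fun V => AddCommGrpCat.ofHom (qmap i (𝟙 (⟨A.idx, V.unop⟩ : Obj Xs)))
       naturality := fun U V g => ConcreteCategory.hom_ext _ _ fun z => by
        change (qF i A.idx).obj.map (toBc (𝟙 (⟨A.idx, V.unop⟩ : Obj Xs))).op ((qTrans i le_rfl).hom.app V
            ((qF i A.idx).obj.map g z)) =
          (qF i A.idx).obj.map g ((qF i A.idx).obj.map (toBc (𝟙 (⟨A.idx, U.unop⟩ : Obj Xs))).op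
            ((qTrans i le_rfl).hom.app U z))
        refine (congrArg ((qF i A.idx).obj.map _) (NatTrans.naturality_apply (qTrans i (le_refl A.idx)).hom g z)).trans ?_
        refine (gmap_comp (qF i A.idx) _ ((EtCoh.bc (tr Xs (le_refl A.idx))).map g.unop) _).symm.trans
          (Eq.trans ?_ (gmap_comp (qF i A.idx) g.unop _ _))
        refine congrArg (fun q : V.unop ⟶ _ => (qF i A.idx).obj.map q.op ((qTrans i le_rfl).hom.app U z)) ?_
        let f : (⟨A.idx, V.unop⟩ : Obj Xs) ⟶ ⟨A.idx, U.unop⟩ := (incl A.idx).map g.unop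
        refine (toBc_eq f _ ?_).trans (toBc_eq f _ ?_).symm
        · refine (Category.assoc _ _ _).trans ((congrArg (_ ≫ ·) (EtCoh.isPullback_bc_map _ g.unop).w).trans ?_)
          exact (Category.assoc _ _ _).symm.trans ((congrArg (· ≫ g.unop.left) (pullback.lift_fst _ _ _)).trans
            (Category.id_comp _))
        · exact (Category.assoc _ _ _).trans ((congrArg (_ ≫ ·) (pullback.lift_fst _ _ _)).trans (Category.comp_id _)) }⟩
  have hP : P = 𝟙 _ := (cancel_epi (qπ i A.idx)).1 (sheaf_hom_ext fun V y => by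
    refine (qmap_π i (𝟙 (⟨A.idx, V⟩ : Obj Xs)) y).trans ?_
    exact congrArg ((qπ i A.idx).hom.app (op V)) (ConcreteCategory.congr_hom (J.P.map_id _) y))
  exact ConcreteCategory.congr_hom (congrArg (fun q : qF i A.idx ⟶ qF i A.idx => q.hom.app (op A.obj)) hP) x

theorem qmap_comp {A B C : Obj Xs} (f : A ⟶ B) (g : B ⟶ C) (x : EtCoh.sect (qF i C.idx) C.obj) :
    qmap i (f ≫ g) x = qmap i f (qmap i g x) := by
  change (qF i A.idx).obj.map (toBc (f ≫ g)).op ((qTrans i (g.hle.trans f.hle)).hom.app (op C.obj) x) =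
    (qF i A.idx).obj.map (toBc f).op ((qTrans i f.hle).hom.app (op B.obj)
      ((qF i B.idx).obj.map (toBc g).op ((qTrans i g.hle).hom.app (op C.obj) x)))
  rw [qTrans_two i g.hle f.hle]
  refine Eq.trans ?_ (congrArg ((qF i A.idx).obj.map (toBc f).op)
    (NatTrans.naturality_apply (qTrans i f.hle).hom (toBc g).op _).symm)
  refine (gmap_comp (qF i A.idx) (toBc (f ≫ g)) (psi g.hle f.hle C.obj) _).symm.trans
    (Eq.trans ?_ (gmap_comp (qF i A.idx) (toBc f) ((EtCoh.bc (tr Xs f.hle)).map (toBc g)) _))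
  refine congrArg (fun q : A.obj ⟶ _ => (qF i A.idx).obj.map q.op ((qTrans i f.hle).hom.app _
    ((qTrans i g.hle).hom.app (op C.obj) x))) (proj2_hom_ext g.hle f.hle C.obj ?_)
  refine (Category.assoc _ _ _).trans ((congrArg (_ ≫ ·) (congrArg Hom.left (psi_proj g.hle f.hle C.obj))).trans ?_)
  refine (pullback.lift_fst _ _ _).trans ?_
  refine Eq.trans ?_ (Category.assoc _ _ _).symm
  refine Eq.trans ?_ (congrArg (_ ≫ ·) ((Category.assoc _ _ _).symm.trans
    (congrArg (· ≫ pullback.fst C.obj.hom (tr Xs g.hle))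
      (EtCoh.isPullback_bc_map (tr Xs f.hle) (toBc g)).w)).symm)
  refine Eq.trans ?_ (congrArg (_ ≫ ·) (Category.assoc _ _ _)).symm
  refine Eq.trans ?_ (congrArg (fun q => (toBc f).left ≫ pullback.fst B.obj.hom (tr Xs f.hle) ≫ q)
    (pullback.lift_fst _ _ _)).symm
  exact ((Category.assoc _ _ _).symm.trans (congrArg (· ≫ g.left) (pullback.lift_fst _ _ _))).symm

/-- The quotient presheaf on the fibred site. -/
noncomputable def qP : (Obj Xs)ᵒᵖ ⥤ AddCommGrpCat.{u + 1} where
  obj A := (qF i A.unop.idx).obj.obj (op A.unop.obj)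
  map f := AddCommGrpCat.ofHom (qmap i f.unop)
  map_id A := ConcreteCategory.hom_ext _ _ fun x => qmap_id i A.unop x
  map_comp f g := ConcreteCategory.hom_ext _ _ fun x => qmap_comp i g.unop f.unop x

theorem qmap_incl (j : ι) {U V : (St Xs j).Etale} (g : U ⟶ V) (x : EtCoh.sect (qF i j) V) :
    qmap i ((incl j).map g) x = (qF i j).obj.map g.op x := by
  have h : toBc ((incl j).map g) = g ≫ toBc (𝟙 (⟨j, V⟩ : Obj Xs)) := (toBc_eq ((incl j).map g) _
    ((Category.assoc _ _ _).trans ((congrArg (_ ≫ ·) (pullback.lift_fst _ _ _)).trans (Category.comp_id _)))).symm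
  change (qF i j).obj.map (toBc ((incl j).map g)).op ((qTrans i le_rfl).hom.app (op V) x) = _
  rw [h]
  exact (gmap_comp (qF i j) g _ _).trans (congrArg ((qF i j).obj.map g.op) (qmap_id i (⟨j, V⟩ : Obj Xs) x))

/-- The quotient presheaf on a stage is the cokernel. -/
noncomputable def qIsoP (j : ι) : (qF i j).obj ≅ (incl j).op ⋙ qP i :=
  NatIso.ofComponents (fun _ => Iso.refl _)
    (fun {U V} g => ConcreteCategory.hom_ext _ _ fun x => (qmap_incl i j g.unop x).symm)

/-- The quotient system. -/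
noncomputable def qSys : Sys Xs where
  P := qP i
  isSheaf j := (Presheaf.isSheaf_of_iso_iff (qIsoP i j)).1 (qF i j).property

/-- The quotient map. -/
noncomputable def qProj : J.P ⟶ (qSys i).P where
  app A := (qπ i A.unop.idx).hom.app (op A.unop.obj)
  naturality A B f := ConcreteCategory.hom_ext _ _ fun y => (qmap_π i f.unop y).symm

/-- The quotient sheaves are the cokernels. -/
noncomputable def qIso (j : ι) : qF i j ≅ (qSys i).F j :=
  (fullyFaithfulSheafToPresheaf _ _).preimageIso (qIsoP i j)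

theorem compAt_qProj (j : ι) : qπ i j ≫ (qIso i j).hom = compAt (qProj i) j := sheaf_hom_ext fun _ _ => rfl

theorem shortExact_stage (hi : ∀ A, Function.Injective (i.app (op A))) (j : ι) :
    ∃ w, (ShortComplex.mk (compAt i j) (compAt (qProj i) j) w).ShortExact := by
  have w : compAt i j ≫ compAt (qProj i) j = 0 := by
    rw [← compAt_qProj, ← Category.assoc, cokernel.condition, zero_comp]
  refine ⟨w, ?_⟩
  have : Mono (compAt i j) := by
    have : Mono (compAt i j).hom := by
      rw [NatTrans.mono_iff_mono_app]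
      exact fun V => (AddCommGrpCat.mono_iff_injective _).2 (hi ⟨j, V.unop⟩)
    exact (sheafToPresheaf _ AddCommGrpCat.{u + 1}).mono_of_mono_map this
  have h0 : (ShortComplex.mk (compAt i j) (qπ i j) (cokernel.condition _)).ShortExact :=
    { exact := ShortComplex.exact_of_g_is_cokernel _ (cokernelIsCokernel _) }
  let e : ShortComplex.mk (compAt i j) (qπ i j) (cokernel.condition _) ≅
      ShortComplex.mk (compAt i j) (compAt (qProj i) j) w :=
    ShortComplex.isoMk (Iso.refl _) (Iso.refl _) (qIso i j) (by simp) (by simp [compAt_qProj])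
  exact ShortComplex.shortExact_of_iso e h0

theorem exists_local_preimage {K : Type u} [Field K] [IsSepClosed K] (A : Obj Xs)
    (ξ : Spec (CommRingCat.of K) ⟶ St Xs A.idx) (t : Pt ξ A.obj) (x : (qSys i).P.obj (op A)) :
    ∃ (W : (St Xs A.idx).Etale) (w : W ⟶ A.obj) (t' : Pt ξ W) (y : J.P.obj (op (⟨A.idx, W⟩ : Obj Xs))),
      (Scheme.pointSmallEtale ξ).fiber.map w t' = t ∧
        (qSys i).P.map ((incl A.idx).map w).op x = (qProj i).app (op ⟨A.idx, W⟩) y := by
  obtain ⟨z, hz⟩ := EtCore45.stalk_map_surjective_of_epi ξ (qπ i A.idx) (germ ξ (qF i A.idx) t x)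
  obtain ⟨W₁, t₁, y₁, rfl⟩ := exists_germ_eq ξ (J.F A.idx) z
  obtain ⟨⟨W₂, t₂⟩, a, b, -⟩ := IsCofiltered.toIsCofilteredOrEmpty.cone_objs
    (C := (Scheme.pointSmallEtale ξ).fiber.Elements) ⟨A.obj, t⟩ ⟨W₁, t₁⟩
  rw [stalk_map_germ] at hz
  let d := (qF i A.idx).obj.map a.val.op x - (qπ i A.idx).hom.app (op W₂) ((J.F A.idx).obj.map b.val.op y₁)
  have e : germ ξ (qF i A.idx) t₂ d = 0 := by
    rw [map_sub, germ_map, a.property, sub_eq_zero]
    refine hz.symm.trans ?_
    refine Eq.trans ?_ (congrArg (germ ξ (qF i A.idx) t₂) (NatTrans.naturality_apply (qπ i A.idx).hom b.val.op y₁).symm)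
    rw [germ_map, b.property]
  obtain ⟨W, g, t', h1, h2⟩ := (germ_eq_zero_iff ξ _ t₂ d).1 e
  refine ⟨W, g ≫ a.val, t', (J.F A.idx).obj.map (g ≫ b.val).op y₁, ?_, ?_⟩
  · rw [Functor.map_comp, ConcreteCategory.comp_apply, h1, a.property]
  · rw [map_sub, sub_eq_zero] at h2
    refine (qmap_incl i A.idx (g ≫ a.val) x).trans ((gmap_comp (qF i A.idx) g a.val x).trans (h2.trans ?_))
    refine (NatTrans.naturality_apply (qπ i A.idx).hom g.op _).symm.trans (congrArg ((qπ i A.idx).hom.app (op W)) ?_)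
    exact (gmap_comp (J.F A.idx) g b.val y₁).symm

end Quot

section Vertex

variable (c : Cone Xs)

/-- Move a comparison map to a later stage. -/
noncomputable def pullAdj {T : Sys Xs} {G : EtCoh.Ab c.pt} {j k : ι} (h : j ≤ k)
    (a : T.F k ⟶ (EtCoh.push (pr c k)).obj G) : T.F j ⟶ (EtCoh.push (pr c j)).obj G :=
  ⟨{ app := fun V => AddCommGrpCat.ofHom ((G.obj.map (PhiInv c h V.unop).op).hom.comp
      ((a.hom.app (op ((EtCoh.bc (tr Xs h)).obj V.unop))).hom.comp (T.P.map (proj h V.unop).op).hom))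
     naturality := fun U V g => ConcreteCategory.hom_ext _ _ fun x => by
      change G.obj.map (PhiInv c h V.unop).op (a.hom.app _
          (T.P.map (proj h V.unop).op (T.P.map ((incl j).map g.unop).op x))) =
        G.obj.map ((EtCoh.bc (pr c j)).map g.unop).op
          (G.obj.map (PhiInv c h U.unop).op (a.hom.app _ (T.P.map (proj h U.unop).op x)))
      refine (congrArg (fun z => G.obj.map (PhiInv c h V.unop).op (a.hom.app _ z))
        ((pmap_comp T _ _ x).symm.trans ((congrArg (fun q => T.P.map q.op x) (proj_naturality h g.unop).symm).trans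
          (pmap_comp T _ _ x)))).trans ?_
      refine (congrArg (G.obj.map (PhiInv c h V.unop).op)
        (NatTrans.naturality_apply a.hom ((EtCoh.bc (tr Xs h)).map g.unop).op _)).trans ?_
      refine (gmap_comp G _ _ _).symm.trans (Eq.trans ?_ (gmap_comp G _ _ _))
      refine congrArg (fun q : (Phi c).obj ⟨j, V.unop⟩ ⟶ (Phi c).obj ⟨k, (EtCoh.bc (tr Xs h)).obj U.unop⟩ =>
        G.obj.map q.op (a.hom.app _ (T.P.map (proj h U.unop).op x))) ?_
      refine (congrArg (PhiInv c h V.unop ≫ ·) ((congrArg (fun q => (Phi c).map ((incl k).map q))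
        (up_incl h g.unop)).trans (Phi_incl c k _))).symm.trans ?_
      exact (Phi_comm c ((incl j).map g.unop) h).trans (congrArg (· ≫ PhiInv c h U.unop) (Phi_incl c j g.unop)) }⟩

section Desc

variable {S J : Sys Xs} (i : S.P ⟶ J.P) {G : EtCoh.Ab c.pt}
  (b : J.P ⟶ (Phi c).op ⋙ G.obj) (hib : ∀ A x, b.app (op A) (i.app (op A) x) = 0)

include hib in
theorem compAt_adjAt (j : ι) : compAt i j ≫ adjAt c b j = 0 := sheaf_hom_ext fun V x => hib ⟨j, V⟩ x

/-- The map out of the quotient at a stage. -/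
noncomputable def qDesc (j : ι) : (qSys i).F j ⟶ (EtCoh.push (pr c j)).obj G :=
  (qIso i j).inv ≫ cokernel.desc (compAt i j) (adjAt c b j) (compAt_adjAt c i b hib j)

theorem qProj_qDesc (j : ι) : compAt (qProj i) j ≫ qDesc c i b hib j = adjAt c b j :=
  (congrArg (· ≫ qDesc c i b hib j) (compAt_qProj i j)).symm.trans ((Category.assoc _ _ _).trans
    ((congrArg (qπ i j ≫ ·) ((Category.assoc _ _ _).symm.trans ((congrArg (· ≫ _) (qIso i j).hom_inv_id).trans
      (Category.id_comp _)))).trans (cokernel.π_desc _ _ _)))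

theorem qDesc_apply (j : ι) (V : (St Xs j).Etale) (y : J.P.obj (op (⟨j, V⟩ : Obj Xs))) :
    (qDesc c i b hib j).hom.app (op V) ((qProj i).app (op ⟨j, V⟩) y) = b.app (op ⟨j, V⟩) y :=
  ConcreteCategory.congr_hom (congrArg (fun r : J.F j ⟶ (EtCoh.push (pr c j)).obj G => r.hom.app (op V))
    (qProj_qDesc c i b hib j)) y

theorem pullAdj_qDesc {j k : ι} (h : j ≤ k) : pullAdj c h (qDesc c i b hib k) = qDesc c i b hib j := by
  have : Epi (compAt (qProj i) j) := by rw [← compAt_qProj]; exact epi_comp _ _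
  refine (cancel_epi (compAt (qProj i) j)).1 (sheaf_hom_ext fun V y => ?_)
  change G.obj.map (PhiInv c h V).op ((qDesc c i b hib k).hom.app (op ((EtCoh.bc (tr Xs h)).obj V))
      ((qSys i).P.map (proj h V).op ((qProj i).app (op ⟨j, V⟩) y))) =
    (qDesc c i b hib j).hom.app (op V) ((qProj i).app (op ⟨j, V⟩) y)
  refine Eq.trans ?_ (qDesc_apply c i b hib j V y).symm
  have e1 := (NatTrans.naturality_apply (qProj i) (proj h V).op y).symm
  have e2 := (qDesc_apply c i b hib k ((EtCoh.bc (tr Xs h)).obj V) (J.P.map (proj h V).op y)).trans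
    (NatTrans.naturality_apply b (proj h V).op y)
  refine (congrArg (G.obj.map (PhiInv c h V).op)
    ((congrArg ((qDesc c i b hib k).hom.app (op ((EtCoh.bc (tr Xs h)).obj V))) e1).trans e2)).trans ?_
  exact (gmap_comp G (PhiInv c h V) ((Phi c).map (proj h V)) _).symm.trans
    (gmap_id G _ (PhiInv_proj c h V) _)

theorem qDesc_pullAdj_apply {j k : ι} (h : j ≤ k) (V : (St Xs j).Etale) (x : (qSys i).P.obj (op (⟨j, V⟩ : Obj Xs))) :
    G.obj.map (PhiInv c h V).op ((qDesc c i b hib k).hom.app (op ((EtCoh.bc (tr Xs h)).obj V))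
      ((qSys i).P.map (proj h V).op x)) = (qDesc c i b hib j).hom.app (op V) x := by
  have e := pullAdj_qDesc c i b hib h
  exact ConcreteCategory.congr_hom (congrArg
    (fun r : (qSys i).F j ⟶ (EtCoh.push (pr c j)).obj G => r.hom.app (op V)) e) x

theorem qDesc_stage {j : ι} {U V : (St Xs j).Etale} (g : U ⟶ V) (x : (qSys i).P.obj (op (⟨j, V⟩ : Obj Xs))) :
    (qDesc c i b hib j).hom.app (op U) ((qSys i).P.map ((incl j).map g).op x) =
      G.obj.map ((EtCoh.bc (pr c j)).map g).op ((qDesc c i b hib j).hom.app (op V) x) :=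
  NatTrans.naturality_apply (qDesc c i b hib j).hom g.op x

theorem qDesc_congr {j : ι} {U : (St Xs j).Etale} {x y : (qSys i).P.obj (op (⟨j, U⟩ : Obj Xs))} (h : x = y) :
    (qDesc c i b hib j).hom.app (op U) x = (qDesc c i b hib j).hom.app (op U) y := by
  subst h; rfl

omit [Preorder ι] in
theorem sect_map_congr {X : Scheme.{u}} (G : EtCoh.Ab X) {U V W : X.Etale} (p : U ⟶ V) (q : V ⟶ W) (r : U ⟶ W)
    (h : p ≫ q = r) (z : EtCoh.sect G W) : G.obj.map p.op (G.obj.map q.op z) = G.obj.map r.op z :=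
  (gmap_comp G p q z).symm.trans (by rw [h])

theorem toBc_Phi {A B : Obj Xs} (f : B ⟶ A) :
    (Phi c).map f ≫ PhiInv c f.hle A.obj = (EtCoh.bc (pr c B.idx)).map (toBc f) := by
  have := isIso_Phi_proj c f.hle A.obj
  refine ((cancel_mono ((Phi c).map (proj f.hle A.obj))).1 ?_).symm
  refine (congrArg (· ≫ _) (Phi_incl c _ (toBc f))).symm.trans ?_
  refine ((Phi c).map_comp _ _).symm.trans ((congrArg (Phi c).map (factor f)).trans ?_)
  exact ((Category.assoc _ _ _).trans ((congrArg (_ ≫ ·) (PhiInv_proj c _ _)).trans (Category.comp_id _))).symm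

theorem pmap_factor (T : Sys Xs) {A B : Obj Xs} (f : B ⟶ A) (x : T.P.obj (op A)) :
    T.P.map f.op x = T.P.map ((incl B.idx).map (toBc f)).op (T.P.map (proj f.hle A.obj).op x) :=
  (congrArg (fun r => T.P.map r.op x) (factor f)).symm.trans (pmap_comp T _ _ x)

theorem qDesc_natural {A B : Obj Xs} (f : B ⟶ A) (x : (qSys i).P.obj (op A)) :
    (qDesc c i b hib B.idx).hom.app (op B.obj) ((qSys i).P.map f.op x) =
      G.obj.map ((Phi c).map f).op ((qDesc c i b hib A.idx).hom.app (op A.obj) x) := by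
  obtain ⟨j, U⟩ := A
  obtain ⟨k, V⟩ := B
  have e3 := qDesc_pullAdj_apply c i b hib f.hle U x
  have e2 := pmap_factor (qSys i) f x
  have e4 := qDesc_stage c i b hib (toBc f) ((qSys i).P.map (proj f.hle U).op x)
  have e5 := sect_map_congr G ((Phi c).map f) (PhiInv c f.hle U) _ (toBc_Phi c f)
  have h2 := e4.trans ((e5 _).symm.trans (congrArg (G.obj.map ((Phi c).map f).op) e3))
  refine Eq.trans ?_ h2
  have h1 := qDesc_congr c i b hib e2
  exact h1

include hib in
theorem exists_nat_qSys :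
    ∃ a : (qSys i).P ⟶ (Phi c).op ⋙ G.obj, ∀ A y, a.app (op A) ((qProj i).app (op A) y) = b.app (op A) y :=
  ⟨{ app := fun A => (qDesc c i b hib A.unop.idx).hom.app (op A.unop.obj)
     naturality := fun _ _ f => ConcreteCategory.hom_ext _ _ fun x => qDesc_natural c i b hib f.unop x },
    fun A y => qDesc_apply c i b hib A.idx A.obj y⟩

end Desc

variable [IsDirected ι (· ≤ ·)] [Nonempty ι] {S : Sys Xs} {G : EtCoh.Ab c.pt} {a : S.P ⟶ (Phi c).op ⋙ G.obj}

theorem isIso_colimDesc (ha : StalkLim c S a) : IsIso (colimDesc c S a) :=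
  isIso_of_stalks _ fun K _ _ η => by
    refine ⟨(injective_iff_map_eq_zero ((EtCoh.stalk η).map (colimDesc c S a)).hom).2 fun z hz => ?_, fun g => ?_⟩
    · obtain ⟨A, t, x, rfl⟩ := (stalkLim_colim c S).surj K η z
      rw [stalk_map_germ] at hz
      obtain ⟨B, f, t', ht, hx⟩ := ha.inj K η A t x
        ((congrArg (germ η G t) (colimMap_desc c S a A x)).symm.trans hz)
      rw [← ht, ← germ_map]
      refine (congrArg (germ η (colimObj c S) t')
        ((NatTrans.naturality_apply (colimMap c S) f.op x).symm.trans ((congrArg _ hx).trans (map_zero _)))).trans ?_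
      exact map_zero _
    · obtain ⟨A, t, x, rfl⟩ := ha.surj K η g
      exact ⟨germ η (colimObj c S) t ((colimMap c S).app (op A) x),
        (stalk_map_germ η (colimDesc c S a) t _).trans (congrArg (germ η G t) (colimMap_desc c S a A x))⟩

/-- Maps to sheaves on the vertex extend along `a`. -/
theorem exists_lift (ha : StalkLim c S a) {T : EtCoh.Ab c.pt} (b : S.P ⟶ (Phi c).op ⋙ T.obj) :
    ∃ g : G ⟶ T, ∀ A x, g.hom.app (op ((Phi c).obj A)) (a.app (op A) x) = b.app (op A) x := by
  have := isIso_colimDesc c ha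
  refine ⟨inv (colimDesc c S a) ≫ colimDesc c S b, fun A x => ?_⟩
  rw [← colimMap_desc c S a A x, ← colimMap_desc c S b A x]
  refine congrArg ((colimDesc c S b).hom.app (op ((Phi c).obj A))) ?_
  exact ConcreteCategory.congr_hom (congrArg (fun q : colimObj c S ⟶ colimObj c S => q.hom.app (op ((Phi c).obj A)))
    (IsIso.hom_inv_id (colimDesc c S a))) ((colimMap c S).app (op A) x)

/-- A monomorphism of systems gives a short exact sequence on the vertex. -/
theorem exists_vertex_ses (ha : StalkLim c S a) {J : Sys Xs} (i : S.P ⟶ J.P)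
    (hi : ∀ A, Function.Injective (i.app (op A))) :
    ∃ (GQ : EtCoh.Ab c.pt) (g : G ⟶ colimObj c J) (p : colimObj c J ⟶ GQ) (w : g ≫ p = 0)
      (aQ : (qSys i).P ⟶ (Phi c).op ⋙ GQ.obj), (ShortComplex.mk g p w).ShortExact ∧ StalkLim c (qSys i) aQ ∧
      (∀ A x, g.hom.app (op ((Phi c).obj A)) (a.app (op A) x) = (colimMap c J).app (op A) (i.app (op A) x)) ∧
      (∀ A y, p.hom.app (op ((Phi c).obj A)) ((colimMap c J).app (op A) y) = aQ.app (op A) ((qProj i).app (op A) y)) := by
  obtain ⟨g, hg⟩ := exists_lift c ha (i ≫ colimMap c J)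
  have hg' : ∀ A x, g.hom.app (op ((Phi c).obj A)) (a.app (op A) x) = (colimMap c J).app (op A) (i.app (op A) x) := hg
  have hJ := stalkLim_colim c J
  have : Mono g := mono_of_stalks g fun K _ _ η => by
    refine (injective_iff_map_eq_zero ((EtCoh.stalk η).map g).hom).2 fun z hz => ?_
    obtain ⟨A, t, x, rfl⟩ := ha.surj K η z
    rw [stalk_map_germ, hg'] at hz
    obtain ⟨B, f, t', ht, hx⟩ := hJ.inj K η A t _ hz
    have hx' : S.P.map f.op x = 0 := hi B (by rw [map_zero]; exact (NatTrans.naturality_apply i f.op x).trans hx)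
    rw [← ht, ← germ_map]
    exact (congrArg (germ η G t') ((NatTrans.naturality_apply a f.op x).symm.trans
      ((congrArg _ hx').trans (map_zero _)))).trans (map_zero _)
  let b : J.P ⟶ (Phi c).op ⋙ (cokernel g).obj := colimMap c J ≫ Functor.whiskerLeft (Phi c).op (cokernel.π g).hom
  obtain ⟨aQ, haQ⟩ := exists_nat_qSys c i b fun A x => by
    change (cokernel.π g).hom.app _ ((colimMap c J).app (op A) (i.app (op A) x)) = 0
    rw [← hg']
    exact ConcreteCategory.congr_hom (congrArg (fun r : G ⟶ cokernel g => r.hom.app (op ((Phi c).obj A)))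
      (cokernel.condition g)) _
  have hse : (ShortComplex.mk g (cokernel.π g) (cokernel.condition g)).ShortExact :=
    { exact := ShortComplex.exact_of_g_is_cokernel _ (cokernelIsCokernel _) }
  refine ⟨cokernel g, g, cokernel.π g, cokernel.condition g, aQ, hse, ⟨fun K _ _ η z => ?_, fun K _ _ η A t x h0 => ?_⟩,
    hg', fun A y => (haQ A y).symm⟩
  · obtain ⟨z', rfl⟩ := EtCore45.stalk_map_surjective_of_epi η (cokernel.π g) z
    obtain ⟨A, t, y, rfl⟩ := hJ.surj K η z'
    exact ⟨A, t, (qProj i).app (op A) y, (congrArg (germ η _ t) (haQ A y)).trans (stalk_map_germ η (cokernel.π g) t _).symm⟩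
  · obtain ⟨W, w, s', y, hs', hy⟩ := exists_local_preimage i A (η ≫ pr c A.idx) (ptDown (pr c A.idx) η t) x
    let B : Obj Xs := ⟨A.idx, W⟩
    let f : B ⟶ A := (incl A.idx).map w
    let u : Pt η ((Phi c).obj B) := ptUp (pr c A.idx) η s'
    have hu : (Scheme.pointSmallEtale η).fiber.map ((Phi c).map f) u = t := by
      refine (congrArg (fun r => (Scheme.pointSmallEtale η).fiber.map r u) (Phi_incl c A.idx w)).trans ?_
      exact (ptUp_map (pr c A.idx) η w s').symm.trans ((congrArg (ptUp (pr c A.idx) η) hs').trans (ptUp_ptDown _ _ _))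
    have h1 : (EtCoh.stalk η).map (cokernel.π g) (germ η (colimObj c J) u ((colimMap c J).app (op B) y)) = 0 := by
      refine (stalk_map_germ η (cokernel.π g) u _).trans ?_
      refine (congrArg (germ η (cokernel g) u) ((haQ B y).symm.trans ((congrArg (aQ.app (op B)) hy).symm.trans
        (NatTrans.naturality_apply aQ f.op x)))).trans ?_
      exact (germ_map η (cokernel g) ((Phi c).map f) u _).trans ((congrArg (fun r => germ η (cokernel g) r _) hu).trans h0)
    have hex := (EtCore45.exact_iff_stalks _).1 hse.exact K η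
    rw [ShortComplex.ab_exact_iff] at hex
    obtain ⟨z, hz⟩ := hex _ h1
    obtain ⟨A', t', x', rfl⟩ := ha.surj K η z
    obtain ⟨C, fB, fA, u', hfB, hfA⟩ := common c B A' u t'
    have h2 : germ η (colimObj c J) u'
        ((colimMap c J).app (op C) (J.P.map fB.op y - i.app (op C) (S.P.map fA.op x'))) = 0 := by
      rw [map_sub, map_sub, sub_eq_zero]
      refine (congrArg (germ η (colimObj c J) u') (NatTrans.naturality_apply (colimMap c J) fB.op y)).trans ?_
      refine (germ_map η (colimObj c J) ((Phi c).map fB) u' _).trans ?_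
      rw [hfB]
      refine hz.symm.trans ((stalk_map_germ η g t' _).trans ?_)
      rw [hg', NatTrans.naturality_apply i fA.op x', NatTrans.naturality_apply (colimMap c J) fA.op]
      exact ((germ_map η (colimObj c J) ((Phi c).map fA) u' _).trans
        (congrArg (fun r => germ η (colimObj c J) r _) hfA)).symm
    obtain ⟨D, d, v, hv, hd⟩ := hJ.inj K η C u' _ h2
    refine ⟨D, d ≫ fB ≫ f, v, ?_, ?_⟩
    · rw [Functor.map_comp, Functor.map_comp, ConcreteCategory.comp_apply, hv, Functor.map_comp, Functor.map_comp,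
        ConcreteCategory.comp_apply, hfB]
      exact hu
    · refine (pmap_comp (qSys i) d (fB ≫ f) x).trans ?_
      refine (congrArg ((qSys i).P.map d.op) ((pmap_comp (qSys i) fB f x).trans (congrArg _ hy))).trans ?_
      refine (congrArg ((qSys i).P.map d.op) (NatTrans.naturality_apply (qProj i) fB.op y).symm).trans ?_
      refine (NatTrans.naturality_apply (qProj i) d.op _).symm.trans ?_
      rw [map_sub, sub_eq_zero] at hd
      rw [hd, ← NatTrans.naturality_apply i d.op]
      have h0 := congrArg (fun r : S.F D.idx ⟶ (qSys i).F D.idx => r.hom.app (op D.obj))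
        (show compAt i D.idx ≫ compAt (qProj i) D.idx = 0 from (shortExact_stage i hi D.idx).choose)
      exact ConcreteCategory.congr_hom h0 _

end Vertex

end Groth.Agent.EtLim45
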