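import Mathlib.CategoryTheory.Limits.Preserves.Shapes.Products
import Mathlib.CategoryTheory.Limits.Shapes.FiniteProducts
import Mathlib.CategoryTheory.Limits.Preserves.Shapes.Over
import Mathlib.CategoryTheory.Comma.Over.Pullback

/-!
Product-preserving functors respect powers and their face maps.
-/

set_option autoImplicit false

universe w

open CategoryTheory CategoryTheory.Limits

namespace Groth.Agent.EtLim45

variable {A B : Type*} [Category A] [Category B] [HasFiniteProducts A] [HasFiniteProducts B]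

/-- A finite power. -/
noncomputable abbrev pw {E : Type*} [Category E] [HasFiniteProducts E] (Y : E) (n : ℕ) : E := ∏ᶜ fun _ : Fin n => Y

/-- Forgetting factors of a power. -/
noncomputable abbrev pwFace {E : Type*} [Category E] [HasFiniteProducts E] (Y : E) {n m : ℕ}
    (g : Fin n → Fin m) : pw Y m ⟶ pw Y n := Pi.lift fun k => Pi.π (fun _ : Fin m => Y) (g k)

theorem exists_powIso (Φ : A ⥤ B) [PreservesFiniteProducts Φ] {Y₀ : A} {Y : B} (e : Φ.obj Y₀ ≅ Y) :
    ∃ η : ∀ n, Φ.obj (pw Y₀ n) ≅ pw Y n,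
      ∀ (n m : ℕ) (g : Fin n → Fin m), Φ.map (pwFace Y₀ g) ≫ (η n).hom = (η m).hom ≫ pwFace Y g := by
  refine ⟨fun n => PreservesProduct.iso Φ (fun _ : Fin n => Y₀) ≪≫ Pi.mapIso fun _ => e, fun n m g => ?_⟩
  refine Pi.hom_ext _ _ fun k => ?_
  simp [← Functor.map_comp_assoc]

end Groth.Agent.EtLim45
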