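import Groth.Agent.EtLim45.Quot
import Groth.Agent.EtLim45.CechPow
import Groth.Agent.Unr55.Et.HFiltColim

/-!
The colimit of a system of injective sheaves is acyclic on the limit.
-/

set_option autoImplicit false
set_option backward.isDefEq.respectTransparency.types false
set_option linter.unusedSectionVars false
universe u

open CategoryTheory CategoryTheory.Limits AlgebraicGeometry Opposite
open Groth.Agent.Unr55.EtSh

namespace Groth.Agent.EtLim45

variable {ι : Type u} [Preorder ι] {Xs : ιᵒᵖ ⥤ Scheme.{u}}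

/-- Factor an arrow through the base change to an intermediate stage. -/
noncomputable def liftTo {A B : Obj Xs} (f : A ⟶ B) {n : ι} (h₁ : B.idx ≤ n) (h₂ : n ≤ A.idx) :
    A ⟶ ⟨n, (EtCoh.bc (tr Xs h₁)).obj B.obj⟩ where
  hle := h₂
  left := pullback.lift f.left (A.obj.hom ≫ tr Xs h₂)
    (f.w.trans ((congrArg (A.obj.hom ≫ ·) (tr_trans Xs h₁ h₂)).symm.trans (Category.assoc _ _ _).symm))
  w := pullback.lift_snd _ _ _

theorem liftTo_ext {A B : Obj Xs} {n : ι} (h₁ : B.idx ≤ n) {p q : A ⟶ ⟨n, (EtCoh.bc (tr Xs h₁)).obj B.obj⟩}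
    (h : p ≫ proj h₁ B.obj = q ≫ proj h₁ B.obj) : p = q :=
  hom_ext (pullback.hom_ext (congrArg Hom.left h) (p.w.trans q.w.symm))

theorem liftTo_proj {A B : Obj Xs} (f : A ⟶ B) {n : ι} (h₁ : B.idx ≤ n) (h₂ : n ≤ A.idx) :
    liftTo f h₁ h₂ ≫ proj h₁ B.obj = f :=
  hom_ext (pullback.lift_fst _ _ _)

theorem qcqs_pw {X : Scheme.{u}} {U : X.Etale} [CompactSpace ↥U.left] [QuasiSeparatedSpace ↥U.left]
    {Y : Over U} (hY : Unr55.FiltColim.Qcqs Y) (n : ℕ) : Unr55.FiltColim.Qcqs (pw Y n) :=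
  Unr55.FiltColim.qcqs_pi n (fun _ => Y) (fun _ => hY) (limit.cone _) (limit.isLimit _)

section Stage

variable {j : ι} {U₀ : (St Xs j).Etale} (Y₀ : Over U₀)

/-- Powers at a stage. -/
noncomputable abbrev Zp (m : ℕ) : Obj Xs := ⟨j, (pw Y₀ (m + 1)).left⟩

/-- Faces at a stage. -/
noncomputable abbrev Zd {m : ℕ} (i : Fin (m + 2)) : Zp Y₀ (m + 1) ⟶ Zp Y₀ m :=
  (incl j).map (pwFace Y₀ i.succAbove).left

theorem exists_shift (c : Cone Xs) {l : ι} (h : j ≤ l) :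
    ∃ (Ul : (St Xs l).Etale) (Yl : Over Ul) (π : ∀ m, Zp Yl m ⟶ Zp Y₀ m), (∀ m, IsIso ((Phi c).map (π m))) ∧
      ∀ (m : ℕ) (i : Fin (m + 2)), Zd Yl i ≫ π m = π (m + 1) ≫ Zd Y₀ i := by
  let Φ := Over.post (X := U₀) (EtCoh.bc (tr Xs h))
  obtain ⟨η, hη⟩ := exists_powIso Φ (Iso.refl (Φ.obj Y₀))
  let ψ : ∀ m, (pw (Φ.obj Y₀) (m + 1)).left ⟶ (EtCoh.bc (tr Xs h)).obj (pw Y₀ (m + 1)).left :=
    fun m => (η (m + 1)).inv.left
  have hψ : ∀ m, IsIso (ψ m) := fun m => inferInstanceAs (IsIso ((Over.forget _).map (η (m + 1)).inv))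
  refine ⟨_, Φ.obj Y₀, fun m => (incl l).map (ψ m) ≫ proj h (pw Y₀ (m + 1)).left,
    fun m => ?_, fun m i => ?_⟩
  · rw [Functor.map_comp]
    have h1 : IsIso ((Phi c).map ((incl l).map (ψ m))) := by
      have := hψ m
      infer_instance
    have h2 : IsIso ((Phi c).map (proj h (pw Y₀ (m + 1)).left)) := isIso_Phi_proj c h _
    exact @IsIso.comp_isIso _ _ _ _ _ _ _ h1 h2
  · have e : (pwFace (Φ.obj Y₀) i.succAbove) ≫ (η (m + 1)).inv =
        (η (m + 2)).inv ≫ Φ.map (pwFace Y₀ i.succAbove) := by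
      rw [Iso.comp_inv_eq, Category.assoc, hη, Iso.inv_hom_id_assoc]
    have e' : (pwFace (Φ.obj Y₀) i.succAbove).left ≫ ψ m =
        ψ (m + 1) ≫ (EtCoh.bc (tr Xs h)).map (pwFace Y₀ i.succAbove).left := congrArg CommaMorphism.left e
    have e'' := proj_naturality h (pwFace Y₀ i.succAbove).left
    refine (Category.assoc _ _ _).symm.trans ((congrArg (· ≫ _) (((incl l).map_comp _ _).symm.trans
      ((congrArg (incl l).map e').trans ((incl l).map_comp _ _)))).trans ?_)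
    exact (Category.assoc _ _ _).trans ((congrArg (_ ≫ ·) e'').trans (Category.assoc _ _ _).symm)

end Stage

section Vertex

variable [IsDirected ι (· ≤ ·)] [Nonempty ι] {c : Cone Xs}
  [∀ (a b : ιᵒᵖ) (h : a ⟶ b), IsAffineHom (Xs.map h)]
  [∀ a, CompactSpace ↥(Xs.obj a)] [∀ a, QuasiSeparatedSpace ↥(Xs.obj a)] (hc : IsLimit c)

include hc in
/-- Coverings come from a stage. -/
theorem exists_stage_over {U : c.pt.Etale} {Y : Over U} [CompactSpace ↥U.left] [QuasiSeparatedSpace ↥U.left]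
    (hY : Unr55.FiltColim.Qcqs Y) :
    ∃ (j : ι) (U₀ : (St Xs j).Etale) (Y₀ : Over U₀) (η : ∀ m, (Phi c).obj (Zp Y₀ m) ≅ (pw Y (m + 1)).left),
      CompactSpace ↥U₀.left ∧ QuasiSeparatedSpace ↥U₀.left ∧ Unr55.FiltColim.Qcqs Y₀ ∧
      ∀ (m : ℕ) (i : Fin (m + 2)),
        (Phi c).map (Zd Y₀ i) ≫ (η m).hom = (η (m + 1)).hom ≫ (pwFace Y i.succAbove).left := by
  obtain ⟨A, -, hA, ⟨eA⟩⟩ := exists_stage_obj hc U (Classical.arbitrary ι)
  have := hY.1
  have := hY.2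
  obtain ⟨B, -, hB, ⟨eB⟩⟩ := exists_stage_obj hc Y.left (Classical.arbitrary ι)
  obtain ⟨B', p, f, hB', hp, hf⟩ := exists_stage_hom hc hB (eB.hom ≫ Y.hom ≫ eA.inv)
  have := isIso_Phi_proj c f.hle A.obj
  have hiso : IsIso ((Phi c).map p) := hp
  let U₀ := (EtCoh.bc (tr Xs f.hle)).obj A.obj
  let eU : (EtCoh.bc (pr c B'.idx)).obj U₀ ≅ U :=
    @asIso _ _ _ _ ((Phi c).map (proj f.hle A.obj)) (isIso_Phi_proj c f.hle A.obj) ≪≫ eA
  let eY : (EtCoh.bc (pr c B'.idx)).obj B'.obj ≅ Y.left := @asIso _ _ _ _ ((Phi c).map p) hiso ≪≫ eB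
  have w : (EtCoh.bc (pr c B'.idx)).map (toBc f) ≫ eU.hom = eY.hom ≫ Y.hom := by
    refine (congrArg (· ≫ eU.hom) (Phi_incl c _ (toBc f))).symm.trans ?_
    refine (Category.assoc _ _ _).symm.trans ((congrArg (· ≫ eA.hom) (((Phi c).map_comp _ _).symm.trans
      ((congrArg (Phi c).map (factor f)).trans hf))).trans ?_)
    change _ = ((Phi c).map p ≫ eB.hom) ≫ Y.hom
    exact (Category.assoc _ _ _).trans ((congrArg ((Phi c).map p ≫ ·) ((Category.assoc _ _ _).trans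
      (congrArg (eB.hom ≫ ·) ((Category.assoc _ _ _).trans ((congrArg (Y.hom ≫ ·) eA.inv_hom_id).trans
        (Category.comp_id _)))))).trans (Category.assoc _ _ _).symm)
  let Φ : Over U₀ ⥤ Over U := Over.post (EtCoh.bc (pr c B'.idx)) ⋙ Over.map eU.hom
  let e : Φ.obj (Over.mk (toBc f)) ≅ Y := Over.isoMk eY w.symm
  obtain ⟨η, hη⟩ := exists_powIso Φ e
  refine ⟨B'.idx, U₀, Over.mk (toBc f), fun m => (Over.forget U).mapIso (η (m + 1)),
    (hA.bc f.hle).1, (hA.bc f.hle).2, hB', fun m i => ?_⟩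
  refine (congrArg (· ≫ _) (Phi_incl c _ (pwFace (Over.mk (toBc f)) i.succAbove).left)).trans ?_
  exact congrArg CommaMorphism.left (hη (m + 1) (m + 2) i.succAbove)

variable (J : Sys Xs) (hJ : ∀ j, Injective (J.F j))

include hJ in
theorem exists_primitive {l : ι} {Ul : (St Xs l).Etale} (Yl : Over Ul) (q : ℕ)
    (x : J.P.obj (op (Zp Yl (q + 1))))
    (hx : ∑ i : Fin (q + 3), (-1 : ℤ) ^ (i : ℕ) • J.P.map (Zd Yl i).op x = 0) :
    ∃ g : J.P.obj (op (Zp Yl q)), ∑ i : Fin (q + 2), (-1 : ℤ) ^ (i : ℕ) • J.P.map (Zd Yl i).op g = x := by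
  have := hJ l
  have h := Unr55.CechInjU.isZero_cechH.{u + 1, u + 1, u} (fun _ : PUnit.{u + 2} => Yl) (J.F l) q
  obtain ⟨g, hg⟩ := (Fib44.Cech.isZero_homology_succ_iff (fun _ : PUnit.{u + 2} => Yl)
    ((Over.forget Ul).op ⋙ (J.F l).obj) q).1 h (fun _ => x) (fun _ => hx)
  exact ⟨g fun _ => PUnit.unit, hg fun _ => PUnit.unit⟩

include hc hJ in
/-- The colimit of injectives has no higher Čech cohomology. -/
theorem isZero_cechH_colimObj {U : c.pt.Etale} (Y : Over U) (h₁ : CompactSpace ↥U.left)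
    (h₂ : QuasiSeparatedSpace ↥U.left) (hY : Unr55.FiltColim.Qcqs Y) (q : ℕ) :
    IsZero (EtCech.cechH (fun _ : PUnit.{u + 2} => Y) (colimObj c J).obj (q + 1)) := by
  refine (Fib44.Cech.isZero_homology_succ_iff (fun _ : PUnit.{u + 2} => Y)
    ((Over.forget U).op ⋙ (colimObj c J).obj) q).2 fun f hf => ?_
  obtain ⟨j, U₀, Y₀, η, hU1, hU2, hY₀, hη⟩ := exists_stage_over hc hY
  let G := colimObj c J
  let a := colimMap c J
  have ha := stalkLim_colim c J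
  let f₀ : EtCoh.sect G (pw Y (q + 2)).left := f fun _ => PUnit.unit
  have hf₀ : ∑ i : Fin (q + 3), (-1 : ℤ) ^ (i : ℕ) • G.obj.map (pwFace Y i.succAbove).left.op f₀ = 0 :=
    hf fun _ => PUnit.unit
  let s : EtCoh.sect G ((Phi c).obj (Zp Y₀ (q + 1))) := G.obj.map (η (q + 1)).hom.op f₀
  have hQ : ∀ m, QQ (Zp Y₀ m) := fun m => qcqs_pw hY₀ (m + 1)
  obtain ⟨n, -, hjn, x, hx⟩ := exists_stage_section hc ha (hQ (q + 1)) s j
  let δ : Fin (q + 3) → ((⟨n, (EtCoh.bc (tr Xs hjn)).obj (Zp Y₀ (q + 2)).obj⟩ : Obj Xs) ⟶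
      ⟨n, (EtCoh.bc (tr Xs hjn)).obj (Zp Y₀ (q + 1)).obj⟩) :=
    fun i => (incl n).map ((EtCoh.bc (tr Xs hjn)).map (pwFace Y₀ i.succAbove).left)
  let dx : J.P.obj (op (⟨n, (EtCoh.bc (tr Xs hjn)).obj (Zp Y₀ (q + 2)).obj⟩ : Obj Xs)) :=
    ∑ i : Fin (q + 3), (-1 : ℤ) ^ (i : ℕ) • J.P.map (δ i).op x
  let T := (proj hjn (Zp Y₀ (q + 2)).obj)
  have hface : ∀ i : Fin (q + 3), al a _ (J.P.map (δ i).op x) =
      G.obj.map ((Phi c).map T ≫ (η (q + 2)).hom).op (G.obj.map (pwFace Y i.succAbove).left.op f₀) := fun i => by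
    rw [al_map, hx, ← gmap_comp, ← gmap_comp, ← gmap_comp]
    refine congrArg (fun r : _ ⟶ _ => G.obj.map r.op f₀) ?_
    have e := ((Phi c).map_comp _ _).symm.trans
      ((congrArg (Phi c).map (proj_naturality hjn (pwFace Y₀ i.succAbove).left)).trans ((Phi c).map_comp _ _))
    exact (Category.assoc _ _ _).symm.trans ((congrArg (· ≫ (η (q + 1)).hom) e).trans ((Category.assoc _ _ _).trans
      ((congrArg ((Phi c).map T ≫ ·) (hη (q + 1) i)).trans (Category.assoc _ _ _).symm)))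
  have hdx : al a _ dx = 0 := by
    rw [← map_zero (G.obj.map ((Phi c).map T ≫ (η (q + 2)).hom).op).hom, ← hf₀]
    simp only [dx, map_sum, map_zsmul]
    exact Finset.sum_congr rfl fun i _ => congrArg (fun z => (-1 : ℤ) ^ (i : ℕ) • z) (hface i)
  obtain ⟨l, -, hnl, hd0⟩ := exists_stage_zero hc ha ((hQ (q + 2)).bc hjn).1 dx hdx n
  obtain ⟨Ul, Yl, π, hπ, hπd⟩ := exists_shift Y₀ c (hjn.trans hnl)
  let lπ : ∀ m, Zp Yl m ⟶ ⟨n, (EtCoh.bc (tr Xs hjn)).obj (Zp Y₀ m).obj⟩ := fun m => liftTo (π m) hjn hnl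
  have hlπ : ∀ i : Fin (q + 3), Zd Yl i ≫ lπ (q + 1) = lπ (q + 2) ≫ δ i := fun i => by
    refine liftTo_ext (B := Zp Y₀ (q + 1)) hjn ?_
    have e := proj_naturality hjn (pwFace Y₀ i.succAbove).left
    refine (Category.assoc _ _ _).trans ((congrArg (_ ≫ ·) (liftTo_proj _ _ _)).trans ((hπd _ i).trans ?_))
    refine Eq.trans ?_ (Category.assoc _ _ _).symm
    refine Eq.trans ?_ (congrArg (lπ (q + 2) ≫ ·) e.symm)
    exact ((Category.assoc _ _ _).symm.trans (congrArg (· ≫ _) (liftTo_proj _ _ _))).symm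
  have hcoc : ∑ i : Fin (q + 3), (-1 : ℤ) ^ (i : ℕ) • J.P.map (Zd Yl i).op (J.P.map (lπ (q + 1)).op x) = 0 := by
    refine Eq.trans (b := J.P.map (lπ (q + 2)).op dx) ?_ ?_
    · simp only [dx, map_sum, map_zsmul]
      refine Finset.sum_congr rfl fun i _ => congrArg _ ?_
      rw [← pmap_comp, ← pmap_comp, hlπ]
    · exact (pmap_factor J (lπ (q + 2)) dx).trans ((congrArg (J.P.map _) hd0).trans (map_zero _))
  obtain ⟨g, hg⟩ := exists_primitive J hJ Yl q _ hcoc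
  have hπ' := hπ q
  refine ⟨fun _ => G.obj.map ((η q).inv ≫ inv ((Phi c).map (π q))).op (al a _ g), fun b => ?_⟩
  change ∑ i : Fin (q + 2), (-1 : ℤ) ^ (i : ℕ) • G.obj.map (pwFace Y i.succAbove).left.op _ = f₀
  have hπ'' := hπ (q + 1)
  refine Eq.trans (b := G.obj.map ((η (q + 1)).inv ≫ inv ((Phi c).map (π (q + 1)))).op
    (al a _ (J.P.map (lπ (q + 1)).op x))) ?_ ?_
  · rw [← hg]
    simp only [al, map_sum, map_zsmul]
    refine Finset.sum_congr rfl fun i _ => congrArg _ ?_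
    change G.obj.map _ (G.obj.map _ (al a _ g)) = G.obj.map _ (al a _ (J.P.map (Zd Yl i).op g))
    rw [al_map, ← gmap_comp, ← gmap_comp]
    refine congrArg (fun r : _ ⟶ _ => G.obj.map r.op _) ?_
    have e := ((Phi c).map_comp _ _).symm.trans ((congrArg (Phi c).map (hπd q i)).trans ((Phi c).map_comp _ _))
    rw [Category.assoc, Iso.eq_inv_comp, ← Category.assoc, ← Category.assoc, ← hη, IsIso.eq_inv_comp]
    simp only [Category.assoc, Iso.hom_inv_id_assoc]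
    rw [← Category.assoc, IsIso.comp_inv_eq]
    exact e.symm
  · rw [al_map, hx, ← gmap_comp, ← gmap_comp, ← gmap_comp]
    refine gmap_id G _ ?_ f₀
    have : (Phi c).map (lπ (q + 1)) ≫ (Phi c).map (proj hjn (Zp Y₀ (q + 1)).obj) = (Phi c).map (π (q + 1)) :=
      ((Phi c).map_comp _ _).symm.trans (congrArg (Phi c).map (liftTo_proj _ _ _))
    simp only [Category.assoc]
    rw [reassoc_of% this]
    simp

include hc hJ in
/-- The colimit of injectives is acyclic. -/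
theorem subsingleton_H_colimObj (q : ℕ) : Subsingleton (EtCoh.H c.pt (colimObj c J) (q + 1)) := by
  have := compactSpace_vertex hc
  have := quasiSeparatedSpace_vertex hc
  refine Unr55.CechCartan.subsingleton_H.{u + 1, u, u + 1} (B := Unr55.HColim.B c.pt) (Cov := Unr55.HColim.Cov c.pt)
    ?_ ?_ (isTerminalTop c.pt) ⟨‹CompactSpace ↥c.pt›, ‹QuasiSeparatedSpace ↥c.pt›⟩ q _ ?_
  · intro U hU Y hY n a
    have := hU.1
    have := hU.2
    exact qcqs_pw hY.1 (n + 1)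
  · intro U hU F G g _ s
    have := hU.1
    have := hU.2
    obtain ⟨Y, hY, hmem⟩ := Unr55.EtaleAff.exists_cov g s
    have : IsAffine Y.left.left := hY.1
    refine ⟨Y, ⟨⟨inferInstance, inferInstance⟩, hY.2⟩, hmem, mem_topology fun x => ?_⟩
    obtain ⟨v, hv⟩ := hY.2.surj x
    exact ⟨Y.left, Y.hom, v,
      Sieve.ofArrows_mk (fun _ : PUnit.{u + 2} => Y.left) (fun _ => Y.hom) PUnit.unit, hv⟩
  · intro U hU Y hY q
    exact isZero_cechH_colimObj hc J hJ Y hU.1 hU.2 hY.1 q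

end Vertex

end Groth.Agent.EtLim45
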