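import Groth.Agent.EtLim45.Degree0
import Groth.Agent.EtCore45.Stalks
import Groth.Agent.EtCore45.MVSect
import Groth.Agent.Unr55.Et.Unit

/-!
The colimit on the vertex of the inverse images of a system of sheaves.
-/

set_option autoImplicit false
set_option backward.isDefEq.respectTransparency.types false
universe u

open CategoryTheory CategoryTheory.Limits AlgebraicGeometry Opposite
open Groth.Agent.Unr55.EtSh
open Groth.Agent.EtCore45.MV (unitSect unitSect_map)

namespace Groth.Agent.EtLim45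

variable {ι : Type u} [Preorder ι] {Xs : ιᵒᵖ ⥤ Scheme.{u}} (c : Cone Xs) (S : Sys Xs)

/-- The inverse image of a stage. -/
noncomputable abbrev D0 (j : ι) : EtCoh.Ab c.pt := (EtCoh.pull (pr c j)).obj (S.F j)

/-- The unit, on the fibred site. -/
noncomputable abbrev un (A : Obj Xs) :
    S.P.obj (op A) →+ EtCoh.sect (D0 c S A.idx) ((Phi c).obj A) :=
  unitSect (pr c A.idx) (S.F A.idx) A.obj

theorem un_incl (j : ι) {U V : (St Xs j).Etale} (g : U ⟶ V) (x : S.P.obj (op (⟨j, V⟩ : Obj Xs))) :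
    un c S ⟨j, U⟩ (S.P.map ((incl j).map g).op x) =
      (D0 c S j).obj.map ((Phi c).map ((incl j).map g)).op (un c S ⟨j, V⟩ x) :=
  (unitSect_map (pr c j) (S.F j) g x).trans
    (congrArg (fun k => (D0 c S j).obj.map k.op (un c S ⟨j, V⟩ x)) (Phi_incl c j g).symm)

/-- Morphisms out of an inverse image agree when they agree on images of sections. -/
theorem hom_ext_un {j : ι} {T : EtCoh.Ab c.pt} {p q : D0 c S j ⟶ T}
    (h : ∀ (V : (St Xs j).Etale) (x : S.P.obj (op (⟨j, V⟩ : Obj Xs))),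
      p.hom.app (op ((Phi c).obj ⟨j, V⟩)) (un c S ⟨j, V⟩ x) =
        q.hom.app (op ((Phi c).obj ⟨j, V⟩)) (un c S ⟨j, V⟩ x)) : p = q := by
  apply ((EtCoh.pullPushAdj (pr c j)).homEquiv _ _).injective
  rw [Adjunction.homEquiv_unit, Adjunction.homEquiv_unit]
  exact ObjectProperty.hom_ext _ (NatTrans.ext (funext fun V => ConcreteCategory.hom_ext _ _ fun x => h V.unop x))

theorem alphaAt_un {G : EtCoh.Ab c.pt} (a : S.P ⟶ (Phi c).op ⋙ G.obj) (A : Obj Xs) (x : S.P.obj (op A)) :
    (alphaAt c a A.idx).hom.app (op ((Phi c).obj A)) (un c S A x) = a.app (op A) x := by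
  have h : (EtCoh.pullPushAdj (pr c A.idx)).unit.app (S.F A.idx) ≫
      (EtCoh.push (pr c A.idx)).map (alphaAt c a A.idx) = adjAt c a A.idx :=
    ((EtCoh.pullPushAdj (pr c A.idx)).homEquiv_unit _ _ _).symm.trans (Equiv.apply_symm_apply _ _)
  exact ConcreteCategory.congr_hom (congrArg (fun k => k.hom.app (op A.obj)) h) x

theorem Phi_comm {A B : Obj Xs} (f : A ⟶ B) {l : ι} (hl : A.idx ≤ l) :
    PhiInv c hl A.obj ≫ (Phi c).map ((incl l).map (up f hl)) =
      (Phi c).map f ≫ PhiInv c (f.hle.trans hl) B.obj := by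
  have := isIso_Phi_proj c (f.hle.trans hl) B.obj
  have h1 : (Phi c).map ((incl l).map (up f hl)) ≫ (Phi c).map (proj (f.hle.trans hl) B.obj) =
      (Phi c).map (proj hl A.obj) ≫ (Phi c).map f :=
    ((Phi c).map_comp _ _).symm.trans ((congrArg (Phi c).map (up_proj f hl)).trans ((Phi c).map_comp _ _))
  refine (cancel_mono ((Phi c).map (proj (f.hle.trans hl) B.obj))).1 ?_
  refine (Category.assoc _ _ _).trans ((congrArg (_ ≫ ·) h1).trans ((Category.assoc _ _ _).symm.trans ?_))
  refine (congrArg (· ≫ (Phi c).map f) (PhiInv_proj c hl A.obj)).trans ((Category.id_comp _).trans ?_)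
  exact ((Category.assoc _ _ _).trans ((congrArg (_ ≫ ·) (PhiInv_proj c _ B.obj)).trans (Category.comp_id _))).symm

theorem raise_nat {j k : ι} (h : j ≤ k) {U V : (St Xs j).Etale} (g : U ⟶ V)
    (x : S.P.obj (op (⟨j, V⟩ : Obj Xs))) :
    (D0 c S k).obj.map (PhiInv c h U).op
        (un c S ⟨k, (EtCoh.bc (tr Xs h)).obj U⟩ (S.P.map (proj h U).op (S.P.map ((incl j).map g).op x))) =
      (D0 c S k).obj.map ((EtCoh.bc (pr c j)).map g).op
        ((D0 c S k).obj.map (PhiInv c h V).op
          (un c S ⟨k, (EtCoh.bc (tr Xs h)).obj V⟩ (S.P.map (proj h V).op x))) := by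
  have e : S.P.map (proj h U).op (S.P.map ((incl j).map g).op x) =
      S.P.map ((incl k).map ((EtCoh.bc (tr Xs h)).map g)).op (S.P.map (proj h V).op x) :=
    (pmap_comp S _ _ x).symm.trans ((congrArg (fun q => S.P.map q.op x) (proj_naturality h g).symm).trans
      (pmap_comp S _ _ x))
  refine (congrArg (fun z => (D0 c S k).obj.map (PhiInv c h U).op (un c S ⟨k, (EtCoh.bc (tr Xs h)).obj U⟩ z)) e).trans ?_
  refine (congrArg ((D0 c S k).obj.map (PhiInv c h U).op) (un_incl c S k ((EtCoh.bc (tr Xs h)).map g) _)).trans ?_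
  refine (gmap_comp (D0 c S k) _ _ _).symm.trans (Eq.trans ?_ (gmap_comp (D0 c S k) _ _ _))
  refine congrArg (fun q : (Phi c).obj ⟨j, U⟩ ⟶ (Phi c).obj ⟨k, (EtCoh.bc (tr Xs h)).obj V⟩ =>
    (D0 c S k).obj.map q.op (un c S ⟨k, (EtCoh.bc (tr Xs h)).obj V⟩ (S.P.map (proj h V).op x))) ?_
  have e' : up ((incl j).map g) h = (EtCoh.bc (tr Xs h)).map g :=
    MorphismProperty.Over.Hom.ext (pullback.hom_ext
      ((pullback.lift_fst _ _ _).trans (EtCoh.isPullback_bc_map _ g).w.symm)
      ((pullback.lift_snd _ _ _).trans (pullback.lift_snd _ _ _).symm))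
  refine (congrArg (fun q => PhiInv c h U ≫ (Phi c).map ((incl k).map q)) e').symm.trans ?_
  exact (Phi_comm c ((incl j).map g) h).trans (congrArg (· ≫ PhiInv c h V) (Phi_incl c j g))

/-- Raise to a later stage and take the unit. -/
noncomputable def raise {j k : ι} (h : j ≤ k) : S.F j ⟶ (EtCoh.push (pr c j)).obj (D0 c S k) :=
  ⟨{ app := fun V => AddCommGrpCat.ofHom (((D0 c S k).obj.map (PhiInv c h V.unop).op).hom.comp
      ((un c S ⟨k, (EtCoh.bc (tr Xs h)).obj V.unop⟩).comp (S.P.map (proj h V.unop).op).hom))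
     naturality := fun U V g => ConcreteCategory.hom_ext _ _ fun x => raise_nat c S h g.unop x }⟩

/-- The transition map of inverse images. -/
noncomputable def Dmap {j k : ι} (h : j ≤ k) : D0 c S j ⟶ D0 c S k :=
  ((EtCoh.pullPushAdj (pr c j)).homEquiv _ _).symm (raise c S h)

theorem Dmap_un {j k : ι} (h : j ≤ k) (V : (St Xs j).Etale) (x : S.P.obj (op (⟨j, V⟩ : Obj Xs))) :
    (Dmap c S h).hom.app (op ((Phi c).obj ⟨j, V⟩)) (un c S ⟨j, V⟩ x) =
      (D0 c S k).obj.map (PhiInv c h V).op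
        (un c S ⟨k, (EtCoh.bc (tr Xs h)).obj V⟩ (S.P.map (proj h V).op x)) := by
  have e : (EtCoh.pullPushAdj (pr c j)).unit.app (S.F j) ≫ (EtCoh.push (pr c j)).map (Dmap c S h) =
      raise c S h :=
    ((EtCoh.pullPushAdj (pr c j)).homEquiv_unit _ _ _).symm.trans (Equiv.apply_symm_apply _ _)
  exact ConcreteCategory.congr_hom (congrArg (fun q => q.hom.app (op V)) e) x

/-- Raising through any morphism whose base change is inverse to a given one. -/
theorem raise_eq {k : ι} {A : Obj Xs} {W : (St Xs k).Etale} (p : (⟨k, W⟩ : Obj Xs) ⟶ A)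
    (r : (Phi c).obj A ⟶ (Phi c).obj ⟨k, W⟩) (hr : r ≫ (Phi c).map p = 𝟙 _)
    (hr' : (Phi c).map p ≫ r = 𝟙 _) (x : S.P.obj (op A)) :
    (D0 c S k).obj.map r.op (un c S ⟨k, W⟩ (S.P.map p.op x)) =
      (D0 c S k).obj.map (PhiInv c p.hle A.obj).op
        (un c S ⟨k, (EtCoh.bc (tr Xs p.hle)).obj A.obj⟩ (S.P.map (proj p.hle A.obj).op x)) := by
  have e : un c S ⟨k, W⟩ (S.P.map p.op x) = (D0 c S k).obj.map ((Phi c).map ((incl k).map (toBc p))).op
      (un c S ⟨k, (EtCoh.bc (tr Xs p.hle)).obj A.obj⟩ (S.P.map (proj p.hle A.obj).op x)) := by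
    refine (congrArg (un c S ⟨k, W⟩) ?_).trans (un_incl c S k (toBc p) _)
    exact (congrArg (fun q => S.P.map q.op x) (factor p)).symm.trans (pmap_comp S _ _ x)
  refine (congrArg ((D0 c S k).obj.map r.op) e).trans ((gmap_comp (D0 c S k) _ _ _).symm.trans ?_)
  refine congrArg (fun q : (Phi c).obj A ⟶ (Phi c).obj ⟨k, (EtCoh.bc (tr Xs p.hle)).obj A.obj⟩ =>
    (D0 c S k).obj.map q.op (un c S ⟨k, (EtCoh.bc (tr Xs p.hle)).obj A.obj⟩ (S.P.map (proj p.hle A.obj).op x))) ?_
  have := isIso_Phi_proj c p.hle A.obj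
  refine (cancel_mono ((Phi c).map (proj p.hle A.obj))).1 ?_
  refine (Category.assoc _ _ _).trans ((congrArg (r ≫ ·) ?_).trans (hr.trans (PhiInv_proj c p.hle A.obj).symm))
  exact ((Phi c).map_comp _ _).symm.trans (congrArg (Phi c).map (factor p))

/-- The inverse images of the stages, as a diagram. -/
noncomputable def diag : ι ⥤ EtCoh.Ab c.pt where
  obj := D0 c S
  map f := Dmap c S (leOfHom f)
  map_id j := hom_ext_un c S fun V x => by
    rw [Dmap_un]
    refine (raise_eq c S (𝟙 (⟨j, V⟩ : Obj Xs)) (𝟙 _) ?_ ?_ x).symm.trans ?_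
    · rw [(Phi c).map_id, Category.id_comp]
    · rw [(Phi c).map_id, Category.id_comp]
    · rw [op_id, op_id, S.P.map_id, (D0 c S j).obj.map_id]
      rfl
  map_comp {j k l} f g := hom_ext_un c S fun V x => by
    let V₁ := (EtCoh.bc (tr Xs (leOfHom f))).obj V
    let p := proj (leOfHom g) V₁ ≫ proj (leOfHom f) V
    let r := PhiInv c (leOfHom f) V ≫ PhiInv c (leOfHom g) V₁
    rw [Dmap_un]
    refine (raise_eq c S p r ?_ ?_ x).symm.trans ?_
    · simp only [p, r, Functor.map_comp]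
      rw [Category.assoc, ← Category.assoc (PhiInv c (leOfHom g) V₁), PhiInv_proj, Category.id_comp, PhiInv_proj]
    · simp only [p, r, Functor.map_comp]
      rw [Category.assoc, ← Category.assoc _ (PhiInv c (leOfHom f) V), proj_PhiInv, Category.id_comp, proj_PhiInv]
    change _ = (Dmap c S (leOfHom g)).hom.app _ ((Dmap c S (leOfHom f)).hom.app _ (un c S ⟨j, V⟩ x))
    rw [Dmap_un c S (leOfHom f), NatTrans.naturality_apply, Dmap_un c S (leOfHom g)]
    rw [← ConcreteCategory.comp_apply ((D0 c S l).obj.map _), ← Functor.map_comp, ← op_comp]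
    refine congrArg (fun z => (D0 c S l).obj.map r.op (un c S ⟨l, (EtCoh.bc (tr Xs (leOfHom g))).obj V₁⟩ z)) ?_
    exact pmap_comp S _ _ x

/-- The colimit. -/
noncomputable def colimObj : EtCoh.Ab c.pt := colimit (diag c S)

theorem iota_raise {j k : ι} (h : j ≤ k) (V : (St Xs j).Etale) (x : S.P.obj (op (⟨j, V⟩ : Obj Xs))) :
    (colimit.ι (diag c S) k).hom.app (op ((Phi c).obj ⟨j, V⟩)) ((D0 c S k).obj.map (PhiInv c h V).op
        (un c S ⟨k, (EtCoh.bc (tr Xs h)).obj V⟩ (S.P.map (proj h V).op x))) =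
      (colimit.ι (diag c S) j).hom.app (op ((Phi c).obj ⟨j, V⟩)) (un c S ⟨j, V⟩ x) := by
  rw [← Dmap_un]
  exact ConcreteCategory.congr_hom (congrArg (fun q => q.hom.app (op ((Phi c).obj ⟨j, V⟩)))
    (colimit.w (diag c S) (homOfLE h))) _

/-- The comparison with the colimit. -/
noncomputable def colimMap : S.P ⟶ (Phi c).op ⋙ (colimObj c S).obj where
  app A := AddCommGrpCat.ofHom (((colimit.ι (diag c S) A.unop.idx).hom.app (op ((Phi c).obj A.unop))).hom.comp
    (un c S A.unop))
  naturality A B f := by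
    refine ConcreteCategory.hom_ext _ _ fun x => ?_
    change (colimit.ι (diag c S) B.unop.idx).hom.app _ (un c S B.unop (S.P.map f x)) =
      (colimObj c S).obj.map ((Phi c).map f.unop).op
        ((colimit.ι (diag c S) A.unop.idx).hom.app _ (un c S A.unop x))
    have e1 : (un c S B.unop (S.P.map f x)) = (D0 c S B.unop.idx).obj.map ((Phi c).map ((incl B.unop.idx).map (toBc f.unop))).op
        (un c S ⟨B.unop.idx, (EtCoh.bc (tr Xs f.unop.hle)).obj A.unop.obj⟩
          (S.P.map (proj f.unop.hle A.unop.obj).op x)) := by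
      refine (congrArg (un c S B.unop) ?_).trans (un_incl c S B.unop.idx (toBc f.unop) _)
      exact (congrArg (fun q => S.P.map q.op x) (factor f.unop)).symm.trans (pmap_comp S _ _ x)
    let z := un c S ⟨B.unop.idx, (EtCoh.bc (tr Xs f.unop.hle)).obj A.unop.obj⟩
      (S.P.map (proj f.unop.hle A.unop.obj).op x)
    let κ := (colimit.ι (diag c S) B.unop.idx).hom
    refine (congrArg (κ.app (op ((Phi c).obj B.unop))) e1).trans ?_
    refine Eq.trans ?_ (congrArg ((colimObj c S).obj.map ((Phi c).map f.unop).op)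
      (iota_raise c S f.unop.hle A.unop.obj x))
    refine Eq.trans ?_ (NatTrans.naturality_apply κ ((Phi c).map f.unop).op _)
    refine congrArg (κ.app (op ((Phi c).obj B.unop))) ?_
    refine Eq.trans ?_ (gmap_comp (D0 c S B.unop.idx) _ _ _)
    refine congrArg (fun q : (Phi c).obj B.unop ⟶ (Phi c).obj ⟨B.unop.idx, (EtCoh.bc (tr Xs f.unop.hle)).obj A.unop.obj⟩ =>
      (D0 c S B.unop.idx).obj.map q.op z) ?_
    have := isIso_Phi_proj c f.unop.hle A.unop.obj
    refine (cancel_mono ((Phi c).map (proj f.unop.hle A.unop.obj))).1 ?_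
    refine ((Phi c).map_comp _ _).symm.trans ((congrArg (Phi c).map (factor f.unop)).trans ?_)
    exact ((Category.assoc _ _ _).trans ((congrArg (_ ≫ ·) (PhiInv_proj c _ _)).trans (Category.comp_id _))).symm

theorem alphaAt_colimMap (j : ι) : alphaAt c (colimMap c S) j = colimit.ι (diag c S) j :=
  hom_ext_un c S fun V x => alphaAt_un c S (colimMap c S) ⟨j, V⟩ x

theorem w_of {G : EtCoh.Ab c.pt} (a : S.P ⟶ (Phi c).op ⋙ G.obj) {j k : ι} (h : j ≤ k) :
    Dmap c S h ≫ alphaAt c a k = alphaAt c a j := hom_ext_un c S fun V x => by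
  change (alphaAt c a k).hom.app _ ((Dmap c S h).hom.app _ (un c S ⟨j, V⟩ x)) = _
  rw [Dmap_un, NatTrans.naturality_apply]
  refine (congrArg _ (alphaAt_un c S a ⟨k, _⟩ (S.P.map (proj h V).op x))).trans ?_
  refine Eq.trans ?_ (alphaAt_un c S a ⟨j, V⟩ x).symm
  rw [NatTrans.naturality_apply]
  refine (ConcreteCategory.congr_hom (G.obj.map_comp _ _).symm _).trans ?_
  refine (congrArg (fun q => G.obj.map q (a.app (op ⟨j, V⟩) x))
    (congrArg Quiver.Hom.op (PhiInv_proj c h V))).trans ?_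
  exact ConcreteCategory.congr_hom (G.obj.map_id _) _

/-- The universal property. -/
noncomputable def colimDesc {G : EtCoh.Ab c.pt} (a : S.P ⟶ (Phi c).op ⋙ G.obj) : colimObj c S ⟶ G :=
  colimit.desc (diag c S)
    { pt := G
      ι :=
      { app := fun j => alphaAt c a j
        naturality := fun _ _ f => (w_of c S a (leOfHom f)).trans (Category.comp_id _).symm } }

theorem colimMap_desc {G : EtCoh.Ab c.pt} (a : S.P ⟶ (Phi c).op ⋙ G.obj) (A : Obj Xs) (x : S.P.obj (op A)) :
    (colimDesc c S a).hom.app (op ((Phi c).obj A)) ((colimMap c S).app (op A) x) = a.app (op A) x := by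
  refine Eq.trans ?_ (alphaAt_un c S a A x)
  have e : colimit.ι (diag c S) A.idx ≫ colimDesc c S a = alphaAt c a A.idx := colimit.ι_desc _ A.idx
  exact ConcreteCategory.congr_hom
    (congrArg (fun q : D0 c S A.idx ⟶ G => q.hom.app (op ((Phi c).obj A))) e) (un c S A x)

theorem germ_un {K : Type u} [Field K] [IsSepClosed K] (η : Spec (CommRingCat.of K) ⟶ c.pt) (A : Obj Xs)
    (t : Pt η ((Phi c).obj A)) (x : S.P.obj (op A)) :
    germ η (D0 c S A.idx) t (un c S A x) =
      theta (pr c A.idx) η (S.F A.idx) (germ (η ≫ pr c A.idx) (S.F A.idx) (ptDown (pr c A.idx) η t) x) := by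
  refine Eq.trans ?_ (theta_germ (pr c A.idx) η (S.F A.idx) (ptDown (pr c A.idx) η t) x).symm
  exact congrArg (fun q => germ η (D0 c S A.idx) q (un c S A x)) (ptUp_ptDown (pr c A.idx) η t).symm

/-- The colimit has the expected stalks. -/
theorem stalkLim_colim [IsDirected ι (· ≤ ·)] [Nonempty ι] : StalkLim c S (colimMap c S) where
  surj K _ _ η g := by
    have hc := isColimitOfPreserves (EtCoh.stalk η) (colimit.isColimit (diag c S))
    obtain ⟨j, y, hy⟩ := Concrete.isColimit_exists_rep (diag c S ⋙ EtCoh.stalk η) hc g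
    obtain ⟨z, rfl⟩ := (theta_bijective (pr c j) η (S.F j)).2 y
    obtain ⟨V, s, x, rfl⟩ := exists_germ_eq (η ≫ pr c j) (S.F j) z
    refine ⟨⟨j, V⟩, ptUp (pr c j) η s, x, Eq.trans ?_ hy⟩
    rw [theta_germ]
    exact (stalk_map_germ η (colimit.ι (diag c S) j) (ptUp (pr c j) η s) (un c S ⟨j, V⟩ x)).symm
  inj K _ _ η A t x h0 := by
    have hc := isColimitOfPreserves (EtCoh.stalk η) (colimit.isColimit (diag c S))
    have h1 : ((EtCoh.stalk η).mapCocone (colimit.cocone (diag c S))).ι.app A.idx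
        (germ η (D0 c S A.idx) t (un c S A x)) = 0 :=
      (stalk_map_germ η (colimit.ι (diag c S) A.idx) t _).trans h0
    obtain ⟨k, f, g, hk⟩ := (Concrete.isColimit_rep_eq_iff_exists (diag c S ⋙ EtCoh.stalk η) hc _
      (0 : (diag c S ⋙ EtCoh.stalk η).obj A.idx)).1 (h1.trans (map_zero _).symm)
    rw [map_zero] at hk
    let h : A.idx ≤ k := leOfHom f
    let V₁ := (EtCoh.bc (tr Xs h)).obj A.obj
    let t₁ : Pt η ((Phi c).obj ⟨k, V₁⟩) := (Scheme.pointSmallEtale η).fiber.map (PhiInv c h A.obj) t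
    have h2 : germ η (D0 c S k) t₁ (un c S ⟨k, V₁⟩ (S.P.map (proj h A.obj).op x)) = 0 := by
      refine Eq.trans ?_ hk
      refine Eq.trans ?_ (stalk_map_germ η (Dmap c S h) t (un c S A x)).symm
      refine Eq.trans ?_ (congrArg (germ η (D0 c S k) t) (Dmap_un c S h A.obj x)).symm
      exact (germ_map η (D0 c S k) (PhiInv c h A.obj) t _).symm
    replace h2 := (germ_un c S η (⟨k, V₁⟩ : Obj Xs) t₁ _).symm.trans h2
    obtain ⟨W, w, s', hs', hw⟩ := (germ_eq_zero_iff _ _ _ _).1
      ((injective_iff_map_eq_zero _).1 (theta_bijective (pr c k) η (S.F k)).1 _ h2)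
    refine ⟨⟨k, W⟩, (incl k).map w ≫ proj h A.obj, ptUp (pr c k) η s', ?_, ?_⟩
    · refine (congrArg (fun q => (Scheme.pointSmallEtale η).fiber.map q (ptUp (pr c k) η s'))
        ((Phi c).map_comp _ _)).trans ?_
      refine (ConcreteCategory.congr_hom ((Scheme.pointSmallEtale η).fiber.map_comp _ _) (ptUp (pr c k) η s')).trans ?_
      refine (congrArg ((Scheme.pointSmallEtale η).fiber.map ((Phi c).map (proj h A.obj))) ?_).trans
        (b := (Scheme.pointSmallEtale η).fiber.map ((Phi c).map (proj h A.obj)) t₁) ?_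
      · refine (congrArg (fun q => (Scheme.pointSmallEtale η).fiber.map q (ptUp (pr c k) η s')) (Phi_incl c k w)).trans ?_
        exact (ptUp_map (pr c k) η w s').symm.trans ((congrArg (ptUp (pr c k) η) hs').trans (ptUp_ptDown _ _ _))
      · refine (ConcreteCategory.congr_hom ((Scheme.pointSmallEtale η).fiber.map_comp _ _).symm t).trans ?_
        refine (congrArg (fun q => (Scheme.pointSmallEtale η).fiber.map q t) (PhiInv_proj c h A.obj)).trans ?_
        exact ConcreteCategory.congr_hom ((Scheme.pointSmallEtale η).fiber.map_id _) t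
    · rw [op_comp, Functor.map_comp, ConcreteCategory.comp_apply]
      exact hw

end Groth.Agent.EtLim45
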