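import Groth.Agent.EtLim45.Descent

/-!
Sections over quasi-compact quasi-separated objects are the colimits of the sections over the stages.
-/

set_option autoImplicit false
set_option backward.isDefEq.respectTransparency.types false
set_option linter.unusedSectionVars false
universe u

open CategoryTheory CategoryTheory.Limits AlgebraicGeometry Opposite
open Groth.Agent.Unr55.EtSh

namespace Groth.Agent.EtLim45

variable {ι : Type u} [Preorder ι] {Xs : ιᵒᵖ ⥤ Scheme.{u}} {c : Cone Xs}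
  {S : Sys Xs} {G : EtCoh.Ab c.pt} {a : S.P ⟶ (Phi c).op ⋙ G.obj}

theorem pmap_comp (S : Sys Xs) {A B C : Obj Xs} (f : A ⟶ B) (g : B ⟶ C) (x : S.P.obj (op C)) :
    S.P.map (f ≫ g).op x = S.P.map f.op (S.P.map g.op x) := by
  rw [op_comp, S.P.map_comp]
  rfl

theorem gmap_comp {X : Scheme.{u}} (G : EtCoh.Ab X) {A B C : X.Etale} (f : A ⟶ B) (g : B ⟶ C)
    (x : EtCoh.sect G C) : G.obj.map (f ≫ g).op x = G.obj.map f.op (G.obj.map g.op x) := by
  rw [op_comp, G.obj.map_comp]
  rfl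

theorem gmap_id {X : Scheme.{u}} (G : EtCoh.Ab X) {A : X.Etale} (f : A ⟶ A) (hf : f = 𝟙 A)
    (x : EtCoh.sect G A) : G.obj.map f.op x = x := by
  subst hf
  rw [op_id, G.obj.map_id]
  rfl

/-- The comparison map, on elements. -/
noncomputable abbrev al (a : S.P ⟶ (Phi c).op ⋙ G.obj) (A : Obj Xs) (x : S.P.obj (op A)) : EtCoh.sect G ((Phi c).obj A) :=
  a.app (op A) x

theorem al_map {A B : Obj Xs} (f : A ⟶ B) (x : S.P.obj (op B)) :
    al a A (S.P.map f.op x) = G.obj.map ((Phi c).map f).op (al a B x) :=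
  NatTrans.naturality_apply a f.op x

theorem inj_of_isIso {A B : Obj Xs} (f : A ⟶ B) [IsIso ((Phi c).map f)] (G : EtCoh.Ab c.pt) :
    Function.Bijective (G.obj.map ((Phi c).map f).op) :=
  ConcreteCategory.bijective_of_isIso _

omit [Preorder ι] in
theorem compactSpace_pullback_affine {X Y Z : Scheme.{u}} (f : X ⟶ Z) (g : Y ⟶ Z) (hg : IsAffineHom g)
    (h1 : CompactSpace ↥X) : CompactSpace ↥(pullback f g : Scheme.{u}) := by
  have : IsAffineHom (pullback.fst f g) := MorphismProperty.pullback_fst (P := @IsAffineHom) _ _ hg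
  exact QuasiCompact.compactSpace_of_compactSpace (pullback.fst f g)

variable [IsDirected ι (· ≤ ·)] [Nonempty ι]
  [∀ (a b : ιᵒᵖ) (h : a ⟶ b), IsAffineHom (Xs.map h)]
  [∀ a, CompactSpace ↥(Xs.obj a)] [∀ a, QuasiSeparatedSpace ↥(Xs.obj a)] (hc : IsLimit c)
  (ha : StalkLim c S a)

include hc ha in
/-- A section which dies on the limit dies at a stage. -/
theorem exists_stage_zero {A : Obj Xs} (hA : CompactSpace ↥A.obj.left) (x : S.P.obj (op A))
    (h0 : al a A x = 0) (j₀ : ι) :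
    ∃ (l : ι) (_ : j₀ ≤ l) (h : A.idx ≤ l), S.P.map (proj h A.obj).op x = 0 := by
  have hloc : ∀ p : ↥((Phi c).obj A).left, ∃ (B : Obj Xs) (f : B ⟶ A),
      p ∈ Set.range ((Phi c).map f).left ∧ S.P.map f.op x = 0 := fun p => by
    obtain ⟨K, _, _, η, t, ht⟩ := point_over ((Phi c).obj A) p
    obtain ⟨B, f, t', h1, h2⟩ := ha.inj K η A t x ((congrArg (germ η G t) h0).trans (map_zero _))
    exact ⟨B, f, ⟨hom η t' default, (congrArg (fun q => hom η q default) h1).trans ht⟩, h2⟩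
  choose B f hp hx using hloc
  have : CompactSpace ↥((Phi c).obj A).left := by
    have := isAffineHom_π_app Xs c hc (op A.idx)
    exact compactSpace_pullback_affine A.obj.hom (pr c A.idx) inferInstance hA
  obtain ⟨T, hT⟩ := isCompact_univ.elim_finite_subcover (fun p => Set.range ((Phi c).map (f p)).left)
    (fun p => isOpen_range_left _) fun p _ => Set.mem_iUnion.2 ⟨p, hp p⟩
  obtain ⟨l, hl, h, hB, hcov⟩ := exists_stage_cover hc A hA (σ := T) (fun i => B i.1) (fun i => f i.1)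
    (fun p => by
      obtain ⟨i, hi, hpi⟩ := Set.mem_iUnion₂.1 (hT (Set.mem_univ p))
      exact ⟨⟨i, hi⟩, hpi⟩) j₀
  refine ⟨l, hl, h, sect_eq_zero_of_local (S.F l) _ fun p => ?_⟩
  obtain ⟨i, y, hy⟩ := hcov p
  refine ⟨_, up (f i.1) (hB i), y, hy, ?_⟩
  change S.P.map ((incl l).map (up (f i.1) (hB i))).op (S.P.map (proj h A.obj).op x) = 0
  refine (pmap_comp S ((incl l).map (up (f i.1) (hB i))) (proj h A.obj) x).symm.trans ?_
  refine (congrArg (fun k : (⟨l, _⟩ : Obj Xs) ⟶ A => S.P.map k.op x) (up_proj (f i.1) (hB i))).trans ?_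
  rw [pmap_comp, hx, map_zero]
  rfl

omit [IsDirected ι (· ≤ ·)] [Nonempty ι] in
theorem compactSpace_fibreProduct {X Y Z : Scheme.{u}} (f : X ⟶ Z) (g : Y ⟶ Z) (h1 : CompactSpace ↥X)
    (h2 : CompactSpace ↥Y) (h3 : QuasiSeparatedSpace ↥Z) : CompactSpace ↥(pullback f g : Scheme.{u}) := by
  have : QuasiCompact g := quasiCompact_of_compactSpace _
  have : QuasiCompact (pullback.fst f g) := MorphismProperty.pullback_fst (P := @QuasiCompact) _ _ ‹_›
  exact QuasiCompact.compactSpace_of_compactSpace (pullback.fst f g)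

include hc ha in
/-- Every section on the limit comes from a stage. -/
theorem exists_stage_section {A : Obj Xs} (hA : QQ A) (s : EtCoh.sect G ((Phi c).obj A)) (j₀ : ι) :
    ∃ (n : ι) (_ : j₀ ≤ n) (h : A.idx ≤ n) (x : S.P.obj (op (⟨n, (EtCoh.bc (tr Xs h)).obj A.obj⟩ : Obj Xs))),
      al a _ x = G.obj.map ((Phi c).map (proj h A.obj)).op s := by
  have hloc : ∀ p : ↥((Phi c).obj A).left, ∃ (B : Obj Xs) (f : B ⟶ A) (x : S.P.obj (op B)),
      CompactSpace ↥B.obj.left ∧ p ∈ Set.range ((Phi c).map f).left ∧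
        al a B x = G.obj.map ((Phi c).map f).op s := fun p => by
    obtain ⟨K, _, _, η, t, ht⟩ := point_over ((Phi c).obj A) p
    obtain ⟨B, tB, x, hx⟩ := ha.surj K η (germ η G t s)
    obtain ⟨C, f, g, u, hf, hg⟩ := common c A B t tB
    let d := al a C (S.P.map g.op x) - G.obj.map ((Phi c).map f).op s
    have hd : germ η G u d = 0 := by
      rw [map_sub, al_map, germ_map, germ_map, hf, hg, sub_eq_zero]
      exact hx
    obtain ⟨V, v, u', hu', hv⟩ := (germ_eq_zero_iff η G u d).1 hd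
    have hmem : hom η u default ∈ vanishing G d :=
      range_le_vanishing G d v hv ⟨hom η u' default, congrArg (fun q => hom η q default) hu'⟩
    obtain ⟨C', e, hC', hpC', hsub⟩ := exists_open_stage hc C (vanishing G d) _ hmem
    refine ⟨C', e ≫ f, S.P.map (e ≫ g).op x, inferInstance, ?_, ?_⟩
    · obtain ⟨y, hy⟩ := hpC'
      refine ⟨y, ?_⟩
      rw [Functor.map_comp]
      refine (congrArg ((Phi c).map f).left hy).trans ?_
      exact (congrArg (fun q => hom η q default) hf).trans ht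
    · have h0 : G.obj.map ((Phi c).map e).op d = 0 := (map_eq_zero_iff_range_le G d _).2 hsub
      rw [map_sub, sub_eq_zero, ← al_map, ← gmap_comp, ← Functor.map_comp] at h0
      rw [pmap_comp]
      exact h0
  choose B f x hBc hp hx using hloc
  obtain ⟨hA1, hA2⟩ := hA
  have : CompactSpace ↥((Phi c).obj A).left := by
    have := isAffineHom_π_app Xs c hc (op A.idx)
    exact (qq_pullback A.obj.hom (pr c A.idx) inferInstance hA1 hA2).1
  obtain ⟨T, hT⟩ := isCompact_univ.elim_finite_subcover (fun p => Set.range ((Phi c).map (f p)).left)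
    (fun p => isOpen_range_left _) fun p _ => Set.mem_iUnion.2 ⟨p, hp p⟩
  obtain ⟨l, hl, h, hB, hcov⟩ := exists_stage_cover hc A hA1 (σ := T) (fun i => B i.1) (fun i => f i.1)
    (fun p => by
      obtain ⟨i, hi, hpi⟩ := Set.mem_iUnion₂.1 (hT (Set.mem_univ p))
      exact ⟨⟨i, hi⟩, hpi⟩) j₀
  -- everything now lives at the stage `l`
  let A₁ := (EtCoh.bc (tr Xs h)).obj A.obj
  let V : T → (St Xs l).Etale := fun i => (EtCoh.bc (tr Xs (hB i))).obj (B i.1).obj
  let g : ∀ i, V i ⟶ A₁ := fun i => up (f i.1) (hB i)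
  let r : ∀ i, S.P.obj (op (⟨l, V i⟩ : Obj Xs)) := fun i => S.P.map (proj (hB i) (B i.1).obj).op (x i.1)
  have hr : ∀ i, al a _ (r i) =
      G.obj.map ((Phi c).map ((incl l).map (g i) ≫ proj h A.obj)).op s := fun i => by
    refine (al_map _ _).trans ((congrArg _ (hx i.1)).trans ?_)
    rw [← gmap_comp, ← Functor.map_comp]
    exact congrArg (fun q => G.obj.map ((Phi c).map q).op s) (up_proj (f i.1) (hB i)).symm
  have hqA : QQ (⟨l, A₁⟩ : Obj Xs) := QQ.bc ⟨hA1, hA2⟩ h
  have hVc : ∀ i, CompactSpace ↥(V i).left := fun i =>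
    compactSpace_pullback_affine (B i.1).obj.hom (tr Xs (hB i)) inferInstance (hBc i.1)
  -- the sections agree on overlaps at a later stage
  have hVet : ∀ i, Etale (V i).hom := fun i => (V i).prop
  let E : T × T → (St Xs l).Etale := fun q =>
    have : Etale (g q.2).left := etale_left _
    Scheme.Etale.mk (pullback.fst (g q.1).left (g q.2).left ≫ (V q.1).hom)
  let p₁ : ∀ q, E q ⟶ V q.1 := fun q =>
    MorphismProperty.Over.homMk (pullback.fst (g q.1).left (g q.2).left) rfl trivial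
  let p₂ : ∀ q, E q ⟶ V q.2 := fun q =>
    MorphismProperty.Over.homMk (pullback.snd (g q.1).left (g q.2).left) (by
      show pullback.snd (g q.1).left (g q.2).left ≫ (V q.2).hom = pullback.fst (g q.1).left (g q.2).left ≫ (V q.1).hom
      exact (congrArg (pullback.snd (g q.1).left (g q.2).left ≫ ·) (Over.w (g q.2).hom).symm).trans
        ((Category.assoc _ _ _).symm.trans ((congrArg (· ≫ A₁.hom) pullback.condition.symm).trans
          ((Category.assoc _ _ _).trans (congrArg (pullback.fst (g q.1).left (g q.2).left ≫ ·) (Over.w (g q.1).hom)))))) trivial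
  have hdie : ∀ q, ∃ (m : ι) (hm : l ≤ m), S.P.map (proj hm (E q)).op
      (S.P.map ((incl l).map (p₁ q)).op (r q.1) - S.P.map ((incl l).map (p₂ q)).op (r q.2)) = 0 := fun q => by
    have hEc : CompactSpace ↥(E q).left :=
      compactSpace_fibreProduct (g q.1).left (g q.2).left (hVc _) (hVc _) hqA.2
    obtain ⟨m, -, hm, e⟩ := exists_stage_zero hc ha (A := ⟨l, E q⟩) hEc
      (S.P.map ((incl l).map (p₁ q)).op (r q.1) - S.P.map ((incl l).map (p₂ q)).op (r q.2)) (by
      refine (map_sub (a.app (op (⟨l, E q⟩ : Obj Xs))).hom _ _).trans (sub_eq_zero.2 ?_)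
      refine (al_map _ _).trans (Eq.trans ?_ (al_map _ _).symm)
      refine (congrArg _ (hr q.1)).trans (Eq.trans ?_ (congrArg _ (hr q.2)).symm)
      refine (gmap_comp G _ _ s).symm.trans (Eq.trans ?_ (gmap_comp G _ _ s))
      refine (congrArg (fun k => G.obj.map k.op s) ((Phi c).map_comp _ _).symm).trans
        (Eq.trans ?_ (congrArg (fun k => G.obj.map k.op s) ((Phi c).map_comp _ _)))
      refine congrArg (fun k => G.obj.map ((Phi c).map k).op s) (hom_ext ?_)
      exact (Category.assoc _ _ _).symm.trans ((congrArg (· ≫ (proj h A.obj).left) pullback.condition).trans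
        (Category.assoc _ _ _))) l
    exact ⟨m, hm, e⟩
  choose m hm hmz using hdie
  obtain ⟨n₁, hn₁⟩ := Finite.exists_le m
  obtain ⟨n, hn, hln⟩ := directed_of (· ≤ ·) n₁ l
  let W : T → (St Xs n).Etale := fun i => (EtCoh.bc (tr Xs hln)).obj (V i)
  let A₂ := (EtCoh.bc (tr Xs hln)).obj A₁
  let g₂ : ∀ i, W i ⟶ A₂ := fun i => (EtCoh.bc (tr Xs hln)).map (g i)
  let r₂ : ∀ i, EtCoh.sect (S.F n) (W i) := fun i => S.P.map (proj hln (V i)).op (r i)
  have hcov₂ : Sieve.ofArrows W g₂ ∈ (St Xs n).smallEtaleTopology A₂ :=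
    mem_topology fun z => by
      obtain ⟨i, y, hy⟩ := hcov (pullback.fst A₁.hom (tr Xs hln) z)
      obtain ⟨w, hw⟩ := (range_bc_map (tr Xs hln) (g i) z).2 ⟨y, hy⟩
      exact ⟨_, g₂ i, w, Sieve.ofArrows_mk _ g₂ i, hw⟩
  have hcomp : Presieve.Arrows.Compatible ((S.F n).obj ⋙ forget AddCommGrpCat.{u + 1}) g₂ r₂ := by
    intro i j Z gi gj hij
    let ki : (⟨n, Z⟩ : Obj Xs) ⟶ ⟨l, V i⟩ := (incl n).map gi ≫ proj hln (V i)
    let kj : (⟨n, Z⟩ : Obj Xs) ⟶ ⟨l, V j⟩ := (incl n).map gj ≫ proj hln (V j)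
    have hk : ki.left ≫ (g i).left = kj.left ≫ (g j).left := by
      have e := congrArg (fun k : Z ⟶ A₂ => k.left ≫ pullback.fst A₁.hom (tr Xs hln)) hij
      simp only [ki, kj, comp_left]
      refine (Category.assoc _ _ _).trans ((congrArg (_ ≫ ·) (EtCoh.isPullback_bc_map _ (g i)).w.symm).trans ?_)
      refine Eq.trans ?_ ((congrArg (_ ≫ ·) (EtCoh.isPullback_bc_map _ (g j)).w).trans (Category.assoc _ _ _).symm)
      exact (Category.assoc _ _ _).symm.trans (e.trans (Category.assoc _ _ _))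
    let k : (⟨n, Z⟩ : Obj Xs) ⟶ ⟨l, E (i, j)⟩ := ⟨hln, pullback.lift ki.left kj.left hk,
      (pullback.lift_fst_assoc _ _ _ _).trans ki.w⟩
    have h0 := hmz (i, j)
    have hmn : m (i, j) ≤ n := (hn₁ _).trans hn
    have hfac : k = ((incl n).map (toBc k) ≫
        (⟨hmn, pullback.lift (pullback.fst (E (i, j)).hom (tr Xs hln))
          (pullback.snd (E (i, j)).hom (tr Xs hln) ≫ tr Xs hmn)
          (pullback.condition.trans ((congrArg (_ ≫ ·) (tr_trans Xs (hm (i, j)) hmn)).symm.trans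
            (Category.assoc _ _ _).symm)), pullback.lift_snd _ _ _⟩ :
          (⟨n, (EtCoh.bc (tr Xs hln)).obj (E (i, j))⟩ : Obj Xs) ⟶ ⟨m (i, j), (EtCoh.bc (tr Xs (hm (i, j)))).obj (E (i, j))⟩)) ≫
        proj (hm (i, j)) (E (i, j)) := by
      refine hom_ext ?_
      refine Eq.trans ?_ (Category.assoc _ _ _).symm
      refine Eq.trans ?_ (congrArg (_ ≫ ·) (pullback.lift_fst _ _ _).symm)
      exact (pullback.lift_fst _ _ _).symm
    have hz : S.P.map k.op (S.P.map ((incl l).map (p₁ (i, j))).op (r i) -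
        S.P.map ((incl l).map (p₂ (i, j))).op (r j)) = 0 :=
      (congrArg (fun q : (⟨n, Z⟩ : Obj Xs) ⟶ ⟨l, E (i, j)⟩ => S.P.map q.op
        (S.P.map ((incl l).map (p₁ (i, j))).op (r i) - S.P.map ((incl l).map (p₂ (i, j))).op (r j))) hfac).trans
        ((pmap_comp S _ _ _).trans ((congrArg _ h0).trans (map_zero _)))
    have hz' := ((pmap_comp S k ((incl l).map (p₁ (i, j))) (r i)).trans
      (sub_eq_zero.1 ((map_sub (S.P.map k.op).hom _ _).symm.trans hz))).trans
        (pmap_comp S k ((incl l).map (p₂ (i, j))) (r j)).symm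
    change S.P.map ((incl n).map gi).op (S.P.map (proj hln (V i)).op (r i)) =
      S.P.map ((incl n).map gj).op (S.P.map (proj hln (V j)).op (r j))
    refine (pmap_comp S _ _ (r i)).symm.trans (Eq.trans ?_ (pmap_comp S _ _ (r j)))
    refine (congrArg (fun q : (⟨n, Z⟩ : Obj Xs) ⟶ ⟨l, V i⟩ => S.P.map q.op (r i)) (hom_ext ?_)).trans
      (hz'.trans (congrArg (fun q : (⟨n, Z⟩ : Obj Xs) ⟶ ⟨l, V j⟩ => S.P.map q.op (r j)) (hom_ext ?_)))
    · exact (pullback.lift_fst _ _ _).symm
    · exact pullback.lift_snd _ _ _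
  obtain ⟨xx, hxx, -⟩ := (Presieve.isSheafFor_arrows_iff _ g₂).1
    ((Presieve.isSheafFor_iff_generate _).2 (isSheafFor_forget (S.F n) hcov₂)) r₂ hcomp
  let q : (⟨n, (EtCoh.bc (tr Xs (h.trans hln))).obj A.obj⟩ : Obj Xs) ⟶ ⟨n, A₂⟩ :=
    (incl n).map (toBc (⟨hln, pullback.lift (pullback.fst A.obj.hom (tr Xs (h.trans hln)))
      (pullback.snd A.obj.hom (tr Xs (h.trans hln)) ≫ tr Xs hln)
      (pullback.condition.trans ((congrArg (_ ≫ ·) (tr_trans Xs h hln)).symm.trans (Category.assoc _ _ _).symm)),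
      pullback.lift_snd _ _ _⟩ : (⟨n, (EtCoh.bc (tr Xs (h.trans hln))).obj A.obj⟩ : Obj Xs) ⟶ ⟨l, A₁⟩))
  refine ⟨n, hl.trans hln, h.trans hln, S.P.map q.op xx, ?_⟩
  have hxA : al a (⟨n, A₂⟩ : Obj Xs) xx = G.obj.map ((Phi c).map (proj hln A₁ ≫ proj h A.obj)).op s := by
    rw [← sub_eq_zero]
    refine sect_eq_zero_of_local G _ fun z => ?_
    obtain ⟨i, y, hy⟩ := hcov (pullback.fst A₁.hom (tr Xs hln) (pullback.fst A₂.hom (pr c n) z))
    obtain ⟨w, hw⟩ := (range_bc_map (tr Xs hln) (g i) _).2 ⟨y, hy⟩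
    obtain ⟨w', hw'⟩ := (range_bc_map (pr c n) (g₂ i) z).2 ⟨w, hw⟩
    refine ⟨_, (EtCoh.bc (pr c n)).map (g₂ i), w', hw', ?_⟩
    rw [← Phi_incl, map_sub, sub_eq_zero]
    refine (al_map ((incl n).map (g₂ i)) xx).symm.trans ?_
    refine (congrArg (al a (⟨n, W i⟩ : Obj Xs)) (hxx i)).trans ?_
    refine Eq.trans ?_ ((congrArg (fun k => G.obj.map k.op s) ((Phi c).map_comp _ _)).trans (gmap_comp G _ _ s))
    refine (al_map (proj hln (V i)) (r i)).trans ((congrArg _ (hr i)).trans ?_)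
    refine (gmap_comp G _ _ s).symm.trans ?_
    refine (congrArg (fun k => G.obj.map k.op s) ((Phi c).map_comp _ _).symm).trans ?_
    refine congrArg (fun k => G.obj.map ((Phi c).map k).op s) ?_
    exact (Category.assoc _ _ _).symm.trans ((congrArg (· ≫ proj h A.obj) (proj_naturality hln (g i)).symm).trans
      (Category.assoc _ _ _))
  rw [al_map, hxA, ← gmap_comp, ← Functor.map_comp]
  refine congrArg (fun k => G.obj.map ((Phi c).map k).op s) (hom_ext ?_)
  exact (Category.assoc _ _ _).symm.trans ((congrArg (· ≫ (proj h A.obj).left) (pullback.lift_fst _ _ _)).trans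
    (pullback.lift_fst _ _ _))

end Groth.Agent.EtLim45
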