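import Groth.Agent.EtLim45.EtaleSys

/-!
Sections and vanishing for inverse images on a limit of étale schemes over a base.
-/

set_option autoImplicit false
set_option backward.isDefEq.respectTransparency.types false
set_option linter.unusedSectionVars false
universe u

open CategoryTheory CategoryTheory.Limits AlgebraicGeometry Opposite
open Groth.Agent.EtCore45.MV (unitSect unitSect_map)

namespace Groth.Agent.EtLim45

variable {ι : Type u} [Preorder ι] {Z : Scheme.{u}} (W : ιᵒᵖ ⥤ Z.Etale)

/-- The colimit of the sections on the stages. -/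
noncomputable def secColim : EtCoh.Ab Z ⥤ AddCommGrpCat.{u + 1} :=
  sheafToPresheaf Z.smallEtaleTopology AddCommGrpCat.{u + 1} ⋙
    (Functor.whiskeringLeft _ _ _).obj W.rightOp ⋙ colim

variable (c : Cone (Und W)) (b : c.pt ⟶ Z) (hb : ∀ j, pr c j ≫ str W j = b)

/-- The tautological section of a stage. -/
noncomputable def secAt (j : ι) : EtCoh.top c.pt ⟶ (EtCoh.bc b).obj (W.obj (op j)) :=
  MorphismProperty.Over.homMk (pullback.lift (pr c j) (𝟙 c.pt) ((hb j).trans (Category.id_comp _).symm))
    (pullback.lift_snd _ _ _) trivial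

theorem secAt_map {j k : ι} (h : j ≤ k) :
    secAt W c b hb k ≫ (EtCoh.bc b).map (W.map (homOfLE h).op) = secAt W c b hb j := by
  refine bc_hom_ext b ?_
  refine (Category.assoc _ _ _).trans ((congrArg (_ ≫ ·) (EtCoh.isPullback_bc_map b (W.map (homOfLE h).op)).w).trans ?_)
  refine ((Category.assoc _ _ _).symm.trans (congrArg (· ≫ tr (Und W) h) (pullback.lift_fst _ _ _))).trans ?_
  exact (pr_tr c h).trans (pullback.lift_fst _ _ _).symm

/-- The comparison at a stage. -/
noncomputable def kapAt (G : EtCoh.Ab Z) (j : ι) :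
    G.obj.obj (op (W.obj (op j))) →+ EtCoh.sect ((EtCoh.pull b).obj G) (EtCoh.top c.pt) :=
  (((EtCoh.pull b).obj G).obj.map (secAt W c b hb j).op).hom.comp (unitSect b G (W.obj (op j)))

/-- The comparison cocone. -/
noncomputable def kapCocone (G : EtCoh.Ab Z) : Cocone (W.rightOp ⋙ G.obj) where
  pt := ((EtCoh.pull b).obj G).obj.obj (op (EtCoh.top c.pt))
  ι :=
    { app := fun j => AddCommGrpCat.ofHom (kapAt W c b hb G j)
      naturality := fun j k g => ConcreteCategory.hom_ext _ _ fun x => by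
        change ((EtCoh.pull b).obj G).obj.map (secAt W c b hb k).op
          (unitSect b G _ (G.obj.map (W.map g.op).op x)) = ((EtCoh.pull b).obj G).obj.map (secAt W c b hb j).op (unitSect b G _ x)
        rw [unitSect_map]
        refine (gmap_comp _ _ _ _).symm.trans ?_
        rw [show g = homOfLE (leOfHom g) from Subsingleton.elim _ _, secAt_map] }

/-- The comparison. -/
noncomputable def kap : secColim W ⟶ EtCoh.pull b ⋙ EtCore.gsec c.pt where
  app G := colimit.desc _ (kapCocone W c b hb G)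
  naturality G G' φ := by
    refine colimit.hom_ext fun j => ConcreteCategory.hom_ext _ _ fun x => ?_
    change colimit.desc _ (kapCocone W c b hb G') (colim.map (Functor.whiskerLeft W.rightOp φ.hom)
        (colimit.ι (W.rightOp ⋙ G.obj) j x)) =
      ((EtCoh.pull b).map φ).hom.app (op (EtCoh.top c.pt)) (colimit.desc _ (kapCocone W c b hb G)
        (colimit.ι (W.rightOp ⋙ G.obj) j x))
    rw [← ConcreteCategory.comp_apply (colimit.ι (W.rightOp ⋙ G.obj) j) (colim.map _),
      ← ConcreteCategory.comp_apply (colimit.ι (W.rightOp ⋙ G.obj) j) (colimit.desc _ _)]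
    erw [colimit.ι_map, colimit.ι_desc, ConcreteCategory.comp_apply]
    refine (ConcreteCategory.congr_hom (colimit.ι_desc (kapCocone W c b hb G') j) _).trans ?_
    refine Eq.trans ?_ (EtCore45.MV.app_map ((EtCoh.pull b).map φ) (secAt W c b hb j) _).symm
    refine congrArg (((EtCoh.pull b).obj G').obj.map (secAt W c b hb j).op) ?_
    exact ConcreteCategory.congr_hom (congrArg (fun q => q.hom.app (op (W.obj (op j))))
      ((EtCoh.pullPushAdj b).unit.naturality φ)) x

/-- The top object of a stage inside the base. -/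
noncomputable def topTo (j : ι) : (KF W).obj ⟨j, EtCoh.top (St (Und W) j)⟩ ⟶ W.obj (op j) :=
  MorphismProperty.Over.homMk (𝟙 _) rfl trivial

/-- The inverse of `topTo`. -/
noncomputable def toTop (j : ι) : W.obj (op j) ⟶ (KF W).obj ⟨j, EtCoh.top (St (Und W) j)⟩ :=
  MorphismProperty.Over.homMk (𝟙 _)
    (show 𝟙 _ ≫ 𝟙 _ ≫ str W j = str W j from (Category.id_comp _).trans (Category.id_comp _)) trivial

theorem kapAt_eq (G : EtCoh.Ab Z) (j : ι) (x : G.obj.obj (op (W.obj (op j)))) :
    kapAt W c b hb G j x = ((EtCoh.pull b).obj G).obj.map (EtCore.bcTopIso (pr c j)).inv.op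
      (al (etMap W c b hb G) ⟨j, EtCoh.top (St (Und W) j)⟩ (G.obj.map (topTo W j).op x)) := by
  change _ = ((EtCoh.pull b).obj G).obj.map (EtCore.bcTopIso (pr c j)).inv.op
    (((EtCoh.pull b).obj G).obj.map (dMap W c b hb ⟨j, EtCoh.top (St (Und W) j)⟩).op
      (unitSect b G _ (G.obj.map (topTo W j).op x)))
  rw [unitSect_map, ← gmap_comp]
  refine Eq.trans ?_ (gmap_comp _ _ _ _)
  refine congrArg (fun q : _ ⟶ (EtCoh.bc b).obj (W.obj (op j)) =>
    ((EtCoh.pull b).obj G).obj.map q.op (unitSect b G (W.obj (op j)) x)) (bc_hom_ext b ?_)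
  refine (pullback.lift_fst _ _ _).trans ?_
  symm
  refine (Category.assoc _ _ _).trans ((congrArg (_ ≫ ·) ((Category.assoc _ _ _).trans
    (congrArg (_ ≫ ·) ((EtCoh.isPullback_bc_map b (topTo W j)).w.trans (Category.comp_id _))))).trans ?_)
  refine (congrArg (_ ≫ ·) (dMap_fst W c b hb ⟨j, EtCoh.top (St (Und W) j)⟩)).trans ?_
  have e1 : (EtCore.bcTopIso (pr c j)).inv.left ≫
      pullback.snd (EtCoh.top (St (Und W) j)).hom (pr c j) = 𝟙 _ := Over.w (EtCore.bcTopIso (pr c j)).inv.hom
  have e2 : pullback.fst (EtCoh.top (St (Und W) j)).hom (pr c j) =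
      pullback.snd (EtCoh.top (St (Und W) j)).hom (pr c j) ≫ pr c j :=
    (Category.comp_id _).symm.trans pullback.condition
  exact (congrArg (_ ≫ ·) e2).trans ((Category.assoc _ _ _).symm.trans ((congrArg (· ≫ pr c j) e1).trans (Category.id_comp _)))

variable [IsDirected ι (· ≤ ·)] [Nonempty ι]
  [∀ (a b : ιᵒᵖ) (h : a ⟶ b), IsAffineHom ((Und W).map h)]
  [∀ a, CompactSpace ↥((Und W).obj a)] [∀ a, QuasiSeparatedSpace ↥((Und W).obj a)] (hc : IsLimit c)

include hc in
theorem isIso_kap : IsIso (kap W c b hb) := by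
  suffices h : ∀ G, IsIso ((kap W c b hb).app G) from NatIso.isIso_of_isIso_app _
  intro G
  refine (ConcreteCategory.isIso_iff_bijective _).2 ⟨?_, fun t => ?_⟩
  · refine (injective_iff_map_eq_zero ((kap W c b hb).app G).hom).2 fun z hz => ?_
    obtain ⟨j, x, rfl⟩ := Concrete.colimit_exists_rep (W.rightOp ⋙ G.obj) z
    have h0 : kapAt W c b hb G j x = 0 :=
      (ConcreteCategory.congr_hom (colimit.ι_desc (kapCocone W c b hb G) j) x).symm.trans hz
    rw [kapAt_eq] at h0
    have h1 : al (etMap W c b hb G) ⟨j, EtCoh.top (St (Und W) j)⟩ (G.obj.map (topTo W j).op x) = 0 :=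
      (ConcreteCategory.bijective_of_isIso (((EtCoh.pull b).obj G).obj.map (EtCore.bcTopIso (pr c j)).inv.op)).1
        (h0.trans (map_zero _).symm)
    obtain ⟨l, -, h, hl⟩ := exists_stage_zero hc (stalkLim_etSys W c b hb G) (QQ.top (Xs := Und W) j).1 _ h1 j
    refine Eq.trans ?_ (map_zero (colimit.ι (W.rightOp ⋙ G.obj) l).hom)
    rw [← colimit.w (W.rightOp ⋙ G.obj) (homOfLE h), ConcreteCategory.comp_apply]
    refine congrArg _ ?_
    let m : W.obj (op l) ⟶ (KF W).obj ⟨l, (EtCoh.bc (tr (Und W) h)).obj (EtCoh.top (St (Und W) j))⟩ :=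
      MorphismProperty.Over.homMk (pullback.lift (tr (Und W) h) (𝟙 _) ((Category.comp_id _).trans (Category.id_comp _).symm))
        ((Category.assoc _ _ _).symm.trans ((congrArg (· ≫ str W l) (pullback.lift_snd _ _ _)).trans (Category.id_comp _)))
        trivial
    have e : m ≫ (KF W).map (proj h (EtCoh.top (St (Und W) j))) ≫ topTo W j = W.map (homOfLE h).op :=
      MorphismProperty.Over.Hom.ext ((congrArg (_ ≫ ·) (Category.comp_id _)).trans (pullback.lift_fst _ _ _))
    change G.obj.map (W.map (homOfLE h).op).op x = 0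
    rw [← e, gmap_comp, gmap_comp]
    exact (congrArg (G.obj.map m.op) hl).trans (map_zero _)
  · let j₀ : ι := Classical.arbitrary ι
    obtain ⟨n, -, hn, y, hy⟩ := exists_stage_section hc (stalkLim_etSys W c b hb G) (QQ.top j₀)
      (((EtCoh.pull b).obj G).obj.map (EtCore.bcTopIso (pr c j₀)).hom.op t) j₀
    let m := (incl n).map (EtCore.bcTopIso (tr (Und W) hn)).inv
    refine ⟨colimit.ι (W.rightOp ⋙ G.obj) n (G.obj.map (toTop W n).op ((etSys W G).P.map m.op y)), ?_⟩
    refine (ConcreteCategory.congr_hom (colimit.ι_desc (kapCocone W c b hb G) n) _).trans ?_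
    change kapAt W c b hb G n _ = t
    rw [kapAt_eq, ← gmap_comp, gmap_id G (topTo W n ≫ toTop W n)
      (MorphismProperty.Over.Hom.ext (Category.id_comp _))]
    refine (congrArg (((EtCoh.pull b).obj G).obj.map (EtCore.bcTopIso (pr c n)).inv.op)
      ((al_map (a := etMap W c b hb G) m y).trans
        (congrArg (((EtCoh.pull b).obj G).obj.map ((Phi c).map m).op) (hy.trans (gmap_comp _ _ _ _).symm)))).trans ?_
    refine (congrArg _ (gmap_comp _ _ _ _).symm).trans ((gmap_comp _ _ _ _).symm.trans ?_)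
    exact gmap_id _ _ ((EtCore.topIsTerminal _).hom_ext _ _) _

include hc hb in
theorem subsingleton_H_pull [∀ ⦃a b : ιᵒᵖ⦄ (h : a ⟶ b), PreservesFiniteLimits (EtCoh.pull ((Und W).map h))]
    [∀ a, PreservesFiniteLimits (EtCoh.pull (c.π.app a))] (G : EtCoh.Ab Z) [Injective G] (n : ℕ) :
    Subsingleton (EtCoh.H c.pt ((EtCoh.pull b).obj G) (n + 1)) := by
  refine subsingleton_of_forall_eq 0 fun ξ => ?_
  obtain ⟨j, x, rfl⟩ := (H_limit hc (n + 1) (etSys W G) _ (etMap W c b hb G) (stalkLim_etSys W c b hb G)).1 ξ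
  have := injective_etSys W G j
  have := subsingleton_H_injective ((etSys W G).F j) n
  rw [Subsingleton.elim x 0, map_zero]

end Groth.Agent.EtLim45
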