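import Groth.Agent.EtLim45.Main
import Groth.Agent.EtCore45.EtalePull
import Groth.Agent.Unr55.Et.Unit

/-!
Systems of étale schemes over a base: sections and cohomology of inverse images on the limit.
-/

set_option autoImplicit false
set_option backward.isDefEq.respectTransparency.types false
set_option linter.unusedSectionVars false
universe u

open CategoryTheory CategoryTheory.Limits AlgebraicGeometry Opposite
open Groth.Agent.Unr55.EtSh

namespace Groth.Agent.EtLim45

variable {ι : Type u} [Preorder ι] {Z : Scheme.{u}} (W : ιᵒᵖ ⥤ Z.Etale)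

/-- The underlying inverse system. -/
abbrev Und : ιᵒᵖ ⥤ Scheme.{u} := W ⋙ Scheme.Etale.forget Z ⋙ Over.forget Z

/-- The structure map of a stage. -/
abbrev str (j : ι) : St (Und W) j ⟶ Z := (W.obj (op j)).hom

theorem tr_str {j k : ι} (h : j ≤ k) : tr (Und W) h ≫ str W j = str W k :=
  Over.w (W.map (homOfLE h).op).hom

/-- Objects of the fibred site as étale objects of the base. -/
noncomputable def KF : Obj (Und W) ⥤ Z.Etale where
  obj A := haveI : Etale (str W A.idx) := (W.obj (op A.idx)).prop
    (EtShriek.compEtale (str W A.idx)).obj A.obj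
  map {A B} f := MorphismProperty.Over.homMk f.left
    (show f.left ≫ B.obj.hom ≫ str W B.idx = A.obj.hom ≫ str W A.idx by
      rw [← Category.assoc, f.w, Category.assoc, tr_str]) trivial

theorem KF_isSheaf (G : EtCoh.Ab Z) (j : ι) :
    Presheaf.IsSheaf (St (Und W) j).smallEtaleTopology ((incl j).op ⋙ (KF W).op ⋙ G.obj) := by
  haveI : Etale (str W j) := (W.obj (op j)).prop
  exact ((EtShriek.restrAlong (str W j)).obj G).property

/-- The system of restrictions. -/
noncomputable def etSys (G : EtCoh.Ab Z) : Sys (Und W) where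
  P := (KF W).op ⋙ G.obj
  isSheaf j := KF_isSheaf W G j

theorem etSys_F_iso (G : EtCoh.Ab Z) (j : ι) :
    haveI : Etale (str W j) := (W.obj (op j)).prop
    Nonempty ((etSys W G).F j ≅ (EtShriek.restrAlong (str W j)).obj G) :=
  haveI : Etale (str W j) := (W.obj (op j)).prop
  ⟨(fullyFaithfulSheafToPresheaf _ _).preimageIso (NatIso.ofComponents (fun _ => Iso.refl _) fun {U V} g => by
    refine (Category.comp_id _).trans (Eq.trans ?_ (Category.id_comp _).symm)
    rfl)⟩

theorem injective_etSys (G : EtCoh.Ab Z) [Injective G] (j : ι) : Injective ((etSys W G).F j) := by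
  haveI : Etale (str W j) := (W.obj (op j)).prop
  obtain ⟨e⟩ := etSys_F_iso W G j
  exact Injective.of_iso e.symm (EtCore45.injective_restrAlong (str W j) G)

variable (c : Cone (Und W)) (b : c.pt ⟶ Z) (hb : ∀ j, pr c j ≫ str W j = b)

/-- The comparison of base changes. -/
noncomputable def dMap (A : Obj (Und W)) :
    (Phi c).obj A ⟶ (EtCoh.bc b).obj ((KF W).obj A) :=
  MorphismProperty.Over.homMk
    (pullback.lift (pullback.fst A.obj.hom (pr c A.idx)) (pullback.snd A.obj.hom (pr c A.idx))
      ((Category.assoc _ _ _).symm.trans ((congrArg (· ≫ str W A.idx) pullback.condition).trans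
        ((Category.assoc _ _ _).trans (congrArg (_ ≫ ·) (hb A.idx))))))
    (pullback.lift_snd _ _ _) trivial

theorem dMap_fst (A : Obj (Und W)) :
    (dMap W c b hb A).left ≫ pullback.fst ((KF W).obj A).hom b = pullback.fst A.obj.hom (pr c A.idx) :=
  pullback.lift_fst _ _ _

theorem bc_hom_ext {X Y : Scheme.{u}} (f : X ⟶ Y) {V : X.Etale} {U : Y.Etale} {p q : V ⟶ (EtCoh.bc f).obj U}
    (h : p.left ≫ pullback.fst U.hom f = q.left ≫ pullback.fst U.hom f) : p = q :=
  MorphismProperty.Over.Hom.ext (pullback.hom_ext h ((Over.w p.hom).trans (Over.w q.hom).symm))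

theorem dMap_natural {A B : Obj (Und W)} (f : A ⟶ B) :
    dMap W c b hb A ≫ (EtCoh.bc b).map ((KF W).map f) = (Phi c).map f ≫ dMap W c b hb B := by
  refine bc_hom_ext b ?_
  refine (Category.assoc _ _ _).trans ((congrArg (_ ≫ ·) (EtCoh.isPullback_bc_map b ((KF W).map f)).w).trans ?_)
  refine ((Category.assoc _ _ _).symm.trans (congrArg (· ≫ f.left) (dMap_fst W c b hb A))).trans ?_
  refine Eq.trans ?_ (Category.assoc _ _ _).symm
  exact (Phi_fst c f).symm.trans (congrArg (_ ≫ ·) (dMap_fst W c b hb B).symm)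

/-- The comparison with the inverse image. -/
noncomputable def etMap (G : EtCoh.Ab Z) : (etSys W G).P ⟶ (Phi c).op ⋙ ((EtCoh.pull b).obj G).obj where
  app A := AddCommGrpCat.ofHom (((((EtCoh.pull b).obj G).obj.map (dMap W c b hb A.unop).op).hom).comp
    (EtCore45.MV.unitSect b G ((KF W).obj A.unop)))
  naturality A B f := ConcreteCategory.hom_ext _ _ fun x => by
    change ((EtCoh.pull b).obj G).obj.map (dMap W c b hb B.unop).op
        (EtCore45.MV.unitSect b G _ (G.obj.map ((KF W).map f.unop).op x)) =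
      ((EtCoh.pull b).obj G).obj.map ((Phi c).map f.unop).op
        (((EtCoh.pull b).obj G).obj.map (dMap W c b hb A.unop).op (EtCore45.MV.unitSect b G _ x))
    rw [EtCore45.MV.unitSect_map]
    refine (gmap_comp _ _ _ _).symm.trans (Eq.trans ?_ (gmap_comp _ _ _ _))
    rw [dMap_natural]

theorem etMap_natural {G G' : EtCoh.Ab Z} (φ : G ⟶ G') (A : Obj (Und W)) (x : (etSys W G).P.obj (op A)) :
    ((EtCoh.pull b).map φ).hom.app (op ((Phi c).obj A)) ((etMap W c b hb G).app (op A) x) =
      (etMap W c b hb G').app (op A) (φ.hom.app (op ((KF W).obj A)) x) := by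
  refine (EtCore45.MV.app_map ((EtCoh.pull b).map φ) (dMap W c b hb A) _).trans ?_
  refine congrArg (((EtCoh.pull b).obj G').obj.map (dMap W c b hb A).op) ?_
  exact (ConcreteCategory.congr_hom (congrArg (fun q => q.hom.app (op ((KF W).obj A)))
    ((EtCoh.pullPushAdj b).unit.naturality φ)) x).symm

theorem stalkLim_etSys [IsDirected ι (· ≤ ·)] [Nonempty ι] (G : EtCoh.Ab Z) :
    StalkLim c (etSys W G) (etMap W c b hb G) := by
  have hgerm : ∀ (K : Type u) [Field K] [IsSepClosed K] (η : Spec (CommRingCat.of K) ⟶ c.pt) (A : Obj (Und W))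
      (t : Pt η ((Phi c).obj A)) (x : (etSys W G).P.obj (op A)),
      germ η ((EtCoh.pull b).obj G) t ((etMap W c b hb G).app (op A) x) =
        theta b η G (germ (η ≫ b) G
          (ptDown b η ((Scheme.pointSmallEtale η).fiber.map (dMap W c b hb A) t)) x) := fun K _ _ η A t x => by
    refine (germ_map η ((EtCoh.pull b).obj G) (dMap W c b hb A) t _).trans ?_
    refine Eq.trans ?_ (theta_germ b η G _ x).symm
    rw [ptUp_ptDown]
    rfl
  refine ⟨fun K _ _ η g => ?_, fun K _ _ η A t x h => ?_⟩
  · obtain ⟨z, rfl⟩ := (theta_bijective b η G).2 g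
    obtain ⟨V, s, x, rfl⟩ := exists_germ_eq (η ≫ b) G z
    let j : ι := Classical.arbitrary ι
    let A : Obj (Und W) := ⟨j, (EtCoh.bc (str W j)).obj V⟩
    let q : (KF W).obj A ⟶ V := MorphismProperty.Over.homMk (pullback.fst V.hom (str W j))
      (pullback.condition : _ ≫ V.hom = pullback.snd V.hom (str W j) ≫ str W j) trivial
    let l : Spec (CommRingCat.of K) ⟶ A.obj.left := pullback.lift (hom (η ≫ b) s) (η ≫ pr c j)
      ((Over.w s).trans ((congrArg (η ≫ ·) (hb j).symm).trans (Category.assoc _ _ _).symm))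
    let tA : Pt (η ≫ pr c j) A.obj := mkPt _ l (pullback.lift_snd _ _ _)
    refine ⟨A, ptUp (pr c j) η tA, G.obj.map q.op x, (hgerm K η A _ _).trans (congrArg (theta b η G) ?_)⟩
    rw [germ_map]
    refine congrArg (fun z => germ (η ≫ b) G z x) (Over.OverMorphism.ext ?_)
    change ((pullback.lift (hom (η ≫ pr c j) tA) η (Over.w tA) ≫ (dMap W c b hb A).left) ≫
      pullback.fst ((KF W).obj A).hom b) ≫ pullback.fst V.hom (str W j) = hom (η ≫ b) s
    refine (congrArg (· ≫ pullback.fst V.hom (str W j)) ((Category.assoc _ _ _).trans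
      (congrArg (_ ≫ ·) (dMap_fst W c b hb A)))).trans ?_
    exact (congrArg (· ≫ pullback.fst V.hom (str W j)) (pullback.lift_fst _ _ _)).trans (pullback.lift_fst _ _ _)
  · let t₀ : Pt (η ≫ b) ((KF W).obj A) :=
      ptDown b η ((Scheme.pointSmallEtale η).fiber.map (dMap W c b hb A) t)
    have h0 : germ (η ≫ b) G t₀ x = 0 :=
      (injective_iff_map_eq_zero _).1 (theta_bijective b η G).1 _ ((hgerm K η A t x).symm.trans h)
    obtain ⟨V, g, s, hs, hx⟩ := (germ_eq_zero_iff (η ≫ b) G t₀ x).1 h0
    have w : g.left ≫ A.obj.hom ≫ str W A.idx = V.hom := Over.w g.hom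
    haveI : Etale (g.left ≫ A.obj.hom) :=
      MorphismProperty.of_postcomp @Etale (W' := @Etale) (g.left ≫ A.obj.hom) (str W A.idx)
        (W.obj (op A.idx)).prop (by rw [Category.assoc, w]; exact V.prop)
    let B : Obj (Und W) := ⟨A.idx, Scheme.Etale.mk (g.left ≫ A.obj.hom)⟩
    let f' : B.obj ⟶ A.obj := MorphismProperty.Over.homMk g.left rfl trivial
    let f : B ⟶ A := (incl A.idx).map f'
    let q : (KF W).obj B ⟶ V := MorphismProperty.Over.homMk (𝟙 V.left)
      ((Category.id_comp _).trans (w.symm.trans (Category.assoc _ _ _).symm)) trivial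
    have hq : q ≫ g = (KF W).map f := MorphismProperty.Over.Hom.ext (Category.id_comp _)
    have e1 : hom (η ≫ b) s ≫ g.left = hom η t ≫ pullback.fst A.obj.hom (pr c A.idx) :=
      (congrArg (hom (η ≫ b)) hs).trans ((Category.assoc _ _ _).trans
        (congrArg (hom η t ≫ ·) (dMap_fst W c b hb A)))
    let tB : Pt (η ≫ pr c A.idx) B.obj := mkPt _ (hom (η ≫ b) s)
      ((Category.assoc _ _ _).symm.trans ((congrArg (· ≫ A.obj.hom) e1).trans ((Category.assoc _ _ _).trans
        ((congrArg (hom η t ≫ ·) pullback.condition).trans ((Category.assoc _ _ _).symm.trans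
          (congrArg (· ≫ pr c A.idx) (Over.w t)))))))
    refine ⟨B, f, ptUp (pr c A.idx) η tB, ?_, ?_⟩
    · rw [show (Phi c).map f = (EtCoh.bc (pr c A.idx)).map f' from Phi_incl c A.idx f']
      refine (ptUp_map (pr c A.idx) η f' tB).symm.trans ?_
      refine Eq.trans ?_ (ptUp_ptDown (pr c A.idx) η t)
      exact congrArg (ptUp (pr c A.idx) η) (Over.OverMorphism.ext e1)
    · change G.obj.map ((KF W).map f).op x = 0
      rw [← hq, gmap_comp, hx, map_zero]

end Groth.Agent.EtLim45
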