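import Groth.Agent.EtLim45.Nbhd

/-!
The system of additive groups.
-/

set_option autoImplicit false
set_option backward.isDefEq.respectTransparency.types false
set_option linter.unusedSectionVars false
universe u

open CategoryTheory CategoryTheory.Limits AlgebraicGeometry Opposite
open Groth.Agent.Unr55.EtSh

namespace Groth.Agent.EtLim45

variable {ι : Type u} [Preorder ι] {Xs : ιᵒᵖ ⥤ Scheme.{u}}

/-- Underlying schemes. -/
def leftFunctor : Obj Xs ⥤ Scheme.{u} where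
  obj A := A.obj.left
  map f := f.left

/-- The system of additive groups. -/
noncomputable def gaSys : Sys Xs where
  P := (leftFunctor (Xs := Xs)).op ⋙ EtCoh.ΓAdd
  isSheaf j := (EtCoh.Ga (St Xs j)).property

/-- On a stage it is the additive group. -/
noncomputable def θGa (j : ι) : (gaSys (Xs := Xs)).F j ≅ EtCoh.Ga (St Xs j) := Iso.refl _

variable (c : Cone Xs)

/-- Pullback of functions to the limit. -/
noncomputable def gaMap : (gaSys (Xs := Xs)).P ⟶ (Phi c).op ⋙ (EtCoh.Ga c.pt).obj where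
  app A := EtCoh.ΓAdd.map
    (pullback.fst A.unop.obj.hom (pr c A.unop.idx) : ((Phi c).obj A.unop).left ⟶ A.unop.obj.left).op
  naturality A B f := by
    change EtCoh.ΓAdd.map f.unop.left.op ≫ EtCoh.ΓAdd.map _ = EtCoh.ΓAdd.map _ ≫ EtCoh.ΓAdd.map ((Phi c).map f.unop).left.op
    exact (EtCoh.ΓAdd.map_comp _ _).symm.trans
      ((congrArg (fun q => EtCoh.ΓAdd.map (Quiver.Hom.op q)) (Phi_fst c f.unop).symm).trans
        (EtCoh.ΓAdd.map_comp _ _))

theorem ΓAdd_map_apply {X Y : Scheme.{u}} (f : X ⟶ Y) (t : Γ(Y, ⊤)) :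
    (EtCoh.ΓAdd.map f.op).hom (ULift.up t) = ULift.up (f.appTop t) := rfl

variable [IsDirected ι (· ≤ ·)] [Nonempty ι]
  [∀ (a b : ιᵒᵖ) (h : a ⟶ b), IsAffineHom (Xs.map h)]
  [∀ a, CompactSpace ↥(Xs.obj a)] [∀ a, QuasiSeparatedSpace ↥(Xs.obj a)] (hc : IsLimit c)

include hc in
theorem exists_stage_function {A : Obj Xs} (hA : QQ A) (s : Γ(((Phi c).obj A).left, ⊤)) :
    ∃ (l : ι) (h : A.idx ≤ l) (t : Γ(((EtCoh.bc (tr Xs h)).obj A.obj).left, ⊤)),
      (pullback.fst ((EtCoh.bc (tr Xs h)).obj A.obj).hom (pr c l) :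
        ((Phi c).obj (⟨l, (EtCoh.bc (tr Xs h)).obj A.obj⟩ : Obj Xs)).left ⟶ _).appTop t =
      ((Phi c).map (proj h A.obj)).left.appTop s := by
  obtain ⟨hA1, hA2⟩ := hA
  let D := LimTop61.bcDiagram Xs A.obj.hom
  let qc := LimTop61.bcCone Xs c A.obj.hom (pullback.fst A.obj.hom (pr c A.idx))
    (pullback.snd A.obj.hom (pr c A.idx)) pullback.condition
  have hlim : IsLimit qc :=
    LimTop61.isLimitBcCone Xs c hc A.obj.hom _ _ (IsPullback.of_hasPullback A.obj.hom (pr c A.idx))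
  have : ∀ k, CompactSpace ↥(D.obj k) := fun k => @LimTop61.bcDiagram_compactSpace _ _ Xs _ _ A.obj.hom _ hA1 k
  have : ∀ k, QuasiSeparatedSpace ↥(D.obj k) :=
    fun k => @LimTop61.bcDiagram_quasiSeparatedSpace _ _ Xs _ _ A.obj.hom _ hA2 k
  obtain ⟨k, t, ht⟩ := exists_appTop_π_eq_of_isLimit D qc hlim s
  let l := k.left.unop
  have h : A.idx ≤ l := leOfHom k.hom.unop
  refine ⟨l, h, t, ?_⟩
  subst ht
  have e : ((Phi c).map (proj h A.obj)).left ≫ qc.π.app k =
      (pullback.fst ((EtCoh.bc (tr Xs h)).obj A.obj).hom (pr c l) :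
        ((Phi c).obj (⟨l, (EtCoh.bc (tr Xs h)).obj A.obj⟩ : Obj Xs)).left ⟶ _) := by
    refine pullback.hom_ext ?_ ?_
    · refine (Category.assoc _ _ _).trans ((congrArg (_ ≫ ·) (pullback.lift_fst _ _ _)).trans ?_)
      exact Phi_fst c (proj h A.obj)
    · refine (Category.assoc _ _ _).trans ((congrArg (_ ≫ ·) (pullback.lift_snd _ _ _)).trans ?_)
      refine ((Category.assoc _ _ _).symm.trans (congrArg (· ≫ c.π.app k.left) (pullback.lift_snd _ _ _))).trans ?_
      exact pullback.condition.symm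
  exact (congrArg (fun q => q.appTop t) e).symm

include hc in
theorem exists_stage_function_zero {A : Obj Xs} (hA : CompactSpace ↥A.obj.left) (y : Γ(A.obj.left, ⊤))
    (hy : (pullback.fst A.obj.hom (pr c A.idx) : ((Phi c).obj A).left ⟶ A.obj.left).appTop y = 0) :
    ∃ (l : ι) (h : A.idx ≤ l), (proj h A.obj).left.appTop y = 0 := by
  let D := LimTop61.bcDiagram Xs A.obj.hom
  let qc := LimTop61.bcCone Xs c A.obj.hom (pullback.fst A.obj.hom (pr c A.idx))
    (pullback.snd A.obj.hom (pr c A.idx)) pullback.condition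
  have hlim : IsLimit qc :=
    LimTop61.isLimitBcCone Xs c hc A.obj.hom _ _ (IsPullback.of_hasPullback A.obj.hom (pr c A.idx))
  have : ∀ k, CompactSpace ↥(D.obj k) := fun k => @LimTop61.bcDiagram_compactSpace _ _ Xs _ _ A.obj.hom _ hA k
  let k₀ : Over (op A.idx) := Over.mk (𝟙 _)
  let p₀ : D.obj k₀ ⟶ A.obj.left := pullback.fst A.obj.hom (Xs.map k₀.hom)
  obtain ⟨k, φ, hk⟩ := exists_appTop_map_eq_zero_of_isLimit D qc hlim (i := k₀) (p₀.appTop y) (by
    rw [← ConcreteCategory.comp_apply, ← Scheme.Hom.comp_appTop]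
    exact (congrArg (fun (q : _ ⟶ A.obj.left) => q.appTop y) (pullback.lift_fst _ _ _)).trans hy)
  let l := k.left.unop
  have h : A.idx ≤ l := leOfHom k.hom.unop
  refine ⟨l, h, ?_⟩
  rw [← ConcreteCategory.comp_apply, ← Scheme.Hom.comp_appTop] at hk
  refine Eq.trans ?_ hk
  exact congrArg (fun (q : _ ⟶ A.obj.left) => q.appTop y) (pullback.lift_fst _ _ _).symm

include hc in
theorem stalkLim_ga : StalkLim c gaSys (gaMap c) := by
  refine ⟨fun K _ _ η g => ?_, fun K _ _ η A t x h => ?_⟩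
  · obtain ⟨W, t, z, rfl⟩ := exists_germ_eq η (EtCoh.Ga c.pt) g
    obtain ⟨A, g, s, hA, hg⟩ := exists_stage_nbhd hc W t
    let z' : Γ(((Phi c).obj A).left, ⊤) := g.left.appTop z.down
    obtain ⟨l, h, y, hy⟩ := exists_stage_function c hc hA z'
    let B : Obj Xs := ⟨l, (EtCoh.bc (tr Xs h)).obj A.obj⟩
    let p := (Phi c).map (proj h A.obj)
    have : IsIso p := isIso_Phi_proj c h A.obj
    refine ⟨B, (Scheme.pointSmallEtale η).fiber.map (inv p) s, ULift.up y, ?_⟩
    have e : (gaMap c).app (op B) (ULift.up y) =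
        (EtCoh.Ga c.pt).obj.map p.op ((EtCoh.Ga c.pt).obj.map g.op z) := congrArg ULift.up hy
    rw [e, germ_map, germ_map, ← ConcreteCategory.comp_apply ((Scheme.pointSmallEtale η).fiber.map (inv p)),
      ← Functor.map_comp, IsIso.inv_hom_id, CategoryTheory.Functor.map_id, ConcreteCategory.id_apply, hg]
  · obtain ⟨W, w, t', hw, hx⟩ := (germ_eq_zero_iff η (EtCoh.Ga c.pt) t _).1 h
    obtain ⟨B, f, g, s, hB, hs, hf⟩ := exists_stage_nbhd_over hc A w t'
    let y := gaSys.P.map f.op x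
    have hy : (gaMap c).app (op B) y = 0 := by
      refine (NatTrans.naturality_apply (gaMap c) f.op x).trans ?_
      change (EtCoh.Ga c.pt).obj.map ((Phi c).map f).op ((gaMap c).app (op A) x) = 0
      rw [← hf, gmap_comp, hx, map_zero]
    obtain ⟨l, h', hl⟩ := exists_stage_function_zero c hc hB.1 y.down (congrArg ULift.down hy)
    let p := (Phi c).map (proj h' B.obj)
    have : IsIso p := isIso_Phi_proj c h' B.obj
    refine ⟨⟨l, (EtCoh.bc (tr Xs h')).obj B.obj⟩, proj h' B.obj ≫ f,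
      (Scheme.pointSmallEtale η).fiber.map (inv p) s, ?_, ?_⟩
    · rw [Functor.map_comp, ← hf, ← ConcreteCategory.comp_apply, ← Functor.map_comp]
      change (Scheme.pointSmallEtale η).fiber.map (inv p ≫ p ≫ g ≫ w) s = t
      rw [IsIso.inv_hom_id_assoc, Functor.map_comp, ConcreteCategory.comp_apply, hs, hw]
    · exact (pmap_comp gaSys _ _ x).trans (congrArg ULift.up hl)

/-- The limit theorem for the additive group. -/
theorem H_limit_ga [∀ ⦃a b : ιᵒᵖ⦄ (h : a ⟶ b), PreservesFiniteLimits (EtCoh.pull (Xs.map h))]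
    [∀ a, PreservesFiniteLimits (EtCoh.pull (c.π.app a))] (hc : IsLimit c) (n : ℕ) :
    (∀ ξ : EtCoh.H c.pt (EtCoh.Ga c.pt) n, ∃ (j : ι) (ξj : EtCoh.H (St Xs j) (EtCoh.Ga (St Xs j)) n),
      EtLim.HGaPull (pr c j) n ξj = ξ) ∧
    (∀ (j : ι) (ξj : EtCoh.H (St Xs j) (EtCoh.Ga (St Xs j)) n), EtLim.HGaPull (pr c j) n ξj = 0 →
      ∃ (k : ι) (hk : j ≤ k), EtLim.HGaPull (tr Xs hk) n ξj = 0) := by
  obtain ⟨H1, H2⟩ := H_limit hc n gaSys (EtCoh.Ga c.pt) (gaMap c) (stalkLim_ga c hc)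
  have wα : ∀ j, (EtCoh.pull (pr c j)).map (EtLim.GaPush (pr c j)) ≫
      (EtCoh.pullPushAdj (pr c j)).counit.app (EtCoh.Ga c.pt) = alphaAt c (S := gaSys) (gaMap c) j ≫ 𝟙 _ := fun j => by
    apply ((EtCoh.pullPushAdj (pr c j)).homEquiv _ _).injective
    rw [Category.comp_id, alphaAt]
    refine Eq.trans ?_ (Equiv.apply_symm_apply ((EtCoh.pullPushAdj (pr c j)).homEquiv
      ((gaSys (Xs := Xs)).F j) (EtCoh.Ga c.pt)) (adjAt c (gaMap c) j)).symm
    refine ((EtCoh.pullPushAdj (pr c j)).homEquiv_naturality_left _ _).trans ?_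
    rw [Adjunction.homEquiv_unit, Adjunction.right_triangle_components, Category.comp_id]
    exact sheaf_hom_ext fun V x => rfl
  have key : ∀ (j : ι) (x : EtCoh.H (St Xs j) ((gaSys (Xs := Xs)).F j) n),
      EtLim.HGaPull (pr c j) n x = Tv (gaMap c) j n x := fun j x =>
    (HpullThen_natural (pr c j) (EtLim.GaPush (pr c j)) (𝟙 _) _ _ (wα j) n x).trans (Abelian.Ext.comp_mk₀_id _)
  refine ⟨fun ξ => ?_, fun j ξj h => ?_⟩
  · obtain ⟨j, x, rfl⟩ := H1 ξ
    exact ⟨j, x, key j x⟩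
  · obtain ⟨k, hk, hk'⟩ := H2 j ξj ((key j ξj).symm.trans h)
    refine ⟨k, hk, ?_⟩
    have wφ : (EtCoh.pull (tr Xs hk)).map (EtLim.GaPush (tr Xs hk)) ≫
        (EtCoh.pullPushAdj (tr Xs hk)).counit.app (EtCoh.Ga (St Xs k)) = (gaSys (Xs := Xs)).phi hk ≫ 𝟙 _ := by
      apply ((EtCoh.pullPushAdj (tr Xs hk)).homEquiv _ _).injective
      rw [Category.comp_id, Sys.phi]
      refine Eq.trans ?_ (Equiv.apply_symm_apply ((EtCoh.pullPushAdj (tr Xs hk)).homEquiv
        ((gaSys (Xs := Xs)).F j) ((gaSys (Xs := Xs)).F k)) ((gaSys (Xs := Xs)).trans hk)).symm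
      refine ((EtCoh.pullPushAdj (tr Xs hk)).homEquiv_naturality_left _ _).trans ?_
      rw [Adjunction.homEquiv_unit, Adjunction.right_triangle_components, Category.comp_id]
      exact sheaf_hom_ext fun V x => rfl
    exact ((HpullThen_natural (tr Xs hk) (EtLim.GaPush (tr Xs hk)) (𝟙 _) _ _ wφ n ξj).trans
      (Abelian.Ext.comp_mk₀_id _)).trans hk'

end Groth.Agent.EtLim45
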