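import Groth.Agent.EtLim45.Acyclic
import Groth.Agent.EtLim45.Then

/-!
The limit theorem for étale cohomology with coefficients in a system of sheaves.
-/

set_option autoImplicit false
set_option backward.isDefEq.respectTransparency.types false
set_option linter.unusedSectionVars false
universe u

open CategoryTheory CategoryTheory.Limits CategoryTheory.Abelian AlgebraicGeometry Opposite
open Groth.Agent.Unr55.EtSh

namespace Groth.Agent.EtLim45

variable {ι : Type u} [Preorder ι] {Xs : ιᵒᵖ ⥤ Scheme.{u}}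
  [∀ ⦃a b : ιᵒᵖ⦄ (h : a ⟶ b), PreservesFiniteLimits (EtCoh.pull (Xs.map h))]

/-- The transition map on cohomology. -/
noncomputable abbrev Tt (S : Sys Xs) {j k : ι} (h : j ≤ k) (n : ℕ) :
    EtCoh.H (St Xs j) (S.F j) n →+ EtCoh.H (St Xs k) (S.F k) n :=
  EtLim.HpullThen (tr Xs h) (S.F j) (S.phi h) n

theorem Tt_zero (S : Sys Xs) {j k : ι} (h : j ≤ k) (x : EtCoh.H (St Xs j) (S.F j) 0) :
    sect0 (Tt S h 0 x) = (S.F k).obj.map (EtCore.bcTopIso (tr Xs h)).inv.op
      (S.P.map (proj h (EtCoh.top (St Xs j))).op (sect0 x)) :=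
  sect0_HpullThen (tr Xs h) (S.trans h) x

theorem Tt_natural {S T : Sys Xs} (i : S.P ⟶ T.P) {j k : ι} (h : j ≤ k) (n : ℕ) (x : EtCoh.H (St Xs j) (S.F j) n) :
    Tt T h n (x.comp (Ext.mk₀ (compAt i j)) (add_zero n)) =
      (Tt S h n x).comp (Ext.mk₀ (compAt i k)) (add_zero n) :=
  HpullThen_natural (tr Xs h) (compAt i j) (compAt i k) (S.phi h) (T.phi h) (phi_natural i h) n x

theorem Tt_extClass {S J Q : Sys Xs} (i : S.P ⟶ J.P) (p : J.P ⟶ Q.P)
    (hS : ∀ j, ∃ w, (ShortComplex.mk (compAt i j) (compAt p j) w).ShortExact) {j k : ι} (h : j ≤ k)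
    {n m : ℕ} (hm : n + 1 = m) (x : EtCoh.H (St Xs j) (Q.F j) n) :
    Tt S h m (x.comp (hS j).choose_spec.extClass hm) = (Tt Q h n x).comp (hS k).choose_spec.extClass hm :=
  HpullThen_extClass (tr Xs h) (hS j).choose_spec (hS k).choose_spec
    { τ₁ := S.phi h
      τ₂ := J.phi h
      τ₃ := Q.phi h
      comm₁₂ := (phi_natural i h).symm
      comm₂₃ := (phi_natural p h).symm } hm x

theorem exists_extClass_preimage {X : Scheme.{u}} {T : ShortComplex (EtCoh.Ab X)} (hT : T.ShortExact) {n : ℕ}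
    (hJ : Subsingleton (EtCoh.H X T.X₂ (n + 1))) (x : EtCoh.H X T.X₁ (n + 1)) :
    ∃ y : EtCoh.H X T.X₃ n, y.comp hT.extClass rfl = x :=
  Ext.covariant_sequence_exact₁ _ hT x (hJ.elim _ _) rfl

theorem subsingleton_H_injective {X : Scheme.{u}} (F : EtCoh.Ab X) [Injective F] (n : ℕ) :
    Subsingleton (EtCoh.H X F (n + 1)) :=
  Ext.subsingleton_of_injective _ F n

theorem pmap4 (S : Sys Xs) {A B C D E : Obj Xs} (f : A ⟶ B) (g : B ⟶ C) (h : C ⟶ D) (i : D ⟶ E)
    (x : S.P.obj (op E)) :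
    S.P.map f.op (S.P.map g.op (S.P.map h.op (S.P.map i.op x))) = S.P.map ((f ≫ g ≫ h) ≫ i).op x := by
  rw [← pmap_comp, ← pmap_comp, ← pmap_comp]
  simp only [Category.assoc]

theorem gmap2 {X : Scheme.{u}} (G : EtCoh.Ab X) {U V W : X.Etale} (f : U ⟶ V) (g : V ⟶ W) (z : EtCoh.sect G W) :
    G.obj.map f.op (G.obj.map g.op z) = G.obj.map (f ≫ g).op z := (gmap_comp G f g z).symm

theorem top_map_congr {X : Scheme.{u}} (G : EtCoh.Ab X) {U : X.Etale} (p q : EtCoh.top X ⟶ U)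
    (e : U ≅ EtCoh.top X) (z : EtCoh.sect G U) : G.obj.map p.op z = G.obj.map q.op z := by
  rw [show p = q from (cancel_mono e.hom).1 ((EtCore.topIsTerminal X).hom_ext _ _)]

section Comp

variable [IsDirected ι (· ≤ ·)] [Nonempty ι]

/-- Transition maps compose. -/
theorem Tt_Tt : ∀ (n : ℕ) (S : Sys Xs) {j k l : ι} (h : j ≤ k) (h' : k ≤ l) (x : EtCoh.H (St Xs j) (S.F j) n),
    Tt S h' n (Tt S h n x) = Tt S (h.trans h') n x
  | 0, S, j, k, l, h, h', x => by
    apply (sect0_bijective _).1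
    rw [Tt_zero, Tt_zero, Tt_zero]
    let Tj := EtCoh.top (St Xs j)
    let e : (⟨l, EtCoh.top (St Xs l)⟩ : Obj Xs) ⟶ ⟨k, (EtCoh.bc (tr Xs h)).obj Tj⟩ :=
      (incl l).map (EtCore.bcTopIso (tr Xs h')).inv ≫ proj h' (EtCoh.top (St Xs k)) ≫
        (incl k).map (EtCore.bcTopIso (tr Xs h)).inv
    have he : e ≫ proj h Tj = (incl l).map (EtCore.bcTopIso (tr Xs (h.trans h'))).inv ≫ proj (h.trans h') Tj := by
      let f : (⟨l, EtCoh.top (St Xs l)⟩ : Obj Xs) ⟶ ⟨j, Tj⟩ := e ≫ proj h Tj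
      let g : (⟨l, EtCoh.top (St Xs l)⟩ : Obj Xs) ⟶ ⟨j, Tj⟩ :=
        (incl l).map (EtCore.bcTopIso (tr Xs (h.trans h'))).inv ≫ proj (h.trans h') Tj
      exact hom_ext ((Category.comp_id f.left).symm.trans (f.w.trans (g.w.symm.trans (Category.comp_id g.left))))
    change S.P.map ((incl l).map (EtCore.bcTopIso (tr Xs h')).inv).op (S.P.map (proj h' (EtCoh.top (St Xs k))).op
        (S.P.map ((incl k).map (EtCore.bcTopIso (tr Xs h)).inv).op (S.P.map (proj h Tj).op (sect0 x)))) =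
      S.P.map ((incl l).map (EtCore.bcTopIso (tr Xs (h.trans h'))).inv).op
        (S.P.map (proj (h.trans h') Tj).op (sect0 x))
    exact (pmap4 S _ _ _ (proj h Tj) (sect0 x)).trans
      ((congrArg (fun r : _ ⟶ _ => S.P.map r.op (sect0 x)) he).trans (pmap_comp S _ _ _))
  | n + 1, S, j, k, l, h, h', x => by
    obtain ⟨J, i, hJ, hi⟩ := exists_injective_system S
    have hS := shortExact_stage i hi
    obtain ⟨y, rfl⟩ := exists_extClass_preimage (hS j).choose_spec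
      (haveI := hJ j; subsingleton_H_injective (J.F j) n) x
    rw [Tt_extClass i (qProj i) hS, Tt_extClass i (qProj i) hS, Tt_extClass i (qProj i) hS, Tt_Tt n (qSys i) h h' y]

end Comp

section Main

variable {c : Cone Xs} [∀ a, PreservesFiniteLimits (EtCoh.pull (c.π.app a))]

/-- The map to the limit. -/
noncomputable abbrev Tv {S : Sys Xs} {G : EtCoh.Ab c.pt} (a : S.P ⟶ (Phi c).op ⋙ G.obj) (j : ι) (n : ℕ) :
    EtCoh.H (St Xs j) (S.F j) n →+ EtCoh.H c.pt G n :=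
  EtLim.HpullThen (pr c j) (S.F j) (alphaAt c a j) n

theorem Tv_zero {S : Sys Xs} {G : EtCoh.Ab c.pt} (a : S.P ⟶ (Phi c).op ⋙ G.obj) (j : ι)
    (x : EtCoh.H (St Xs j) (S.F j) 0) :
    sect0 (Tv a j 0 x) = G.obj.map (EtCore.bcTopIso (pr c j)).inv.op (al a ⟨j, EtCoh.top (St Xs j)⟩ (sect0 x)) :=
  sect0_HpullThen (pr c j) (adjAt c a j) x

theorem Tv_natural {S T : Sys Xs} {G G' : EtCoh.Ab c.pt} (a : S.P ⟶ (Phi c).op ⋙ G.obj)
    (b : T.P ⟶ (Phi c).op ⋙ G'.obj) (i : S.P ⟶ T.P) (g : G ⟶ G')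
    (w : ∀ A x, g.hom.app (op ((Phi c).obj A)) (a.app (op A) x) = b.app (op A) (i.app (op A) x)) (j : ι) (n : ℕ)
    (x : EtCoh.H (St Xs j) (S.F j) n) :
    Tv b j n (x.comp (Ext.mk₀ (compAt i j)) (add_zero n)) = (Tv a j n x).comp (Ext.mk₀ g) (add_zero n) :=
  HpullThen_natural (pr c j) (compAt i j) g (alphaAt c a j) (alphaAt c b j)
    (alphaAt_natural c (NatTrans.ext (funext fun A => ConcreteCategory.hom_ext _ _ fun x => (w A.unop x).symm)) j) n x

theorem Tv_extClass {S J Q : Sys Xs} {G GJ GQ : EtCoh.Ab c.pt} (a : S.P ⟶ (Phi c).op ⋙ G.obj)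
    (b : J.P ⟶ (Phi c).op ⋙ GJ.obj) (d : Q.P ⟶ (Phi c).op ⋙ GQ.obj) (i : S.P ⟶ J.P) (p : J.P ⟶ Q.P)
    (g : G ⟶ GJ) (q : GJ ⟶ GQ) {w0 : g ≫ q = 0} (hV : (ShortComplex.mk g q w0).ShortExact)
    (w : ∀ A x, g.hom.app (op ((Phi c).obj A)) (a.app (op A) x) = b.app (op A) (i.app (op A) x))
    (w' : ∀ A x, q.hom.app (op ((Phi c).obj A)) (b.app (op A) x) = d.app (op A) (p.app (op A) x))
    (hS : ∀ j, ∃ z, (ShortComplex.mk (compAt i j) (compAt p j) z).ShortExact) (j : ι)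
    {n m : ℕ} (hm : n + 1 = m) (x : EtCoh.H (St Xs j) (Q.F j) n) :
    Tv a j m (x.comp (hS j).choose_spec.extClass hm) = (Tv d j n x).comp hV.extClass hm :=
  HpullThen_extClass (pr c j) (hS j).choose_spec hV
    { τ₁ := alphaAt c a j
      τ₂ := alphaAt c b j
      τ₃ := alphaAt c d j
      comm₁₂ := (alphaAt_natural c (NatTrans.ext (funext fun A => ConcreteCategory.hom_ext _ _ fun x => (w A.unop x).symm)) j).symm
      comm₂₃ := (alphaAt_natural c (NatTrans.ext (funext fun A => ConcreteCategory.hom_ext _ _ fun x => (w' A.unop x).symm)) j).symm }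
    hm x

variable [IsDirected ι (· ≤ ·)] [Nonempty ι]

/-- Pulling back to the limit is compatible with the transition maps. -/
theorem Tv_Tt : ∀ (n : ℕ) (S : Sys Xs) (G : EtCoh.Ab c.pt) (a : S.P ⟶ (Phi c).op ⋙ G.obj) (_ : StalkLim c S a)
    {j k : ι} (h : j ≤ k) (x : EtCoh.H (St Xs j) (S.F j) n), Tv a k n (Tt S h n x) = Tv a j n x
  | 0, S, G, a, _, j, k, h, x => by
    apply (sect0_bijective _).1
    rw [Tv_zero, Tv_zero, Tt_zero]
    let Tj := EtCoh.top (St Xs j)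
    change G.obj.map (EtCore.bcTopIso (pr c k)).inv.op
      (al a _ (S.P.map ((incl k).map (EtCore.bcTopIso (tr Xs h)).inv).op (S.P.map (proj h Tj).op (sect0 x)))) = _
    refine (congrArg (G.obj.map (EtCore.bcTopIso (pr c k)).inv.op)
      ((al_map (a := a) ((incl k).map (EtCore.bcTopIso (tr Xs h)).inv) (S.P.map (proj h Tj).op (sect0 x))).trans
        (congrArg (G.obj.map ((Phi c).map ((incl k).map (EtCore.bcTopIso (tr Xs h)).inv)).op)
          (al_map (a := a) (proj h Tj) (sect0 x))))).trans ?_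
    refine (congrArg (G.obj.map _) (gmap2 G _ _ _)).trans ((gmap2 G _ _ _).trans ?_)
    exact top_map_congr G _ _ (EtCore.bcTopIso (pr c j)) _
  | n + 1, S, G, a, ha, j, k, h, x => by
    obtain ⟨J, i, hJ, hi⟩ := exists_injective_system S
    have hS := shortExact_stage i hi
    obtain ⟨GQ, g, q, w0, aQ, hV, haQ, hg, hq⟩ := exists_vertex_ses c ha i hi
    obtain ⟨y, rfl⟩ := exists_extClass_preimage (hS j).choose_spec
      (haveI := hJ j; subsingleton_H_injective (J.F j) n) x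
    rw [Tt_extClass i (qProj i) hS, Tv_extClass a (colimMap c J) aQ i (qProj i) g q hV hg hq hS,
      Tv_extClass a (colimMap c J) aQ i (qProj i) g q hV hg hq hS, Tv_Tt n (qSys i) GQ aQ haQ h y]

variable [∀ (a b : ιᵒᵖ) (h : a ⟶ b), IsAffineHom (Xs.map h)]
  [∀ a, CompactSpace ↥(Xs.obj a)] [∀ a, QuasiSeparatedSpace ↥(Xs.obj a)] (hc : IsLimit c)

include hc in
/-- The limit theorem. -/
theorem H_limit : ∀ (n : ℕ) (S : Sys Xs) (G : EtCoh.Ab c.pt) (a : S.P ⟶ (Phi c).op ⋙ G.obj) (_ : StalkLim c S a),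
    (∀ ξ : EtCoh.H c.pt G n, ∃ (j : ι) (x : EtCoh.H (St Xs j) (S.F j) n), Tv a j n x = ξ) ∧
      (∀ (j : ι) (x : EtCoh.H (St Xs j) (S.F j) n), Tv a j n x = 0 → ∃ (k : ι) (h : j ≤ k), Tt S h n x = 0)
  | 0, S, G, a, ha => by
    refine ⟨fun ξ => ?_, fun j x hx => ?_⟩
    · let j₀ := Classical.arbitrary ι
      let A : Obj Xs := ⟨j₀, EtCoh.top (St Xs j₀)⟩
      obtain ⟨m, -, hA, x, hx⟩ := exists_stage_section hc ha (QQ.top j₀)
        (G.obj.map (EtCore.bcTopIso (pr c j₀)).hom.op (sect0 ξ)) j₀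
      obtain ⟨y, hy⟩ := (sect0_bijective (S.F m)).2 (S.P.map ((incl m).map (EtCore.bcTopIso (tr Xs hA)).inv).op x)
      refine ⟨m, y, (sect0_bijective _).1 ?_⟩
      rw [Tv_zero, hy]
      refine (congrArg (G.obj.map (EtCore.bcTopIso (pr c m)).inv.op)
        ((al_map (a := a) ((incl m).map (EtCore.bcTopIso (tr Xs hA)).inv) x).trans
          (congrArg (G.obj.map ((Phi c).map ((incl m).map (EtCore.bcTopIso (tr Xs hA)).inv)).op)
            (hx.trans (gmap2 G _ _ _))))).trans ?_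
      refine (congrArg (G.obj.map _) (gmap2 G _ _ _)).trans ((gmap2 G _ _ _).trans ?_)
      exact gmap_id G _ ((EtCore.topIsTerminal _).hom_ext _ _) _
    · have h0 : al a ⟨j, EtCoh.top (St Xs j)⟩ (sect0 x) = 0 := by
        refine (ConcreteCategory.bijective_of_isIso (G.obj.map (EtCore.bcTopIso (pr c j)).inv.op)).1 ?_
        refine ((Tv_zero a j x).symm.trans ((congrArg sect0 hx).trans sect0_zero)).trans (map_zero _).symm
      obtain ⟨k, -, h, hk⟩ := exists_stage_zero hc ha (QQ.top (Xs := Xs) j).1 (sect0 x) h0 j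
      refine ⟨k, h, (sect0_bijective _).1 ?_⟩
      rw [Tt_zero, sect0_zero]
      exact (congrArg ((S.F k).obj.map _) hk).trans (map_zero _)
  | n + 1, S, G, a, ha => by
    obtain ⟨J, i, hJ, hi⟩ := exists_injective_system S
    have hS := shortExact_stage i hi
    obtain ⟨GQ, g, q, w0, aQ, hV, haQ, hg, hq⟩ := exists_vertex_ses c ha i hi
    have hδ := fun j => Tv_extClass a (colimMap c J) aQ i (qProj i) g q hV hg hq hS j (n := n) (m := n + 1) rfl
    refine ⟨fun ξ => ?_, fun j x hx => ?_⟩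
    · obtain ⟨η, rfl⟩ := exists_extClass_preimage hV (subsingleton_H_colimObj hc J hJ n) ξ
      obtain ⟨j, y, rfl⟩ := (H_limit n (qSys i) GQ aQ haQ).1 η
      exact ⟨j, _, hδ j y⟩
    · obtain ⟨y, rfl⟩ := exists_extClass_preimage (hS j).choose_spec
        (haveI := hJ j; subsingleton_H_injective (J.F j) n) x
      rw [hδ] at hx
      obtain ⟨z, hz⟩ := Ext.covariant_sequence_exact₃ _ hV (Tv aQ j n y) rfl hx
      obtain ⟨j₁, w, rfl⟩ := (H_limit n J _ (colimMap c J) (stalkLim_colim c J)).1 z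
      obtain ⟨k, hjk, hk⟩ := directed_of (· ≤ ·) j j₁
      let pw' := (Tt J hk n w).comp (Ext.mk₀ (compAt (qProj i) k)) (add_zero n)
      have e : Tv aQ k n (Tt (qSys i) hjk n y - pw') = 0 := by
        rw [map_sub, sub_eq_zero, Tv_Tt n (qSys i) GQ aQ haQ,
          Tv_natural (colimMap c J) aQ (qProj i) q hq k n, Tv_Tt n J _ _ (stalkLim_colim c J)]
        exact hz.symm
      obtain ⟨l, hkl, hl⟩ := (H_limit n (qSys i) GQ aQ haQ).2 k _ e
      refine ⟨l, hjk.trans hkl, ?_⟩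
      rw [map_sub, sub_eq_zero, Tt_Tt n (qSys i) hjk hkl y, Tt_natural (qProj i) hkl n] at hl
      rw [Tt_extClass i (qProj i) hS, hl, Ext.comp_assoc_of_second_deg_zero]
      refine (congrArg (fun z => Ext.comp (Tt J hkl n (Tt J hk n w)) z rfl)
        (hS l).choose_spec.comp_extClass).trans ?_
      exact Ext.comp_zero _ _ _ _ _

end Main

end Groth.Agent.EtLim45
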