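import Groth.Agent.EtLim45.Main

/-!
Étale neighbourhoods on the limit are refined by neighbourhoods coming from stages.
-/

set_option autoImplicit false
set_option backward.isDefEq.respectTransparency.types false
universe u

open CategoryTheory CategoryTheory.Limits AlgebraicGeometry Opposite
open Groth.Agent.Unr55.EtSh

namespace Groth.Agent.EtLim45

theorem exists_affine_nbhd {X : Scheme.{u}} {K : Type u} [Field K] [IsSepClosed K]
    (η : Spec (CommRingCat.of K) ⟶ X) (W : X.Etale) (t : Pt η W) :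
    ∃ (W' : X.Etale) (g : W' ⟶ W) (t' : Pt η W'), IsAffine W'.left ∧
      (Scheme.pointSmallEtale η).fiber.map g t' = t := by
  obtain ⟨O, hO, hxO, -⟩ := exists_isAffineOpen_mem_and_subset (x := hom η t default) (U := ⊤) trivial
  have : Etale W.hom := W.prop
  let W' : X.Etale := Scheme.Etale.mk (O.ι ≫ W.hom)
  have hr : Set.range (hom η t) ⊆ Set.range O.ι := by
    rintro _ ⟨a, rfl⟩
    rw [Scheme.Opens.range_ι, Subsingleton.elim a default]
    exact hxO
  let l := IsOpenImmersion.lift O.ι (hom η t) hr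
  refine ⟨W', MorphismProperty.Over.homMk O.ι rfl, mkPt η (U := W') l ?_, hO, ?_⟩
  · exact (Category.assoc _ _ _).symm.trans ((congrArg (· ≫ W.hom) (IsOpenImmersion.lift_fac O.ι (hom η t) hr)).trans (Over.w t))
  · exact Over.OverMorphism.ext (IsOpenImmersion.lift_fac O.ι (hom η t) hr)

variable {ι : Type u} [Preorder ι] [IsDirected ι (· ≤ ·)] [Nonempty ι] {Xs : ιᵒᵖ ⥤ Scheme.{u}} {c : Cone Xs}
  [∀ (a b : ιᵒᵖ) (h : a ⟶ b), IsAffineHom (Xs.map h)]
  [∀ a, CompactSpace ↥(Xs.obj a)] [∀ a, QuasiSeparatedSpace ↥(Xs.obj a)] (hc : IsLimit c)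
  {K : Type u} [Field K] [IsSepClosed K] {η : Spec (CommRingCat.of K) ⟶ c.pt}

include hc in
theorem exists_stage_nbhd (W : c.pt.Etale) (t : Pt η W) :
    ∃ (A : Obj Xs) (g : (Phi c).obj A ⟶ W) (s : Pt η ((Phi c).obj A)), QQ A ∧
      (Scheme.pointSmallEtale η).fiber.map g s = t := by
  obtain ⟨W', g, t', hW', hg⟩ := exists_affine_nbhd η W t
  obtain ⟨A, -, hA, ⟨e⟩⟩ := exists_stage_obj hc W' (Classical.arbitrary ι)
  refine ⟨A, e.hom ≫ g, (Scheme.pointSmallEtale η).fiber.map e.inv t', hA, ?_⟩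
  rw [← ConcreteCategory.comp_apply, ← Functor.map_comp, e.inv_hom_id_assoc, hg]

include hc in
theorem exists_stage_nbhd_over (A : Obj Xs) {W : c.pt.Etale} (w : W ⟶ (Phi c).obj A) (t : Pt η W) :
    ∃ (B : Obj Xs) (f : B ⟶ A) (g : (Phi c).obj B ⟶ W) (s : Pt η ((Phi c).obj B)), QQ B ∧
      (Scheme.pointSmallEtale η).fiber.map g s = t ∧ g ≫ w = (Phi c).map f := by
  obtain ⟨B, g, s, hB, hg⟩ := exists_stage_nbhd hc W t
  obtain ⟨B', p, f, hB', hp, hf⟩ := exists_stage_hom hc hB (g ≫ w)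
  refine ⟨B', f, (Phi c).map p ≫ g, (Scheme.pointSmallEtale η).fiber.map (inv ((Phi c).map p)) s, hB', ?_,
    (Category.assoc _ _ _).trans hf.symm⟩
  rw [← ConcreteCategory.comp_apply, ← Functor.map_comp, IsIso.inv_hom_id_assoc, hg]

end Groth.Agent.EtLim45
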