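import Groth.Agent.EtLim45.Quot
import Groth.Agent.EtCore45.MVSect
import Groth.Prelude.Def_EtLim

/-!
The composition isomorphisms of inverse images on sections.
-/

set_option autoImplicit false
set_option backward.isDefEq.respectTransparency.types false
universe u

open CategoryTheory CategoryTheory.Limits AlgebraicGeometry Opposite
open Groth.Agent.EtCore45.MV

namespace Groth.Agent.EtLim45

/-- The composition isomorphism on sections, with the base change map made explicit. -/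
theorem pullComp_unit {W U X : Scheme.{u}} (f : W ⟶ U) (j : U ⟶ X) {h : W ⟶ X} (w : f ≫ j = h) (A : EtCoh.Ab X)
    (V : X.Etale) (a : EtCoh.sect A V) (d : (EtCoh.bc f).obj ((EtCoh.bc j).obj V) ⟶ (EtCoh.bc h).obj V)
    (hd : d.left ≫ pullback.fst V.hom h = pullback.fst ((EtCoh.bc j).obj V).hom f ≫ pullback.fst V.hom j) :
    (((EtCore.pullComp f j).symm ≪≫ EtCore.pullCongr w).app A).hom.hom.app _
        (unitSect f _ _ (unitSect j A V a)) =
      ((EtCoh.pull h).obj A).obj.map d.op (unitSect h A V a) := by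
  subst w
  let adj2 := ((EtCoh.pullPushAdj j).comp (EtCoh.pullPushAdj f)).ofNatIsoRight (EtCoh.pushComp j f)
  have h1 := Adjunction.unit_leftAdjointUniq_hom_app (EtCoh.pullPushAdj (f ≫ j)) adj2 A
  let i : (EtCoh.bc (f ≫ j)).obj V ≅ (EtCoh.bc f).obj ((EtCoh.bc j).obj V) :=
    (MorphismProperty.Over.pullbackComp (P := EtCoh.etaleMP) (Q := ⊤) f j).app V
  let e := (EtCore.pullComp f j).app A
  let PP := (EtCoh.pull f).obj ((EtCoh.pull j).obj A)
  have hi : d = i.inv := by
    rw [← Iso.hom_comp_eq_id i]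
    refine MorphismProperty.Over.Hom.ext (pullback.hom_ext ?_ ?_)
    · refine (Category.assoc _ _ _).trans ((congrArg (i.hom.left ≫ ·) hd).trans ?_)
      exact (MorphismProperty.Over.pullbackComp_left_fst_fst f j V).trans (Category.id_comp _).symm
    · exact (Over.w (i.hom ≫ d).hom).trans (Category.id_comp _).symm
  subst hi
  have h2 : e.hom.hom.app _ (unitSect (f ≫ j) A V a) =
      PP.obj.map i.hom.op (unitSect f _ _ (unitSect j A V a)) :=
    (ConcreteCategory.congr_hom (congrArg (fun k => k.hom.app (op V)) h1) a : _)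
  have h3 : unitSect f _ _ (unitSect j A V a) =
      e.hom.hom.app _ (((EtCoh.pull (f ≫ j)).obj A).obj.map i.inv.op (unitSect (f ≫ j) A V a)) := by
    exact ((app_map e.hom i.inv _).trans ((congrArg _ h2).trans
      ((map_map PP _ _ _).trans (map_endo PP _ i.inv_hom_id _)))).symm
  rw [h3]
  change (e.inv ≫ 𝟙 _).hom.app _ (e.hom.hom.app _ _) = _
  rw [Category.comp_id]
  exact iso_app_inv e _ _

variable {ι : Type u} [Preorder ι] {Xs : ιᵒᵖ ⥤ Scheme.{u}}

theorem pullTrans_inv_unit {i j k : ι} (hij : i ≤ j) (hjk : j ≤ k) (A : EtCoh.Ab (St Xs i)) (V : (St Xs i).Etale)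
    (a : EtCoh.sect A V)
    (d : (EtCoh.bc (tr Xs hjk)).obj ((EtCoh.bc (tr Xs hij)).obj V) ⟶ (EtCoh.bc (tr Xs (hij.trans hjk))).obj V)
    (hd : d.left ≫ pullback.fst V.hom (tr Xs (hij.trans hjk)) =
      pullback.fst ((EtCoh.bc (tr Xs hij)).obj V).hom (tr Xs hjk) ≫ pullback.fst V.hom (tr Xs hij)) :
    ((EtLim.pullTrans Xs hij hjk).inv.app A).hom.app _ (unitSect (tr Xs hjk) _ _ (unitSect (tr Xs hij) A V a)) =
      ((EtCoh.pull (tr Xs (hij.trans hjk))).obj A).obj.map d.op (unitSect (tr Xs (hij.trans hjk)) A V a) :=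
  pullComp_unit (tr Xs hjk) (tr Xs hij) (tr_trans Xs hij hjk) A V a d hd

theorem pullTransCone_inv_unit (c : Cone Xs) {i j : ι} (hij : i ≤ j) (A : EtCoh.Ab (St Xs i))
    (V : (St Xs i).Etale) (a : EtCoh.sect A V) :
    ((EtLim.pullTransCone Xs c hij).inv.app A).hom.app _ (unitSect (pr c j) _ _ (unitSect (tr Xs hij) A V a)) =
      ((EtCoh.pull (pr c i)).obj A).obj.map ((Phi c).map (proj hij V)).op (unitSect (pr c i) A V a) :=
  pullComp_unit (pr c j) (tr Xs hij) (pr_tr c hij) A V a _ (Phi_fst c (proj hij V))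

/-- One step against two steps. -/
noncomputable def psiInv {i j k : ι} (hij : i ≤ j) (hjk : j ≤ k) (V : (St Xs i).Etale) :
    (EtCoh.bc (tr Xs hjk)).obj ((EtCoh.bc (tr Xs hij)).obj V) ⟶ (EtCoh.bc (tr Xs (hij.trans hjk))).obj V :=
  toBc (proj hjk ((EtCoh.bc (tr Xs hij)).obj V) ≫ proj hij V)

theorem psiInv_fst {i j k : ι} (hij : i ≤ j) (hjk : j ≤ k) (V : (St Xs i).Etale) :
    (psiInv hij hjk V).left ≫ pullback.fst V.hom (tr Xs (hij.trans hjk)) =
      pullback.fst ((EtCoh.bc (tr Xs hij)).obj V).hom (tr Xs hjk) ≫ pullback.fst V.hom (tr Xs hij) :=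
  pullback.lift_fst _ _ _

end Groth.Agent.EtLim45
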