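import Groth.Agent.EtLim45.Main
import Groth.Agent.EtLim45.PullTrans

/-!
Systems of sheaves from transition morphisms satisfying the cocycle condition.
-/

set_option autoImplicit false
set_option backward.isDefEq.respectTransparency.types false
set_option linter.unusedSectionVars false
universe u

open CategoryTheory CategoryTheory.Limits AlgebraicGeometry Opposite
open Groth.Agent.EtCore45.MV
open Groth.Agent.Unr55.EtSh (stalk_map_germ germ Pt)

namespace Groth.Agent.EtLim45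

variable {ι : Type u} [Preorder ι] {Xs : ιᵒᵖ ⥤ Scheme.{u}}

/-- Sheaves on the stages with transition morphisms. -/
structure TrData (Xs : ιᵒᵖ ⥤ Scheme.{u}) where
  /-- the sheaves -/
  F : ∀ i : ι, EtCoh.Ab (St Xs i)
  /-- the transition morphisms -/
  φ : ∀ ⦃i j : ι⦄ (h : i ≤ j), (EtCoh.pull (tr Xs h)).obj (F i) ⟶ F j
  cocycle : ∀ ⦃i j k : ι⦄ (hij : i ≤ j) (hjk : j ≤ k),
    φ (hij.trans hjk) = (EtLim.pullTrans Xs hij hjk).hom.app (F i) ≫
      (EtCoh.pull (tr Xs hjk)).map (φ hij) ≫ φ hjk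

namespace TrData

variable (D : TrData Xs) [∀ ⦃a b : ιᵒᵖ⦄ (h : a ⟶ b), PreservesFiniteLimits (EtCoh.pull (Xs.map h))]

/-- The transposed transition morphism. -/
noncomputable def τ {i j : ι} (h : i ≤ j) : D.F i ⟶ (EtCoh.push (tr Xs h)).obj (D.F j) :=
  (EtCoh.pullPushAdj (tr Xs h)).homEquiv _ _ (D.φ h)

theorem φ_unit {i j : ι} (h : i ≤ j) (V : (St Xs i).Etale) (x : EtCoh.sect (D.F i) V) :
    (D.φ h).hom.app (op ((EtCoh.bc (tr Xs h)).obj V)) (unitSect (tr Xs h) (D.F i) V x) =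
      (D.τ h).hom.app (op V) x := by
  have e := adj_unitSect (tr Xs h) (D.τ h) V x
  rwa [show ((EtCoh.pullPushAdj (tr Xs h)).homEquiv _ _).symm (D.τ h) = D.φ h from Equiv.symm_apply_apply _ _] at e

theorem τ_τ {i j k : ι} (hij : i ≤ j) (hjk : j ≤ k) (V : (St Xs i).Etale) (x : EtCoh.sect (D.F i) V) :
    (D.τ hjk).hom.app (op ((EtCoh.bc (tr Xs hij)).obj V)) ((D.τ hij).hom.app (op V) x) =
      (D.F k).obj.map (psiInv hij hjk V).op ((D.τ (hij.trans hjk)).hom.app (op V) x) := by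
  let T := (EtLim.pullTrans Xs hij hjk)
  have e : T.inv.app (D.F i) ≫ D.φ (hij.trans hjk) = (EtCoh.pull (tr Xs hjk)).map (D.φ hij) ≫ D.φ hjk := by
    rw [D.cocycle hij hjk]
    exact Iso.inv_hom_id_app_assoc T (D.F i) _
  let z := unitSect (tr Xs hjk) _ _ (unitSect (tr Xs hij) (D.F i) V x)
  have e1 := ConcreteCategory.congr_hom (congrArg (fun k => k.hom.app (op _)) e) z
  have e2 : ((EtCoh.pull (tr Xs hjk)).map (D.φ hij)).hom.app _ z =
      unitSect (tr Xs hjk) _ _ ((D.φ hij).hom.app _ (unitSect (tr Xs hij) (D.F i) V x)) :=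
    (ConcreteCategory.congr_hom (congrArg (fun k => k.hom.app (op ((EtCoh.bc (tr Xs hij)).obj V)))
      ((EtCoh.pullPushAdj (tr Xs hjk)).unit.naturality (D.φ hij))) _).symm
  change (D.φ (hij.trans hjk)).hom.app _ ((T.inv.app (D.F i)).hom.app _ z) =
    (D.φ hjk).hom.app _ (((EtCoh.pull (tr Xs hjk)).map (D.φ hij)).hom.app _ z) at e1
  rw [e2, φ_unit, φ_unit] at e1
  refine e1.symm.trans ?_
  refine (congrArg ((D.φ (hij.trans hjk)).hom.app _)
    (pullTrans_inv_unit hij hjk (D.F i) V x (psiInv hij hjk V) (psiInv_fst hij hjk V))).trans ?_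
  exact (app_map (D.φ (hij.trans hjk)) _ _).trans (congrArg _ (D.φ_unit (hij.trans hjk) V x))

/-- Transport of a section along a morphism of the fibred site. -/
noncomputable def mapτ {A B : Obj Xs} (f : A ⟶ B) :
    EtCoh.sect (D.F B.idx) B.obj →+ EtCoh.sect (D.F A.idx) A.obj :=
  ((D.F A.idx).obj.map (toBc f).op).hom.comp ((D.τ f.hle).hom.app (op B.obj)).hom

theorem mapτ_comp {A B C : Obj Xs} (f : A ⟶ B) (g : B ⟶ C) (x : EtCoh.sect (D.F C.idx) C.obj) :
    D.mapτ (f ≫ g) x = D.mapτ f (D.mapτ g x) := by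
  symm
  change (D.F A.idx).obj.map (toBc f).op ((D.τ f.hle).hom.app (op B.obj)
    ((D.F B.idx).obj.map (toBc g).op ((D.τ g.hle).hom.app (op C.obj) x))) = _
  refine (congrArg ((D.F A.idx).obj.map (toBc f).op) ((app_map (D.τ f.hle) (toBc g) _).trans
    (congrArg ((D.F A.idx).obj.map ((EtCoh.bc (tr Xs f.hle)).map (toBc g)).op) (D.τ_τ g.hle f.hle C.obj x)))).trans ?_
  refine (gmap_comp (D.F A.idx) _ _ _).symm.trans ((gmap_comp (D.F A.idx) _ _ _).symm.trans ?_)
  refine congrArg (fun q : A.obj ⟶ _ => (D.F A.idx).obj.map q.op ((D.τ (g.hle.trans f.hle)).hom.app (op C.obj) x))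
    (toBc_eq (f ≫ g) _ ?_)
  refine (Category.assoc _ _ _).trans ((congrArg (_ ≫ ·) (psiInv_fst g.hle f.hle C.obj)).trans ?_)
  refine (Category.assoc _ _ _).trans ((congrArg ((toBc f).left ≫ ·) ((Category.assoc _ _ _).symm.trans
    ((congrArg (· ≫ pullback.fst C.obj.hom (tr Xs g.hle))
      (EtCoh.isPullback_bc_map (tr Xs f.hle) (toBc g)).w).trans ((Category.assoc _ _ _).trans
        (congrArg (_ ≫ ·) (pullback.lift_fst _ _ _)))))).trans ?_)
  exact (Category.assoc _ _ _).symm.trans (congrArg (· ≫ g.left) (pullback.lift_fst _ _ _))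

/-- The idempotent of a stage. -/
noncomputable def idem (j : ι) : D.F j ⟶ D.F j :=
  ⟨{ app := fun V => AddCommGrpCat.ofHom (D.mapτ (𝟙 (⟨j, V.unop⟩ : Obj Xs)))
     naturality := fun U V g => ConcreteCategory.hom_ext _ _ fun x => by
      change (D.F j).obj.map (toBc (𝟙 (⟨j, V.unop⟩ : Obj Xs))).op
          ((D.τ (le_refl j)).hom.app V ((D.F j).obj.map g x)) =
        (D.F j).obj.map g ((D.F j).obj.map (toBc (𝟙 (⟨j, U.unop⟩ : Obj Xs))).op
          ((D.τ (le_refl j)).hom.app U x))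
      refine (congrArg ((D.F j).obj.map _) (NatTrans.naturality_apply (D.τ (le_refl j)).hom g x)).trans ?_
      refine (gmap_comp (D.F j) _ ((EtCoh.bc (tr Xs (le_refl j))).map g.unop) _).symm.trans
        (Eq.trans ?_ (gmap_comp (D.F j) g.unop _ _))
      refine congrArg (fun q : V.unop ⟶ _ => (D.F j).obj.map q.op ((D.τ le_rfl).hom.app U x)) ?_
      let f : (⟨j, V.unop⟩ : Obj Xs) ⟶ ⟨j, U.unop⟩ := (incl j).map g.unop
      refine (toBc_eq f _ ?_).trans (toBc_eq f _ ?_).symm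
      · refine (Category.assoc _ _ _).trans ((congrArg (_ ≫ ·) (EtCoh.isPullback_bc_map _ g.unop).w).trans ?_)
        exact (Category.assoc _ _ _).symm.trans ((congrArg (· ≫ g.unop.left) (pullback.lift_fst _ _ _)).trans
          (Category.id_comp _))
      · exact (Category.assoc _ _ _).trans ((congrArg (_ ≫ ·) (pullback.lift_fst _ _ _)).trans (Category.comp_id _)) }⟩

theorem idem_mapτ {A B : Obj Xs} (f : A ⟶ B) (x : EtCoh.sect (D.F B.idx) B.obj) :
    (D.idem A.idx).hom.app (op A.obj) (D.mapτ f x) = D.mapτ f x :=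
  (D.mapτ_comp (𝟙 A) f x).symm.trans (congrArg (fun q => D.mapτ q x) (Category.id_comp f))

theorem mapτ_idem {A B : Obj Xs} (f : A ⟶ B) (x : EtCoh.sect (D.F B.idx) B.obj) :
    D.mapτ f ((D.idem B.idx).hom.app (op B.obj) x) = D.mapτ f x :=
  (D.mapτ_comp f (𝟙 B) x).symm.trans (congrArg (fun q => D.mapτ q x) (Category.comp_id f))

theorem idem_idem (j : ι) : D.idem j ≫ D.idem j = D.idem j :=
  sheaf_hom_ext fun V x => D.idem_mapτ (𝟙 (⟨j, V⟩ : Obj Xs)) x

theorem mapτ_incl (j : ι) {U V : (St Xs j).Etale} (g : U ⟶ V) (x : EtCoh.sect (D.F j) V) :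
    D.mapτ ((incl j).map g) x = (D.F j).obj.map g.op ((D.idem j).hom.app (op V) x) := by
  have h : toBc ((incl j).map g) = g ≫ toBc (𝟙 (⟨j, V⟩ : Obj Xs)) := (toBc_eq ((incl j).map g) _
    ((Category.assoc _ _ _).trans ((congrArg (_ ≫ ·) (pullback.lift_fst _ _ _)).trans (Category.comp_id _)))).symm
  change (D.F j).obj.map (toBc ((incl j).map g)).op ((D.τ le_rfl).hom.app (op V) x) = _
  rw [h]
  exact gmap_comp (D.F j) g _ _

theorem mapτ_proj {j k : ι} (h : j ≤ k) (V : (St Xs j).Etale) (x : EtCoh.sect (D.F j) V) :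
    D.mapτ (proj h V) x = (D.τ h).hom.app (op V) x := by
  refine (congrArg (fun q : (EtCoh.bc (tr Xs h)).obj V ⟶ _ => (D.F k).obj.map q.op ((D.τ h).hom.app (op V) x))
    ((toBc_eq (proj h V) (𝟙 _) (Category.id_comp _)).symm)).trans ?_
  exact gmap_id (D.F k) _ rfl _

theorem exists_split (j : ι) :
    ∃ (E : EtCoh.Ab (St Xs j)) (s : E ⟶ D.F j) (r : D.F j ⟶ E), s ≫ r = 𝟙 E ∧ r ≫ s = D.idem j :=
  IsIdempotentComplete.idempotents_split (D.F j) (D.idem j) (D.idem_idem j)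

/-- The summand of a stage fixed by the idempotent. -/
noncomputable def E (j : ι) : EtCoh.Ab (St Xs j) := (D.exists_split j).choose
/-- Its inclusion. -/
noncomputable def sE (j : ι) : D.E j ⟶ D.F j := (D.exists_split j).choose_spec.choose
/-- Its projection. -/
noncomputable def rE (j : ι) : D.F j ⟶ D.E j := (D.exists_split j).choose_spec.choose_spec.choose

theorem sE_rE (j : ι) : D.sE j ≫ D.rE j = 𝟙 _ := (D.exists_split j).choose_spec.choose_spec.choose_spec.1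
theorem rE_sE (j : ι) : D.rE j ≫ D.sE j = D.idem j := (D.exists_split j).choose_spec.choose_spec.choose_spec.2

theorem rE_sE_apply (A : Obj Xs) (x : EtCoh.sect (D.F A.idx) A.obj) :
    (D.sE A.idx).hom.app (op A.obj) ((D.rE A.idx).hom.app (op A.obj) x) = (D.idem A.idx).hom.app (op A.obj) x :=
  ConcreteCategory.congr_hom (congrArg (fun k : D.F A.idx ⟶ D.F A.idx => k.hom.app (op A.obj)) (D.rE_sE A.idx)) x

theorem sE_rE_apply (A : Obj Xs) (x : EtCoh.sect (D.E A.idx) A.obj) :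
    (D.rE A.idx).hom.app (op A.obj) ((D.sE A.idx).hom.app (op A.obj) x) = x :=
  ConcreteCategory.congr_hom (congrArg (fun k : D.E A.idx ⟶ D.E A.idx => k.hom.app (op A.obj)) (D.sE_rE A.idx)) x

theorem idem_sE (A : Obj Xs) (x : EtCoh.sect (D.E A.idx) A.obj) :
    (D.idem A.idx).hom.app (op A.obj) ((D.sE A.idx).hom.app (op A.obj) x) = (D.sE A.idx).hom.app (op A.obj) x :=
  (D.rE_sE_apply A _).symm.trans (congrArg _ (D.sE_rE_apply A x))

/-- The restriction maps of the system. -/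
noncomputable def mapE {A B : Obj Xs} (f : A ⟶ B) :
    EtCoh.sect (D.E B.idx) B.obj →+ EtCoh.sect (D.E A.idx) A.obj :=
  ((D.rE A.idx).hom.app (op A.obj)).hom.comp ((D.mapτ f).comp ((D.sE B.idx).hom.app (op B.obj)).hom)

theorem sE_mapE {A B : Obj Xs} (f : A ⟶ B) (x : EtCoh.sect (D.E B.idx) B.obj) :
    (D.sE A.idx).hom.app (op A.obj) (D.mapE f x) = D.mapτ f ((D.sE B.idx).hom.app (op B.obj) x) :=
  (D.rE_sE_apply A _).trans (D.idem_mapτ f _)

theorem mapE_id (A : Obj Xs) (x : EtCoh.sect (D.E A.idx) A.obj) : D.mapE (𝟙 A) x = x :=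
  (congrArg ((D.rE A.idx).hom.app (op A.obj)) (D.idem_sE A x)).trans (D.sE_rE_apply A x)

theorem mapE_comp {A B C : Obj Xs} (f : A ⟶ B) (g : B ⟶ C) (x : EtCoh.sect (D.E C.idx) C.obj) :
    D.mapE (f ≫ g) x = D.mapE f (D.mapE g x) :=
  congrArg ((D.rE A.idx).hom.app (op A.obj))
    ((D.mapτ_comp f g _).trans (congrArg (D.mapτ f) (D.sE_mapE g x).symm))

/-- The presheaf of the system. -/
noncomputable def PE : (Obj Xs)ᵒᵖ ⥤ AddCommGrpCat.{u + 1} where
  obj A := (D.E A.unop.idx).obj.obj (op A.unop.obj)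
  map f := AddCommGrpCat.ofHom (D.mapE f.unop)
  map_id A := ConcreteCategory.hom_ext _ _ fun x => D.mapE_id A.unop x
  map_comp f g := ConcreteCategory.hom_ext _ _ fun x => D.mapE_comp g.unop f.unop x

theorem mapE_incl (j : ι) {U V : (St Xs j).Etale} (g : U ⟶ V) (x : EtCoh.sect (D.E j) V) :
    D.mapE ((incl j).map g) x = (D.E j).obj.map g.op x := by
  refine (congrArg ((D.rE j).hom.app (op U)) ((D.mapτ_incl j g _).trans
    (congrArg ((D.F j).obj.map g.op) (D.idem_sE ⟨j, V⟩ x)))).trans ?_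
  exact (app_map (D.rE j) g _).trans (congrArg _ (D.sE_rE_apply ⟨j, V⟩ x))

/-- On a stage the presheaf is the summand. -/
noncomputable def isoE (j : ι) : (D.E j).obj ≅ (incl j).op ⋙ D.PE :=
  NatIso.ofComponents (fun _ => Iso.refl _)
    (fun {U V} g => ConcreteCategory.hom_ext _ _ fun x => (D.mapE_incl j g.unop x).symm)

/-- The system. -/
noncomputable def sys : Sys Xs where
  P := D.PE
  isSheaf j := (Presheaf.isSheaf_of_iso_iff (D.isoE j)).1 (D.E j).property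

/-- The inclusion into the given sheaf. -/
noncomputable def σ (j : ι) : D.sys.F j ⟶ D.F j :=
  ⟨(D.isoE j).inv ≫ (D.sE j).hom⟩

/-- The projection from the given sheaf. -/
noncomputable def ρ (j : ι) : D.F j ⟶ D.sys.F j :=
  ⟨(D.rE j).hom ≫ (D.isoE j).hom⟩

theorem σ_ρ (j : ι) : D.σ j ≫ D.ρ j = 𝟙 _ := sheaf_hom_ext fun V x => D.sE_rE_apply ⟨j, V⟩ x

theorem ρ_σ (j : ι) : D.ρ j ≫ D.σ j = D.idem j := sheaf_hom_ext fun V x => D.rE_sE_apply ⟨j, V⟩ x

theorem σ_trans {j k : ι} (h : j ≤ k) :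
    D.sys.trans h ≫ (EtCoh.push (tr Xs h)).map (D.σ k) = D.σ j ≫ D.τ h :=
  sheaf_hom_ext fun V x => (D.sE_mapE (proj h V) x).trans (D.mapτ_proj h V _)

theorem idem_τ {j k : ι} (h : j ≤ k) : D.idem j ≫ D.τ h = D.τ h := sheaf_hom_ext fun V x =>
  (D.mapτ_proj h V _).symm.trans ((D.mapτ_idem (proj h V) x).trans (D.mapτ_proj h V x))

theorem σ_φ {j k : ι} (h : j ≤ k) :
    (EtCoh.pull (tr Xs h)).map (D.σ j) ≫ D.φ h = D.sys.phi h ≫ D.σ k := by
  apply ((EtCoh.pullPushAdj (tr Xs h)).homEquiv _ _).injective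
  rw [Adjunction.homEquiv_naturality_left, Adjunction.homEquiv_naturality_right, Sys.phi, Equiv.apply_symm_apply]
  exact (D.σ_trans h).symm

theorem idem_φ {j k : ι} (h : j ≤ k) : (EtCoh.pull (tr Xs h)).map (D.idem j) ≫ D.φ h = D.φ h := by
  apply ((EtCoh.pullPushAdj (tr Xs h)).homEquiv _ _).injective
  rw [Adjunction.homEquiv_naturality_left]
  exact D.idem_τ h

section Vertex

variable {c : Cone Xs} (G : ι ⥤ EtCoh.Ab c.pt)
  (ψ : ∀ i : ι, (EtCoh.pull (pr c i)).obj (D.F i) ≅ G.obj i)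
  (hψ : ∀ ⦃i j : ι⦄ (hij : i ≤ j), (ψ i).hom ≫ G.map (homOfLE hij) =
    (EtLim.pullTransCone Xs c hij).hom.app (D.F i) ≫ (EtCoh.pull (pr c j)).map (D.φ hij) ≫ (ψ j).hom)

include hψ in
theorem G_map_unit {j k : ι} (h : j ≤ k) (V : (St Xs j).Etale) (x : EtCoh.sect (D.F j) V) :
    (G.map (homOfLE h)).hom.app (op ((Phi c).obj ⟨j, V⟩))
        ((ψ j).hom.hom.app (op ((Phi c).obj ⟨j, V⟩)) (unitSect (pr c j) (D.F j) V x)) =
      (G.obj k).obj.map (PhiInv c h V).op
        ((ψ k).hom.hom.app _ (unitSect (pr c k) (D.F k) _ ((D.τ h).hom.app (op V) x))) := by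
  let T := EtLim.pullTransCone Xs c h
  have e : T.inv.app (D.F j) ≫ (ψ j).hom ≫ G.map (homOfLE h) =
      (EtCoh.pull (pr c k)).map (D.φ h) ≫ (ψ k).hom := by
    rw [hψ h]
    exact Iso.inv_hom_id_app_assoc T (D.F j) _
  let z := unitSect (pr c k) _ _ (unitSect (tr Xs h) (D.F j) V x)
  have e1 := ConcreteCategory.congr_hom (congrArg (fun q => q.hom.app (op _)) e) z
  have e2 : ((EtCoh.pull (pr c k)).map (D.φ h)).hom.app _ z =
      unitSect (pr c k) _ _ ((D.φ h).hom.app _ (unitSect (tr Xs h) (D.F j) V x)) :=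
    (ConcreteCategory.congr_hom (congrArg (fun q => q.hom.app (op ((EtCoh.bc (tr Xs h)).obj V)))
      ((EtCoh.pullPushAdj (pr c k)).unit.naturality (D.φ h))) _).symm
  change (G.map (homOfLE h)).hom.app _ ((ψ j).hom.hom.app _ ((T.inv.app (D.F j)).hom.app _ z)) =
    (ψ k).hom.hom.app _ (((EtCoh.pull (pr c k)).map (D.φ h)).hom.app _ z) at e1
  rw [e2, φ_unit] at e1
  refine Eq.trans ?_ (congrArg ((G.obj k).obj.map (PhiInv c h V).op) e1)
  refine Eq.trans ?_ (congrArg (fun q => (G.obj k).obj.map (PhiInv c h V).op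
    ((G.map (homOfLE h)).hom.app _ ((ψ j).hom.hom.app _ q))) (pullTransCone_inv_unit c h (D.F j) V x)).symm
  refine Eq.trans ?_ (congrArg ((G.obj k).obj.map (PhiInv c h V).op)
    ((congrArg ((G.map (homOfLE h)).hom.app _) (app_map (ψ j).hom ((Phi c).map (proj h V)) _)).trans
      (app_map (G.map (homOfLE h)) ((Phi c).map (proj h V)) _))).symm
  exact ((gmap_comp (G.obj k) _ _ _).symm.trans (gmap_id (G.obj k) _ (PhiInv_proj c h V) _)).symm

include hψ in
theorem pull_idem (j : ι) : (EtCoh.pull (pr c j)).map (D.idem j) = 𝟙 _ := by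
  rw [← cancel_mono (ψ j).hom, Category.id_comp]
  apply ((EtCoh.pullPushAdj (pr c j)).homEquiv _ _).injective
  rw [Adjunction.homEquiv_naturality_left, Adjunction.homEquiv_unit]
  refine sheaf_hom_ext fun V x => ?_
  have e := D.G_map_unit G ψ hψ (le_refl j) V x
  rw [show G.map (homOfLE (le_refl j)) = 𝟙 _ from G.map_id j] at e
  change (ψ j).hom.hom.app _ (unitSect (pr c j) (D.F j) V
      ((D.F j).obj.map (toBc (𝟙 (⟨j, V⟩ : Obj Xs))).op ((D.τ le_rfl).hom.app (op V) x))) =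
    (ψ j).hom.hom.app _ (unitSect (pr c j) (D.F j) V x)
  refine Eq.trans ?_ e.symm
  refine (congrArg ((ψ j).hom.hom.app _) (unitSect_map (pr c j) (D.F j) _ _)).trans
    ((app_map (ψ j).hom ((EtCoh.bc (pr c j)).map (toBc (𝟙 (⟨j, V⟩ : Obj Xs)))) _).trans ?_)
  refine congrArg (fun q : (Phi c).obj ⟨j, V⟩ ⟶ _ => (G.obj j).obj.map q.op _) ?_
  have := isIso_Phi_proj c (le_refl j) V
  refine (cancel_mono ((Phi c).map (proj (le_refl j) V))).1 ?_
  refine (congrArg (· ≫ _) (Phi_incl c j (toBc (𝟙 (⟨j, V⟩ : Obj Xs))))).symm.trans ?_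
  exact ((Phi c).map_comp _ _).symm.trans ((congrArg (Phi c).map (factor (𝟙 (⟨j, V⟩ : Obj Xs)))).trans
    (((Phi c).map_id _).trans (PhiInv_proj c _ _).symm))

include hψ in
theorem isIso_pull_σ (j : ι) : IsIso ((EtCoh.pull (pr c j)).map (D.σ j)) :=
  ⟨(EtCoh.pull (pr c j)).map (D.ρ j), by rw [← Functor.map_comp, σ_ρ, CategoryTheory.Functor.map_id],
    by rw [← Functor.map_comp, ρ_σ, D.pull_idem G ψ hψ j]⟩

include hψ in
theorem exists_colim_iso :
    ∃ e : colimObj c D.sys ≅ colimit G, ∀ j, colimit.ι (diag c D.sys) j ≫ e.hom =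
      (EtCoh.pull (pr c j)).map (D.σ j) ≫ (ψ j).hom ≫ colimit.ι G j := by
  have := D.isIso_pull_σ G ψ hψ
  let θ : diag c D.sys ≅ G :=
    NatIso.ofComponents (fun j => @asIso _ _ _ _ ((EtCoh.pull (pr c j)).map (D.σ j)) (this j) ≪≫ ψ j) fun {j k} g => by
      refine hom_ext_un c D.sys fun V x => ?_
      change (ψ k).hom.hom.app _ (((EtCoh.pull (pr c k)).map (D.σ k)).hom.app _
          ((Dmap c D.sys (leOfHom g)).hom.app _ (un c D.sys ⟨j, V⟩ x))) =
        (G.map g).hom.app _ ((ψ j).hom.hom.app _ (((EtCoh.pull (pr c j)).map (D.σ j)).hom.app _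
          (un c D.sys ⟨j, V⟩ x)))
      have hu : ∀ (i : ι) (W : (St Xs i).Etale) (z : EtCoh.sect (D.sys.F i) W),
          ((EtCoh.pull (pr c i)).map (D.σ i)).hom.app _ (unitSect (pr c i) (D.sys.F i) W z) =
            unitSect (pr c i) (D.F i) W ((D.σ i).hom.app (op W) z) := fun i W z =>
        (ConcreteCategory.congr_hom (congrArg (fun q => q.hom.app (op W))
          ((EtCoh.pullPushAdj (pr c i)).unit.naturality (D.σ i))) z).symm
      rw [Dmap_un]
      refine Eq.trans ?_ (congrArg (fun q => (G.map g).hom.app _ ((ψ j).hom.hom.app _ q)) (hu j V x)).symm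
      refine Eq.trans ?_ (D.G_map_unit G ψ hψ (leOfHom g) V _).symm
      refine (congrArg ((ψ k).hom.hom.app _) (app_map ((EtCoh.pull (pr c k)).map (D.σ k)) _ _)).trans ?_
      refine (app_map (ψ k).hom _ _).trans ?_
      refine congrArg (fun q => (G.obj k).obj.map (PhiInv c (leOfHom g) V).op ((ψ k).hom.hom.app _ q)) ?_
      refine (hu k _ _).trans (congrArg _ ?_)
      exact (D.sE_mapE (proj (leOfHom g) V) x).trans (D.mapτ_proj (leOfHom g) V _)
  refine ⟨HasColimit.isoOfNatIso θ, fun j => ?_⟩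
  exact (HasColimit.isoOfNatIso_ι_hom θ j).trans (by simp [θ, asIso_hom]; rfl)

include hψ in
/-- The limit theorem for transition data. -/
theorem H_limit_ofTr [IsDirected ι (· ≤ ·)] [Nonempty ι] [∀ a, PreservesFiniteLimits (EtCoh.pull (c.π.app a))]
    [∀ (a b : ιᵒᵖ) (h : a ⟶ b), IsAffineHom (Xs.map h)]
    [∀ a, CompactSpace ↥(Xs.obj a)] [∀ a, QuasiSeparatedSpace ↥(Xs.obj a)] (hc : IsLimit c) (n : ℕ) :
    (∀ ξ : EtCoh.H c.pt (colimit G) n, ∃ (j : ι) (ξj : EtCoh.H (St Xs j) (D.F j) n),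
        EtLim.HpullThen (pr c j) (D.F j) ((ψ j).hom ≫ colimit.ι G j) n ξj = ξ) ∧
    (∀ (j : ι) (ξj : EtCoh.H (St Xs j) (D.F j) n),
      EtLim.HpullThen (pr c j) (D.F j) ((ψ j).hom ≫ colimit.ι G j) n ξj = 0 →
        ∃ (k : ι) (hk : j ≤ k), EtLim.HpullThen (tr Xs hk) (D.F j) (D.φ hk) n ξj = 0) := by
  obtain ⟨e, he⟩ := D.exists_colim_iso G ψ hψ
  let a : D.sys.P ⟶ (Phi c).op ⋙ (colimit G).obj :=
    colimMap c D.sys ≫ Functor.whiskerLeft (Phi c).op e.hom.hom
  have ha : StalkLim c D.sys a := by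
    have h0 := stalkLim_colim c D.sys
    refine ⟨fun K _ _ η g => ?_, fun K _ _ η A t x h => ?_⟩
    · obtain ⟨A, t, x, hx⟩ := h0.surj K η ((EtCoh.stalk η).map e.inv g)
      refine ⟨A, t, x, ?_⟩
      have h1 := congrArg ((EtCoh.stalk η).map e.hom) hx
      rw [stalk_map_germ] at h1
      exact h1.trans (ConcreteCategory.congr_hom ((EtCoh.stalk η).mapIso e).inv_hom_id g)
    · refine h0.inj K η A t x ?_
      have h1 := congrArg ((EtCoh.stalk η).map e.inv) h
      rw [stalk_map_germ, map_zero] at h1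
      refine Eq.trans (congrArg (germ η _ t) ?_) h1
      exact (iso_app_inv e _ _).symm
  have hα : ∀ j, alphaAt c a j = (EtCoh.pull (pr c j)).map (D.σ j) ≫ (ψ j).hom ≫ colimit.ι G j := fun j => by
    rw [← he j, ← alphaAt_colimMap c D.sys j]
    refine hom_ext_un c D.sys fun V x => ?_
    exact (alphaAt_un c D.sys a ⟨j, V⟩ x).trans
      (congrArg (e.hom.hom.app _) (alphaAt_un c D.sys (colimMap c D.sys) ⟨j, V⟩ x).symm)
  obtain ⟨H1, H2⟩ := H_limit hc n D.sys (colimit G) a ha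
  refine ⟨fun ξ => ?_, fun j x hx => ?_⟩
  · obtain ⟨j, y, rfl⟩ := H1 ξ
    refine ⟨j, y.comp (Abelian.Ext.mk₀ (D.σ j)) (add_zero n), ?_⟩
    exact (HpullThen_natural (pr c j) (D.σ j) (𝟙 _) (alphaAt c a j) _
      ((hα j).symm.trans (Category.comp_id _).symm) n y).trans (Abelian.Ext.comp_mk₀_id _)
  · have h0 : Tv a j n (x.comp (Abelian.Ext.mk₀ (D.ρ j)) (add_zero n)) = 0 := by
      refine (HpullThen_natural (pr c j) (D.ρ j) (𝟙 _) ((ψ j).hom ≫ colimit.ι G j) (alphaAt c a j) ?_ n x).trans ?_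
      · rw [hα, ← Category.assoc, ← Functor.map_comp, ρ_σ, D.pull_idem G ψ hψ j, Category.id_comp, Category.comp_id]
      · rw [hx, Abelian.Ext.zero_comp]
    obtain ⟨k, hk, hk'⟩ := H2 j _ h0
    refine ⟨k, hk, ?_⟩
    have e1 := HpullThen_natural (tr Xs hk) (D.σ j) (D.σ k) (D.sys.phi hk) (D.φ hk) (D.σ_φ hk) n
      (x.comp (Abelian.Ext.mk₀ (D.ρ j)) (add_zero n))
    rw [show EtLim.HpullThen (tr Xs hk) (D.sys.F j) (D.sys.phi hk) n _ = 0 from hk', Abelian.Ext.zero_comp,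
      Abelian.Ext.comp_assoc_of_second_deg_zero, Abelian.Ext.mk₀_comp_mk₀, ρ_σ] at e1
    refine Eq.trans ?_ e1
    exact ((HpullThen_natural (tr Xs hk) (D.idem j) (𝟙 _) (D.φ hk) (D.φ hk)
      ((D.idem_φ hk).trans (Category.comp_id _).symm) n x).trans (Abelian.Ext.comp_mk₀_id _)).symm

end Vertex

end TrData

end Groth.Agent.EtLim45
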