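import Groth.Agent.EtLim45.Nbhd

/-!
The system of direct images of a sheaf on the limit.
-/

set_option autoImplicit false
set_option backward.isDefEq.respectTransparency.types false
set_option linter.unusedSectionVars false
universe u

open CategoryTheory CategoryTheory.Limits AlgebraicGeometry Opposite
open Groth.Agent.Unr55.EtSh

namespace Groth.Agent.EtLim45

variable {ι : Type u} [Preorder ι] {Xs : ιᵒᵖ ⥤ Scheme.{u}} (c : Cone Xs) (F : EtCoh.Ab c.pt)

/-- On a stage, the presheaf is the direct image. -/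
noncomputable def pushIsoP (j : ι) : (incl j).op ⋙ (Phi c).op ⋙ F.obj ≅ ((EtCoh.push (pr c j)).obj F).obj :=
  NatIso.ofComponents (fun _ => Iso.refl _) fun {U V} g => by
    refine (Category.comp_id _).trans (Eq.trans ?_ (Category.id_comp _).symm)
    exact congrArg (fun q => F.obj.map q.op) (Phi_incl c j g.unop)

/-- The system of direct images. -/
noncomputable def pushSys : Sys Xs where
  P := (Phi c).op ⋙ F.obj
  isSheaf j := (Presheaf.isSheaf_of_iso_iff (pushIsoP c F j)).2 ((EtCoh.push (pr c j)).obj F).property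

/-- The direct image is the sheaf of the system. -/
noncomputable def θ (j : ι) : (pushSys c F).F j ≅ (EtCoh.push (pr c j)).obj F :=
  (fullyFaithfulSheafToPresheaf _ _).preimageIso (pushIsoP c F j)

theorem stalkLim_push [IsDirected ι (· ≤ ·)] [Nonempty ι]
    [∀ (a b : ιᵒᵖ) (h : a ⟶ b), IsAffineHom (Xs.map h)]
    [∀ a, CompactSpace ↥(Xs.obj a)] [∀ a, QuasiSeparatedSpace ↥(Xs.obj a)] (hc : IsLimit c) :
    StalkLim c (pushSys c F) (G := F) (𝟙 _) := by
  refine ⟨fun K _ _ η g => ?_, fun K _ _ η A t x h => ?_⟩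
  · obtain ⟨W, t, x, rfl⟩ := exists_germ_eq η F g
    obtain ⟨A, g, s, -, hg⟩ := exists_stage_nbhd hc W t
    refine ⟨A, s, F.obj.map g.op x, ?_⟩
    exact (germ_map η F g s x).trans (by rw [hg])
  · obtain ⟨W, w, t', hw, hx⟩ := (germ_eq_zero_iff η F t x).1 h
    obtain ⟨B, f, g, s, -, hs, hf⟩ := exists_stage_nbhd_over hc A w t'
    refine ⟨B, f, s, ?_, ?_⟩
    · rw [← hf, Functor.map_comp, ConcreteCategory.comp_apply, hs, hw]
    · change F.obj.map ((Phi c).map f).op x = 0
      rw [← hf, gmap_comp, hx, map_zero]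

theorem alphaAt_push (j : ι) :
    alphaAt c (S := pushSys c F) (G := F) (𝟙 _) j =
      (EtCoh.pull (pr c j)).map (θ c F j).hom ≫ (EtCoh.pullPushAdj (pr c j)).counit.app F := by
  apply ((EtCoh.pullPushAdj (pr c j)).homEquiv _ _).injective
  rw [Adjunction.homEquiv_naturality_left, alphaAt, Equiv.apply_symm_apply, Adjunction.homEquiv_unit,
    Adjunction.right_triangle_components, Category.comp_id]
  exact sheaf_hom_ext fun V x => rfl

/-- The transition map between direct images. -/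
noncomputable abbrev pushTr {j k : ι} (h : j ≤ k) :
    (EtCoh.push (pr c j)).obj F ⟶ (EtCoh.push (tr Xs h)).obj ((EtCoh.push (pr c k)).obj F) :=
  ((EtCoh.pushCongr (pr_tr c h).symm).app F).hom ≫ (EtCoh.pushComp (tr Xs h) (pr c k)).inv.app F

theorem pushTr_apply {j k : ι} (h : j ≤ k) (V : (St Xs j).Etale) :
    ∃ d : (EtCoh.bc (pr c k)).obj ((EtCoh.bc (tr Xs h)).obj V) ⟶ (EtCoh.bc (pr c j)).obj V,
      d.left ≫ pullback.fst V.hom (pr c j) =
        pullback.fst ((EtCoh.bc (tr Xs h)).obj V).hom (pr c k) ≫ pullback.fst V.hom (tr Xs h) ∧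
      ∀ x, (pushTr c F h).hom.app (op V) x = F.obj.map d.op x := by
  let i1 := (MorphismProperty.Over.pullbackCongr (P := EtCoh.etaleMP) (Q := ⊤) (pr_tr c h).symm).app V
  let i2 := (MorphismProperty.Over.pullbackComp (P := EtCoh.etaleMP) (Q := ⊤) (pr c k) (tr Xs h)).app V
  refine ⟨i2.inv ≫ i1.inv, ?_, fun x => ?_⟩
  · have key : (i1.hom ≫ i2.hom).left ≫ pullback.fst ((EtCoh.bc (tr Xs h)).obj V).hom (pr c k) ≫
        pullback.fst V.hom (tr Xs h) = pullback.fst V.hom (pr c j) :=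
      (Category.assoc _ _ _).trans ((congrArg (i1.hom.left ≫ ·)
        (MorphismProperty.Over.pullbackComp_left_fst_fst (pr c k) (tr Xs h) V)).trans
        (MorphismProperty.Over.pullbackCongr_hom_app_left_fst (pr_tr c h).symm V))
    refine (congrArg ((i2.inv ≫ i1.inv).left ≫ ·) key).symm.trans ?_
    refine (Category.assoc _ _ _).symm.trans ?_
    refine (congrArg (· ≫ _) (congrArg (fun q => q.left)
      (show (i2.inv ≫ i1.inv) ≫ i1.hom ≫ i2.hom = 𝟙 _ by simp))).trans (Category.id_comp _)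
  · change ((EtCoh.pushComp (tr Xs h) (pr c k)).inv.app F).hom.app (op V)
      (((EtCoh.pushCongr (pr_tr c h).symm).app F).hom.hom.app (op V) x) = _
    rw [op_comp, F.obj.map_comp]
    rfl

theorem trans_push {j k : ι} (h : j ≤ k) :
    (θ c F j).hom ≫ pushTr c F h =
      (pushSys c F).trans h ≫ (EtCoh.push (tr Xs h)).map (θ c F k).hom := by
  refine sheaf_hom_ext fun V x => ?_
  obtain ⟨d, hd, hd'⟩ := pushTr_apply c F h V
  refine (hd' x).trans ?_
  change F.obj.map d.op x = F.obj.map ((Phi c).map (proj h V)).op x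
  refine congrArg (fun q : (Phi c).obj ⟨k, (EtCoh.bc (tr Xs h)).obj V⟩ ⟶ (Phi c).obj ⟨j, V⟩ => F.obj.map q.op x)
    (MorphismProperty.Over.Hom.ext (pullback.hom_ext ?_ ?_))
  · exact hd.trans (Phi_fst c (proj h V)).symm
  · exact (Over.w d.hom).trans (Over.w ((Phi c).map (proj h V)).hom).symm

/-- The limit theorem for direct images of a sheaf on the limit. -/
theorem H_limit_push [∀ ⦃a b : ιᵒᵖ⦄ (h : a ⟶ b), PreservesFiniteLimits (EtCoh.pull (Xs.map h))]
    [∀ a, PreservesFiniteLimits (EtCoh.pull (c.π.app a))] [IsDirected ι (· ≤ ·)] [Nonempty ι]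
    [∀ (a b : ιᵒᵖ) (h : a ⟶ b), IsAffineHom (Xs.map h)]
    [∀ a, CompactSpace ↥(Xs.obj a)] [∀ a, QuasiSeparatedSpace ↥(Xs.obj a)] (hc : IsLimit c) (n : ℕ) :
    (∀ ξ : EtCoh.H c.pt F n, ∃ (j : ι) (ξj : EtCoh.H (St Xs j) ((EtCoh.push (pr c j)).obj F) n),
      EtLim.HofPush (pr c j) F n ξj = ξ) ∧
    (∀ (j : ι) (ξj : EtCoh.H (St Xs j) ((EtCoh.push (pr c j)).obj F) n),
      EtLim.HofPush (pr c j) F n ξj = 0 →
        ∃ (k : ι) (hk : j ≤ k), EtLim.HpushTrans (tr Xs hk) (pr c k) (pr c j) (pr_tr c hk) F n ξj = 0) := by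
  obtain ⟨H1, H2⟩ := H_limit hc n (pushSys c F) F (𝟙 _) (stalkLim_push c F hc)
  have key : ∀ (j : ι) (x : EtCoh.H (St Xs j) ((pushSys c F).F j) n),
      EtLim.HofPush (pr c j) F n (x.comp (Abelian.Ext.mk₀ (θ c F j).hom) (add_zero n)) =
        Tv (S := pushSys c F) (G := F) (𝟙 _) j n x := fun j x =>
    (HpullThen_natural (pr c j) (θ c F j).hom (𝟙 _) _ ((EtCoh.pullPushAdj (pr c j)).counit.app F)
      ((alphaAt_push c F j).symm.trans (Category.comp_id _).symm) n x).trans (Abelian.Ext.comp_mk₀_id _)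
  have back : ∀ (j : ι) (ξ : EtCoh.H (St Xs j) ((EtCoh.push (pr c j)).obj F) n),
      (ξ.comp (Abelian.Ext.mk₀ (θ c F j).inv) (add_zero n)).comp (Abelian.Ext.mk₀ (θ c F j).hom) (add_zero n) = ξ :=
    fun j ξ => by
      rw [Abelian.Ext.comp_assoc_of_second_deg_zero, Abelian.Ext.mk₀_comp_mk₀, Iso.inv_hom_id]
      exact Abelian.Ext.comp_mk₀_id _
  refine ⟨fun ξ => ?_, fun j ξj h => ?_⟩
  · obtain ⟨j, x, rfl⟩ := H1 ξ
    exact ⟨j, _, key j x⟩
  · rw [← back j ξj, key] at h
    obtain ⟨k, hk, hk'⟩ := H2 j _ h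
    refine ⟨k, hk, ?_⟩
    let a := pushTr c F hk
    let ε := (EtCoh.pullPushAdj (tr Xs hk)).counit.app ((EtCoh.push (pr c k)).obj F)
    have wε : (EtCoh.pull (tr Xs hk)).map ((θ c F j).hom ≫ a) ≫ ε = (pushSys c F).phi hk ≫ (θ c F k).hom := by
      apply ((EtCoh.pullPushAdj (tr Xs hk)).homEquiv _ _).injective
      rw [Adjunction.homEquiv_naturality_left, Adjunction.homEquiv_naturality_right, Sys.phi,
        Equiv.apply_symm_apply, Adjunction.homEquiv_unit, Adjunction.right_triangle_components, Category.comp_id]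
      exact trans_push c F hk
    change EtLim.HpullThen (tr Xs hk) _ ε n (ξj.comp (Abelian.Ext.mk₀ a) (add_zero n)) = 0
    rw [← back j ξj, Abelian.Ext.comp_assoc_of_second_deg_zero, Abelian.Ext.mk₀_comp_mk₀]
    refine (HpullThen_natural (tr Xs hk) ((θ c F j).hom ≫ a) (θ c F k).hom ((pushSys c F).phi hk) ε wε n _).trans ?_
    exact (congrArg (fun z => Abelian.Ext.comp z (Abelian.Ext.mk₀ (θ c F k).hom) (add_zero n)) hk').trans
      (Abelian.Ext.zero_comp _ _ _ _ _)

end Groth.Agent.EtLim45
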