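import Groth.Prelude.Def_EtBase
import Groth.Agent.Unr55.Et.Stalk
import Groth.Agent.Unr55.Et.Pull

/-!
The fibred etale site of an inverse system of schemes, systems of sheaves on it, and base change to a cone.
-/

set_option autoImplicit false
set_option backward.isDefEq.respectTransparency.types false
universe u

open CategoryTheory CategoryTheory.Limits AlgebraicGeometry Opposite

namespace Groth.Agent.EtLim45

variable {ι : Type u} [Preorder ι] (Xs : ιᵒᵖ ⥤ Scheme.{u})

/-- A stage of the system. -/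
abbrev St (j : ι) : Scheme.{u} := Xs.obj (op j)

/-- A transition morphism. -/
abbrev tr {j k : ι} (h : j ≤ k) : St Xs k ⟶ St Xs j := Xs.map (homOfLE h).op

theorem tr_refl (j : ι) : tr Xs (le_refl j) = 𝟙 _ := Xs.map_id _

theorem tr_trans {j k l : ι} (h : j ≤ k) (h' : k ≤ l) : tr Xs h' ≫ tr Xs h = tr Xs (h.trans h') := by
  rw [← Functor.map_comp]
  rfl

/-- Etale schemes over the stages. -/
structure Obj where
  /-- the stage -/
  idx : ι
  /-- the etale scheme -/
  obj : (St Xs idx).Etale

variable {Xs}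

/-- Morphisms: go to a later stage and map over the transition morphism. -/
@[ext]
structure Hom (A B : Obj Xs) where
  hle : B.idx ≤ A.idx
  /-- the morphism of schemes -/
  left : A.obj.left ⟶ B.obj.left
  w : left ≫ B.obj.hom = A.obj.hom ≫ tr Xs hle

instance : Category (Obj Xs) where
  Hom A B := Hom A B
  id A := ⟨le_rfl, 𝟙 _, (Category.id_comp _).trans ((congrArg (A.obj.hom ≫ ·) (tr_refl Xs A.idx)).trans (Category.comp_id _)).symm⟩
  comp f g := ⟨g.hle.trans f.hle, f.left ≫ g.left, by
    rw [Category.assoc, g.w, ← Category.assoc, f.w, Category.assoc, tr_trans]⟩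
  id_comp f := Hom.ext (Category.id_comp _)
  comp_id f := Hom.ext (Category.comp_id _)
  assoc f g h := Hom.ext (Category.assoc _ _ _)

theorem hom_ext {A B : Obj Xs} {f g : A ⟶ B} (h : f.left = g.left) : f = g := Hom.ext h

@[simp] theorem comp_left {A B C : Obj Xs} (f : A ⟶ B) (g : B ⟶ C) : (f ≫ g).left = f.left ≫ g.left := rfl
@[simp] theorem id_left (A : Obj Xs) : (𝟙 A : A ⟶ A).left = 𝟙 _ := rfl

/-- The inclusion of the site of a stage. -/
def incl (j : ι) : (St Xs j).Etale ⥤ Obj Xs where
  obj U := ⟨j, U⟩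
  map g := ⟨le_rfl, g.left, by rw [tr_refl]; exact (Over.w g.hom).trans (Category.comp_id _).symm⟩
  map_id _ := hom_ext rfl
  map_comp _ _ := hom_ext rfl

/-- The projection from a pulled back object. -/
noncomputable def proj {j k : ι} (h : j ≤ k) (U : (St Xs j).Etale) :
    (⟨k, (EtCoh.bc (tr Xs h)).obj U⟩ : Obj Xs) ⟶ ⟨j, U⟩ :=
  ⟨h, pullback.fst U.hom (tr Xs h), pullback.condition⟩

/-- A morphism seen in the site of a later stage. -/
noncomputable def up {A B : Obj Xs} (f : A ⟶ B) {l : ι} (hl : A.idx ≤ l) :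
    (EtCoh.bc (tr Xs hl)).obj A.obj ⟶ (EtCoh.bc (tr Xs (f.hle.trans hl))).obj B.obj :=
  MorphismProperty.Over.homMk (pullback.lift (pullback.fst A.obj.hom (tr Xs hl) ≫ f.left)
    (pullback.snd A.obj.hom (tr Xs hl)) (by
      rw [Category.assoc, f.w, ← Category.assoc]
      exact (congrArg (· ≫ tr Xs f.hle) pullback.condition).trans ((Category.assoc _ _ _).trans
        (congrArg (pullback.snd A.obj.hom (tr Xs hl) ≫ ·) (tr_trans Xs f.hle hl)))))
    (pullback.lift_snd _ _ _) trivial

theorem up_proj {A B : Obj Xs} (f : A ⟶ B) {l : ι} (hl : A.idx ≤ l) :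
    (incl l).map (up f hl) ≫ proj (f.hle.trans hl) B.obj = proj hl A.obj ≫ f :=
  hom_ext (pullback.lift_fst _ _ _)

/-- The part of a morphism inside the stage of its source. -/
noncomputable def toBc {A B : Obj Xs} (f : A ⟶ B) : A.obj ⟶ (EtCoh.bc (tr Xs f.hle)).obj B.obj :=
  MorphismProperty.Over.homMk (pullback.lift f.left A.obj.hom f.w) (pullback.lift_snd _ _ _) trivial

theorem factor {A B : Obj Xs} (f : A ⟶ B) :
    (incl A.idx).map (toBc f) ≫ proj f.hle B.obj = f :=
  hom_ext (pullback.lift_fst _ _ _)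

theorem proj_naturality {j k : ι} (h : j ≤ k) {U V : (St Xs j).Etale} (g : U ⟶ V) :
    (incl k).map ((EtCoh.bc (tr Xs h)).map g) ≫ proj h V = proj h U ≫ (incl j).map g :=
  hom_ext (EtCoh.isPullback_bc_map (tr Xs h) g).w

variable (Xs)

/-- A system of abelian sheaves on the stages. -/
structure Sys where
  /-- the presheaf on the fibred site -/
  P : (Obj Xs)ᵒᵖ ⥤ AddCommGrpCat.{u + 1}
  isSheaf : ∀ j, Presheaf.IsSheaf (St Xs j).smallEtaleTopology ((incl j).op ⋙ P)

variable {Xs}

/-- The sheaf at a stage. -/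
def Sys.F (S : Sys Xs) (j : ι) : EtCoh.Ab (St Xs j) := ⟨(incl j).op ⋙ S.P, S.isSheaf j⟩

/-- The transition map. -/
noncomputable def Sys.trans (S : Sys Xs) {j k : ι} (h : j ≤ k) :
    S.F j ⟶ (EtCoh.push (tr Xs h)).obj (S.F k) :=
  ⟨{ app := fun V => S.P.map (proj h V.unop).op
     naturality := fun U V g => by
      refine (S.P.map_comp _ _).symm.trans (Eq.trans ?_ (S.P.map_comp _ _))
      exact congrArg S.P.map (congrArg Quiver.Hom.op (proj_naturality h g.unop).symm) }⟩

/-- The transition map, transposed. -/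
noncomputable def Sys.phi (S : Sys Xs) {j k : ι} (h : j ≤ k) :
    (EtCoh.pull (tr Xs h)).obj (S.F j) ⟶ S.F k :=
  ((EtCoh.pullPushAdj (tr Xs h)).homEquiv _ _).symm (S.trans h)

/-- The stagewise components of a morphism of systems. -/
def compAt {S T : Sys Xs} (i : S.P ⟶ T.P) (j : ι) : S.F j ⟶ T.F j :=
  ⟨Functor.whiskerLeft (incl j).op i⟩

theorem trans_natural {S T : Sys Xs} (i : S.P ⟶ T.P) {j k : ι} (h : j ≤ k) :
    compAt i j ≫ T.trans h = S.trans h ≫ (EtCoh.push (tr Xs h)).map (compAt i k) := by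
  refine ObjectProperty.hom_ext _ (NatTrans.ext (funext fun V => ?_))
  exact (i.naturality (proj h V.unop).op).symm

theorem phi_natural {S T : Sys Xs} (i : S.P ⟶ T.P) {j k : ι} (h : j ≤ k) :
    (EtCoh.pull (tr Xs h)).map (compAt i j) ≫ T.phi h = S.phi h ≫ compAt i k := by
  apply ((EtCoh.pullPushAdj (tr Xs h)).homEquiv _ _).injective
  rw [Adjunction.homEquiv_naturality_left, Adjunction.homEquiv_naturality_right, Sys.phi, Sys.phi,
    Equiv.apply_symm_apply, Equiv.apply_symm_apply, trans_natural]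

section Cone

variable (c : Cone Xs)

/-- The projection from the vertex. -/
abbrev pr (j : ι) : c.pt ⟶ St Xs j := c.π.app (op j)

theorem pr_tr {j k : ι} (h : j ≤ k) : pr c k ≫ tr Xs h = pr c j := c.w (homOfLE h).op

/-- Base change to the vertex. -/
noncomputable def Phi : Obj Xs ⥤ c.pt.Etale where
  obj A := (EtCoh.bc (pr c A.idx)).obj A.obj
  map {A B} f := MorphismProperty.Over.homMk (pullback.lift (pullback.fst A.obj.hom (pr c A.idx) ≫ f.left)
    (pullback.snd A.obj.hom (pr c A.idx)) (by
      rw [Category.assoc, f.w, ← Category.assoc]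
      exact (congrArg (· ≫ tr Xs f.hle) pullback.condition).trans ((Category.assoc _ _ _).trans
        (congrArg (pullback.snd A.obj.hom (pr c A.idx) ≫ ·) (pr_tr c f.hle)))))
    (pullback.lift_snd _ _ _) trivial
  map_id A := MorphismProperty.Over.Hom.ext (pullback.hom_ext
    ((pullback.lift_fst _ _ _).trans ((Category.comp_id _).trans (Category.id_comp _).symm))
    ((pullback.lift_snd _ _ _).trans (Category.id_comp _).symm))
  map_comp {A B C} f g := MorphismProperty.Over.Hom.ext (pullback.hom_ext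
    ((pullback.lift_fst _ _ _).trans ((Category.assoc _ _ _).symm.trans
      ((congrArg (· ≫ g.left) (pullback.lift_fst (pullback.fst A.obj.hom (pr c A.idx) ≫ f.left) _ _).symm).trans
        ((Category.assoc _ _ _).trans ((congrArg (_ ≫ ·) (pullback.lift_fst _ _ _).symm).trans
          (Category.assoc _ _ _).symm)))))
    ((pullback.lift_snd _ _ _).trans ((pullback.lift_snd (pullback.fst A.obj.hom (pr c A.idx) ≫ f.left) _ _).symm.trans
      ((congrArg (_ ≫ ·) (pullback.lift_snd _ _ _).symm).trans (Category.assoc _ _ _).symm))))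

theorem Phi_fst {A B : Obj Xs} (f : A ⟶ B) :
    ((Phi c).map f).left ≫ pullback.fst B.obj.hom (pr c B.idx) =
      pullback.fst A.obj.hom (pr c A.idx) ≫ f.left :=
  pullback.lift_fst _ _ _

theorem Phi_incl (j : ι) {U V : (St Xs j).Etale} (g : U ⟶ V) :
    (Phi c).map ((incl j).map g) = (EtCoh.bc (pr c j)).map g := by
  refine MorphismProperty.Over.Hom.ext (pullback.hom_ext ?_ ?_)
  · exact (pullback.lift_fst _ _ _).trans (EtCoh.isPullback_bc_map (pr c j) g).w.symm
  · exact (pullback.lift_snd _ _ _).trans (pullback.lift_snd _ _ _).symm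

/-- The inverse of the base change of a projection. -/
noncomputable def PhiInv {j k : ι} (h : j ≤ k) (U : (St Xs j).Etale) :
    (Phi c).obj ⟨j, U⟩ ⟶ (Phi c).obj ⟨k, (EtCoh.bc (tr Xs h)).obj U⟩ :=
  MorphismProperty.Over.homMk (pullback.lift
    (pullback.lift (pullback.fst U.hom (pr c j)) (pullback.snd U.hom (pr c j) ≫ pr c k)
      (pullback.condition.trans ((congrArg (pullback.snd U.hom (pr c j) ≫ ·) (pr_tr c h)).symm.trans (Category.assoc _ _ _).symm)))
    (pullback.snd U.hom (pr c j)) (pullback.lift_snd _ _ _))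
    (pullback.lift_snd _ _ _) trivial

theorem PhiInv_proj {j k : ι} (h : j ≤ k) (U : (St Xs j).Etale) :
    PhiInv c h U ≫ (Phi c).map (proj h U) = 𝟙 _ := by
  refine MorphismProperty.Over.Hom.ext (pullback.hom_ext ?_ ?_)
  · exact (Category.assoc _ _ _).trans ((congrArg (_ ≫ ·) (Phi_fst c (proj h U))).trans
      ((Category.assoc _ _ _).symm.trans ((congrArg (· ≫ _) (pullback.lift_fst _ _ _)).trans
        ((pullback.lift_fst _ _ _).trans (Category.id_comp _).symm))))
  · exact (Category.assoc _ _ _).trans ((congrArg (_ ≫ ·) (pullback.lift_snd _ _ _)).trans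
      ((pullback.lift_snd _ _ _).trans (Category.id_comp _).symm))

theorem proj_PhiInv {j k : ι} (h : j ≤ k) (U : (St Xs j).Etale) :
    (Phi c).map (proj h U) ≫ PhiInv c h U = 𝟙 _ := by
  refine MorphismProperty.Over.Hom.ext (pullback.hom_ext (pullback.hom_ext ?_ ?_) ?_)
  · simp only [MorphismProperty.Comma.comp_left, MorphismProperty.Comma.id_left, Category.id_comp]
    erw [Category.assoc, Category.assoc, pullback.lift_fst_assoc, pullback.lift_fst]
    exact Phi_fst c (proj h U)
  · simp only [MorphismProperty.Comma.comp_left, MorphismProperty.Comma.id_left, Category.id_comp]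
    erw [Category.assoc, Category.assoc, pullback.lift_fst_assoc, pullback.lift_snd]
    exact (pullback.lift_snd_assoc _ _ _ _).trans pullback.condition.symm
  · exact (Category.assoc _ _ _).trans ((congrArg (_ ≫ ·) (pullback.lift_snd _ _ _)).trans
      ((pullback.lift_snd _ _ _).trans (Category.id_comp _).symm))

theorem isIso_Phi_proj {j k : ι} (h : j ≤ k) (U : (St Xs j).Etale) : IsIso ((Phi c).map (proj h U)) :=
  ⟨PhiInv c h U, proj_PhiInv c h U, PhiInv_proj c h U⟩

/-- The transposes of the stagewise components of a map to a sheaf on the vertex. -/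
def adjAt {S : Sys Xs} {G : EtCoh.Ab c.pt} (a : S.P ⟶ (Phi c).op ⋙ G.obj) (j : ι) :
    S.F j ⟶ (EtCoh.push (pr c j)).obj G :=
  ⟨{ app := fun V => a.app (op ⟨j, V.unop⟩)
     naturality := fun U V g => (a.naturality ((incl j).map g.unop).op).trans
      (congrArg (fun q => a.app _ ≫ G.obj.map q.op) (Phi_incl c j g.unop)) }⟩

/-- The comparison map to the vertex at a stage. -/
noncomputable def alphaAt {S : Sys Xs} {G : EtCoh.Ab c.pt} (a : S.P ⟶ (Phi c).op ⋙ G.obj) (j : ι) :
    (EtCoh.pull (pr c j)).obj (S.F j) ⟶ G :=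
  ((EtCoh.pullPushAdj (pr c j)).homEquiv _ _).symm (adjAt c a j)

theorem alphaAt_natural {S T : Sys Xs} {G G' : EtCoh.Ab c.pt} {a : S.P ⟶ (Phi c).op ⋙ G.obj}
    {b : T.P ⟶ (Phi c).op ⋙ G'.obj} {i : S.P ⟶ T.P} {g : G ⟶ G'}
    (w : i ≫ b = a ≫ Functor.whiskerLeft (Phi c).op g.hom) (j : ι) :
    (EtCoh.pull (pr c j)).map (compAt i j) ≫ alphaAt c b j = alphaAt c a j ≫ g := by
  apply ((EtCoh.pullPushAdj (pr c j)).homEquiv _ _).injective
  rw [Adjunction.homEquiv_naturality_left, Adjunction.homEquiv_naturality_right, alphaAt, alphaAt,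
    Equiv.apply_symm_apply, Equiv.apply_symm_apply]
  exact ObjectProperty.hom_ext _ (NatTrans.ext (funext fun V => congrArg (fun k => k.app (op ⟨j, V.unop⟩)) w))

open Groth.Agent.Unr55.EtSh

/-- The stalks of `G` are the colimits of the stalks of the system. -/
structure StalkLim (S : Sys Xs) {G : EtCoh.Ab c.pt} (a : S.P ⟶ (Phi c).op ⋙ G.obj) : Prop where
  surj : ∀ (K : Type u) [Field K] [IsSepClosed K] (η : Spec (CommRingCat.of K) ⟶ c.pt)
    (g : ((EtCoh.stalk η).obj G : AddCommGrpCat.{u + 1})),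
    ∃ (A : Obj Xs) (t : Pt η ((Phi c).obj A)) (x : S.P.obj (op A)), germ η G t (a.app (op A) x) = g
  inj : ∀ (K : Type u) [Field K] [IsSepClosed K] (η : Spec (CommRingCat.of K) ⟶ c.pt) (A : Obj Xs)
    (t : Pt η ((Phi c).obj A)) (x : S.P.obj (op A)), germ η G t (a.app (op A) x) = 0 →
    ∃ (B : Obj Xs) (f : B ⟶ A) (t' : Pt η ((Phi c).obj B)),
      (Scheme.pointSmallEtale η).fiber.map ((Phi c).map f) t' = t ∧ S.P.map f.op x = 0

/-- Two neighbourhoods have a common refinement, beyond any stage. -/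
theorem common [IsDirected ι (· ≤ ·)] {K : Type u} [Field K] [IsSepClosed K]
    {η : Spec (CommRingCat.of K) ⟶ c.pt} (A B : Obj Xs) (t : Pt η ((Phi c).obj A)) (t' : Pt η ((Phi c).obj B)) :
    ∃ (C : Obj Xs) (f : C ⟶ A) (g : C ⟶ B) (s : Pt η ((Phi c).obj C)),
      (Scheme.pointSmallEtale η).fiber.map ((Phi c).map f) s = t ∧
      (Scheme.pointSmallEtale η).fiber.map ((Phi c).map g) s = t' := by
  obtain ⟨l, hA, hB⟩ := directed_of (· ≤ ·) A.idx B.idx
  let A' := (EtCoh.bc (tr Xs hA)).obj A.obj
  let B' := (EtCoh.bc (tr Xs hB)).obj B.obj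
  have : Etale A'.hom := A'.prop
  have : Etale B'.hom := B'.prop
  let W : (St Xs l).Etale := Scheme.Etale.mk (pullback.fst A'.hom B'.hom ≫ A'.hom)
  let p : W ⟶ A' := MorphismProperty.Over.homMk (pullback.fst A'.hom B'.hom) rfl trivial
  let q : W ⟶ B' := MorphismProperty.Over.homMk (pullback.snd A'.hom B'.hom) pullback.condition.symm trivial
  let sA := (Scheme.pointSmallEtale η).fiber.map (PhiInv c hA A.obj) t
  let sB := (Scheme.pointSmallEtale η).fiber.map (PhiInv c hB B.obj) t'
  let dA := ptDown (pr c l) η (V := A') sA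
  let dB := ptDown (pr c l) η (V := B') sB
  let d : Pt (η ≫ pr c l) W := mkPt _ (pullback.lift (hom _ dA) (hom _ dB) ((Over.w dA).trans (Over.w dB).symm))
    ((pullback.lift_fst_assoc _ _ _ _).trans (Over.w dA))
  let s := ptUp (pr c l) η d
  refine ⟨⟨l, W⟩, (incl l).map p ≫ proj hA A.obj, (incl l).map q ≫ proj hB B.obj, s, ?_, ?_⟩
  · have e : (Scheme.pointSmallEtale η).fiber.map ((Phi c).map ((incl l).map p)) s = sA := by
      have e' : (Scheme.pointSmallEtale (η ≫ pr c l)).fiber.map p d = dA :=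
        Unr55.EtSh.hom_ext _ (pullback.lift_fst _ _ _)
      refine (congrArg (fun k => (Scheme.pointSmallEtale η).fiber.map k s) (Phi_incl c l p)).trans ?_
      refine (ptUp_map (pr c l) η p d).symm.trans ?_
      exact (congrArg (ptUp (pr c l) η) e').trans (ptUp_ptDown (pr c l) η sA)
    refine (congrArg (fun k => (Scheme.pointSmallEtale η).fiber.map k s) ((Phi c).map_comp _ _)).trans ?_
    refine (ConcreteCategory.congr_hom ((Scheme.pointSmallEtale η).fiber.map_comp _ _) s).trans ?_
    refine (congrArg ((Scheme.pointSmallEtale η).fiber.map ((Phi c).map (proj hA A.obj))) e).trans ?_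
    refine (ConcreteCategory.congr_hom ((Scheme.pointSmallEtale η).fiber.map_comp _ _).symm t).trans ?_
    refine (congrArg (fun k => (Scheme.pointSmallEtale η).fiber.map k t) (PhiInv_proj c hA A.obj)).trans ?_
    exact ConcreteCategory.congr_hom ((Scheme.pointSmallEtale η).fiber.map_id _) t
  · have e : (Scheme.pointSmallEtale η).fiber.map ((Phi c).map ((incl l).map q)) s = sB := by
      have e' : (Scheme.pointSmallEtale (η ≫ pr c l)).fiber.map q d = dB :=
        Unr55.EtSh.hom_ext _ (pullback.lift_snd _ _ _)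
      refine (congrArg (fun k => (Scheme.pointSmallEtale η).fiber.map k s) (Phi_incl c l q)).trans ?_
      refine (ptUp_map (pr c l) η q d).symm.trans ?_
      exact (congrArg (ptUp (pr c l) η) e').trans (ptUp_ptDown (pr c l) η sB)
    refine (congrArg (fun k => (Scheme.pointSmallEtale η).fiber.map k s) ((Phi c).map_comp _ _)).trans ?_
    refine (ConcreteCategory.congr_hom ((Scheme.pointSmallEtale η).fiber.map_comp _ _) s).trans ?_
    refine (congrArg ((Scheme.pointSmallEtale η).fiber.map ((Phi c).map (proj hB B.obj))) e).trans ?_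
    refine (ConcreteCategory.congr_hom ((Scheme.pointSmallEtale η).fiber.map_comp _ _).symm t').trans ?_
    refine (congrArg (fun k => (Scheme.pointSmallEtale η).fiber.map k t') (PhiInv_proj c hB B.obj)).trans ?_
    exact ConcreteCategory.congr_hom ((Scheme.pointSmallEtale η).fiber.map_id _) t'

end Cone

end Groth.Agent.EtLim45
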